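import Cfsg.Agent.FusSys.Component.Basic
import Cfsg.Agent.FusSys.AbelianSimple
import Cfsg.Agent.FusSys.Factor
import Cfsg.Agent.FusSys.ConstrainedFactor

/-!
Normal subgroups of quasisimple systems are central, and quasisimple systems are not constrained.
-/

set_option autoImplicit false
set_option maxHeartbeats 400000

namespace Cfsg.Agent.FusSys.Component

open Cfsg Cfsg.FusionSystem Cfsg.Agent.FusSys

universe u

variable {Ω : Type u} [Group Ω] {S T P Q R : Subgroup Ω} {F : FusionSystem S} {p : ℕ}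

theorem hyperfocal_eq_bot_of_fixed (h : ∀ P f, Mor F P f → ∀ x ∈ P, f x = x) :
    F.hyperfocalSubgroup p = ⊥ := by
  refine le_bot_iff.1 ((Subgroup.closure_le _).2 ?_)
  rintro _ ⟨P, α, x, hP, -, rfl⟩
  show (x : Ω)⁻¹ * (((α : MulAut P) x : P) : Ω) ∈ (⊥ : Subgroup Ω)
  rw [← apl_coe, h P _ (iso_apl hP α.2).1 x x.2, inv_mul_cancel]
  exact one_mem _

theorem isCentral_mono (hQ : F.IsCentral Q) (hRQ : R ≤ Q) : F.IsCentral R := by
  obtain ⟨hQS, h⟩ := isCentral_iff.1 hQ
  refine isCentral_iff.2 ⟨hRQ.trans hQS, fun P f hf => ?_⟩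
  obtain ⟨g, hg, hgf, hgQ⟩ := h P f hf
  exact ⟨g, hg.mono (sup_le_sup_left hRQ P), hgf, fun x hx => hgQ x (hRQ hx)⟩

/-- A simple system that is its own `p`-residual has trivial core. -/
theorem core_eq_bot_of_simple [Fact p.Prime] [Finite S] (hS : IsPGroup p S) (hs : F.IsSimple p)
    (hyp : F.hyperfocalSubgroup p = S) : F.core = ⊥ := by
  obtain ⟨hF, hne, hsimp⟩ := hs
  by_contra hc
  obtain ⟨A, hA, hAab, hAsc⟩ := (core_ne_bot_iff hS hF).1 hc
  have hab : ∀ x ∈ A, ∀ y ∈ A, x * y = y * x := fun x hx y hy =>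
    congrArg Subtype.val ((isMulCommutative_iff.1 hAab) ⟨x, hx⟩ ⟨y, hy⟩)
  haveI := finite_of_le hAsc.1
  have hAn : F.IsNormal A := isNormal_of_stronglyClosed_comm hS hF hAsc hab
  have hext := (isNormal_iff_extends hS hF hAsc.1).1 hAn
  rcases hsimp A _ (inner_isNormalIn hS hF hAsc hab hext) with h | ⟨rfl, h⟩
  · exact hA h
  · refine hne (hyp.symm.trans (hyperfocal_eq_bot_of_fixed fun P f hf => ?_))
    obtain ⟨φ, hφ, hφf⟩ := hf
    rw [← h P] at hφ
    exact ((mor_inner_comm hab).1 ⟨φ, hφ, hφf⟩).2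

/-- The quotient map by the centre. -/
theorem exists_centre_factor [Fact p.Prime] [Finite S] (hq : F.Quasisimple p) :
    ∃ Fb : FusionSystem (⊤ : Subgroup (S ⧸ (F.center).subgroupOf S)),
      F.IsFactorSystem F.center (QuotientGroup.mk' ((F.center).subgroupOf S)) Fb ∧ Fb.IsSimple p ∧
      F.StronglyClosed F.center := by
  have hsc : F.StronglyClosed F.center := stronglyClosed_of_isNormal (isCentral_isNormal isCentral_center)
  obtain ⟨Fb, hFb⟩ := exists_factorSystem (θ := QuotientGroup.mk' ((F.center).subgroupOf S))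
    (S' := ⊤) hsc (fun s => (QuotientGroup.eq_one_iff s).trans Subgroup.mem_subgroupOf)
    (MonoidHom.range_eq_top.2 (QuotientGroup.mk'_surjective _))
  exact ⟨Fb, hFb, hq.2.2 Fb hFb, hsc⟩

/-- Normal subgroups of a quasisimple system are central. -/
theorem isCentral_of_quasisimple [Fact p.Prime] [Finite S] (hS : IsPGroup p S) (hq : F.Quasisimple p)
    (hQ : F.IsNormal Q) : F.IsCentral Q := by
  obtain ⟨Fb, hFb, hsimp, hsc⟩ := exists_centre_factor hq
  have hθp : IsPGroup p (⊤ : Subgroup (S ⧸ (F.center).subgroupOf S)) :=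
    (hS.to_quotient _).to_subgroup _
  have hyp : Fb.hyperfocalSubgroup p = ⊤ := by
    rw [factor_hyperfocal hS hq.1 hFb hsc, hq.2.1, Subgroup.subgroupOf_self,
      ← MonoidHom.range_eq_map]
    exact MonoidHom.range_eq_top.2 (QuotientGroup.mk'_surjective _)
  have hbot := core_eq_bot_of_simple hθp hsimp hyp
  have himg := le_core (isNormal_imageAlong hS hq.1 hFb hsc hQ)
  rw [hbot] at himg
  refine isCentral_mono isCentral_center fun x hx => ?_
  have h1 : (QuotientGroup.mk' ((F.center).subgroupOf S)) ⟨x, hQ.1 hx⟩ = 1 :=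
    Subgroup.mem_bot.1 (himg ⟨⟨x, hQ.1 hx⟩, hx, rfl⟩)
  exact Subgroup.mem_subgroupOf.1 ((QuotientGroup.eq_one_iff _).1 h1)

theorem quasisimple_not_constrained [Fact p.Prime] [Finite S] (hS : IsPGroup p S)
    (hq : F.Quasisimple p) : ¬ F.IsConstrained p := by
  intro hc
  obtain ⟨Fb, hFb, hsimp, hsc⟩ := exists_centre_factor hq
  have hcen : F.core ≤ F.center := le_center (isCentral_of_quasisimple hS hq isNormal_core)
  have hScore : S ≤ F.core := fun s hs => core_centralizer_le hc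
    ⟨hs, Subgroup.mem_centralizer_iff.2 fun y hy => (center_le_centralizer F (hcen hy) s hs).symm⟩
  refine hsimp.2.1 ((Subgroup.eq_bot_iff_forall _).2 fun q _ => ?_)
  obtain ⟨s, rfl⟩ := QuotientGroup.mk'_surjective _ q
  exact (QuotientGroup.eq_one_iff _).2 (Subgroup.mem_subgroupOf.2 (hcen (hScore s.2)))

end Cfsg.Agent.FusSys.Component
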