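import Cfsg.Agent.FusSys.Series
import Cfsg.Agent.FusSys.TransportNormal
import Cfsg.Agent.FusSys.SolvableSys
import Cfsg.Agent.FusSys.WeaklyNormalAux
import Cfsg.Agent.FusSys.IndexPrimeSat
import Cfsg.Agent.FusSys.KNorm

/-!
The centralizer system of a normal subgroup is normal; the core of a normal subsystem is normal.
-/

set_option autoImplicit false
set_option maxHeartbeats 400000

namespace Cfsg.Agent.FusSys.Component

open Cfsg Cfsg.FusionSystem Cfsg.Agent.FusSys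

universe u

variable {Ω : Type u} [Group Ω] {S T P Q R : Subgroup Ω} {F : FusionSystem S} {p : ℕ}
variable {E : FusionSystem T} {f g : Ω → Ω}

theorem fullyNormalized_of_stronglyClosed [Finite S] (hT : F.StronglyClosed T) :
    F.IsFullyNormalized T :=
  ⟨hT.1, fun Q _ => by
    rw [show normalizerIn S T = S from
      le_antisymm inf_le_left fun s hs => ⟨hs, StronglyClosed.le_normalizer hT hs⟩]
    exact Subgroup.card_le_of_le inf_le_left⟩

theorem centric_of_normal [Finite S] (hQ : F.IsNormal Q) (hC : centralizerIn S Q ≤ Q) :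
    F.IsCentric Q := by
  refine ⟨hQ.1, fun P hP => ?_⟩
  obtain ⟨φ, hφ⟩ := isConj_iff.1 hP
  obtain rfl : P = Q :=
    hφ.eq_image (StronglyClosed.iso_self (stronglyClosed_of_isNormal hQ) hφ.1 le_rfl)
  exact hC

theorem constrained_of_core [Finite S] (hF : F.IsSaturated p)
    (hC : centralizerIn S F.core ≤ F.core) : F.IsConstrained p :=
  ⟨hF, F.core, isNormal_core, centric_of_normal isNormal_core hC⟩

theorem core_centralizer_le [Finite S] (hc : F.IsConstrained p) :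
    centralizerIn S F.core ≤ F.core := by
  obtain ⟨-, Q, hQ, hQc⟩ := hc
  exact fun c hc' => le_core hQ (centric_self hQc ⟨hc'.1, Subgroup.centralizer_le (le_core hQ) hc'.2⟩)

theorem center_le_core [Finite S] : F.center ≤ F.core := le_core (isCentral_isNormal isCentral_center)

/-- A subgroup normal in an invariant subsystem is carried to a normal subgroup by `Aut_F(T)`. -/
theorem isNormal_map [Fact p.Prime] [Finite S] (hS : IsPGroup p S) (hsat : E.IsSaturated p)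
    (hE : E.IsInvariantIn F) (hR : E.IsNormal R) {β : MulAut T} (hβ : β ∈ F.autGroup T) :
    E.IsNormal ((R.subgroupOf T).map (T.subtype.comp β.toMonoidHom)) := by
  have hTS := hE.2.1.1
  haveI := finite_of_le hTS
  have hTp := hS.to_le hTS
  have hRT := hR.1
  obtain ⟨R', hR'⟩ : ∃ R', (R.subgroupOf T).map (T.subtype.comp β.toMonoidHom) = R' := ⟨_, rfl⟩
  rw [hR']
  have hR'T : R' ≤ T := by rw [← hR']; rintro _ ⟨x, -, rfl⟩; exact (β x).2
  have hmem : ∀ y, y ∈ R' ↔ ∃ x ∈ R, apl β x = y := fun y => by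
    rw [← hR']
    constructor
    · rintro ⟨x, hx, rfl⟩; exact ⟨x, hx, apl_coe β x⟩
    · rintro ⟨x, hx, rfl⟩; exact ⟨⟨x, hRT hx⟩, hx, (apl_apply β (hRT hx)).symm⟩
  refine (isNormal_iff_extends hTp hsat hR'T).2 fun P f hP hf => ?_
  obtain ⟨h, hh, hhx⟩ := exists_transport hE hf (Subgroup.inv_mem _ hβ)
  obtain ⟨P₀, hP₀⟩ : ∃ P₀, (P.subgroupOf T).map (T.subtype.comp (β⁻¹).toMonoidHom) = P₀ :=
    ⟨_, rfl⟩
  rw [hP₀] at hh
  have hP₀R : P₀ ≤ R := fun y hy => by
    rw [← hP₀] at hy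
    obtain ⟨x, hx, rfl⟩ := hy
    obtain ⟨z, hz, hzx⟩ := (hmem _).1 (hP hx)
    show ((β⁻¹ x : T) : Ω) ∈ R
    rw [← apl_coe β⁻¹ x, show (x : Ω) = apl β z from hzx.symm, apl_inv_apl β (hRT hz)]
    exact hz
  obtain ⟨α, hα, hαx⟩ := (isNormal_iff_extends hTp hsat hRT).1 hR P₀ h hP₀R hh
  obtain ⟨k, hk, hkx⟩ := exists_transport hE (iso_apl hRT hα).1 hβ
  rw [hR'] at hk
  have hk' : ∀ y ∈ R', k y ∈ R' := fun y hy => by
    obtain ⟨x, hx, rfl⟩ := (hmem y).1 hy
    rw [hkx x hx]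
    exact (hmem _).2 ⟨_, apl_mem α hx, rfl⟩
  obtain ⟨γ, hγ, hγx⟩ := (show Iso E R' R' k from ⟨hk, fun y =>
    ⟨fun hy => hk.surj_of_card hR'T hk' le_rfl hy,
      fun ⟨x, hx, hxy⟩ => hxy ▸ hk' x hx⟩⟩).exists_mem_autGroup
  refine ⟨γ, hγ, fun x hx => ?_⟩
  obtain ⟨z, hz, hzx⟩ := (hmem x).1 (hP hx)
  have h1 : apl β⁻¹ x = z := by rw [← hzx, apl_inv_apl β (hRT hz)]
  have hzP : z ∈ P₀ := by
    rw [← hP₀, ← h1]
    exact ⟨⟨x, hR'T (hP hx)⟩, hx, (apl_apply β⁻¹ (hR'T (hP hx))).symm⟩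
  rw [hγx x (hP hx)]
  conv_lhs => rw [← hzx, hkx z hz, hαx z hzP, ← h1, hhx x hx, apl_apl_inv β (hf.mem_S hx)]

theorem mor_of_invariant (hE : E.IsInvariantIn F) (hf : Mor E P f) : Mor F P f :=
  isSubsystemOf_iff_mor.1 hE.1 P f hf

/-- The core of a weakly normal subsystem is normal. -/
theorem core_normal [Fact p.Prime] [Finite S] (hS : IsPGroup p S) (hE : E.IsWeaklyNormalIn F p) :
    F.IsNormal E.core := by
  obtain ⟨hsat, hF, hinv⟩ := hE
  have hTS := hinv.2.1.1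
  haveI := finite_of_le hTS
  have hTp := hS.to_le hTS
  have hR : E.IsNormal E.core := isNormal_core
  have hRT := hR.1
  have hRS := hRT.trans hTS
  haveI := finite_of_le hRS
  have hinvR : ∀ β ∈ F.autGroup T, ∀ x ∈ E.core, apl β x ∈ E.core := fun β hβ x hx =>
    le_core (isNormal_map hS hsat hinv hR hβ) ⟨⟨x, hRT hx⟩, hx, (apl_apply β (hRT hx)).symm⟩
  refine (isNormal_iff_extends hS hF hRS).2 fun P f hP hf => ?_
  obtain ⟨β, hβ, e, he, hfe⟩ := exists_frattini hinv (hP.trans hRT) hf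
  obtain ⟨α, hα, hαx⟩ := (isNormal_iff_extends hTp hsat hRT).1 hR P e hP he
  have hm : Mor F E.core (apl β ∘ apl α) :=
    (mor_of_invariant hinv (iso_apl hRT hα).1).comp (iso_apl hTS hβ).1 fun x hx => hRT (apl_mem α hx)
  have hm' : ∀ x ∈ E.core, (apl β ∘ apl α) x ∈ E.core := fun x hx => hinvR β hβ _ (apl_mem α hx)
  obtain ⟨γ, hγ, hγx⟩ := (show Iso F E.core E.core _ from ⟨hm, fun y =>
    ⟨fun hy => hm.surj_of_card hRS hm' le_rfl hy,
      fun ⟨x, hx, hxy⟩ => hxy ▸ hm' x hx⟩⟩).exists_mem_autGroup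
  refine ⟨γ, hγ, fun x hx => ?_⟩
  rw [hγx x (hP hx), hfe x hx]
  show apl β (apl α x) = _
  rw [hαx x hx]

theorem core_le [Fact p.Prime] [Finite S] (hS : IsPGroup p S) (hE : E.IsWeaklyNormalIn F p) :
    E.core ≤ F.core := le_core (core_normal hS hE)

/-- The centralizer system of a normal subgroup is normal. -/
theorem centSys_normal [Fact p.Prime] [Finite S] (hS : IsPGroup p S) (hF : F.IsSaturated p)
    (hQ : F.IsNormal Q) : (centralizerSys F hQ.1).IsNormalIn F p := by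
  have hCS := centralizerIn_le S Q
  haveI := finite_of_le hCS
  have hQc := stronglyClosed_of_isNormal hQ
  have hC := stronglyClosed_centralizer_of_normal hS hF hQ
  have hQfc := fullyCentralized_of_fullyNormalized hS hF (fullyNormalized_of_stronglyClosed hQc)
  have hsys := isCentralizerSystem_centralizerSys (F := F) hQ.1
  have hmor : ∀ {P : Subgroup Ω} {f : Ω → Ω},
      Mor (centralizerSys F hQ.1) P f ↔ Mor F P f ∧ CRel F Q P f := mor_centralizerSystem hsys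
  have hext := (isNormal_iff.1 hQ).2
  refine ⟨⟨centralizerSystem_saturated hS hF hQfc hsys, hF,
    invariant_of_mor (isSubsystemOf_iff_mor.2 fun P f hf => (hmor.1 hf).1) hC ?_ ?_⟩, ?_⟩
  · intro P f hf β hβ
    obtain ⟨hfF, hPC, hfC, k, hk, hkf, hkQ⟩ := hmor.1 hf
    obtain ⟨g, hg, hgβ, hgQ⟩ := hext _ _ (iso_apl hCS hβ).1
    obtain ⟨X, hX⟩ := hg.exists_iso
    obtain ⟨r, hr, hrg, -⟩ := hX.symm
    obtain ⟨P', hP'⟩ : ∃ P', (P.subgroupOf (centralizerIn S Q)).map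
        ((centralizerIn S Q).subtype.comp β.toMonoidHom) = P' := ⟨_, rfl⟩
    rw [hP']
    have hmem : ∀ y, y ∈ P' ↔ ∃ x ∈ P, apl β x = y := fun y => by
      rw [← hP']
      constructor
      · rintro ⟨x, hx, rfl⟩; exact ⟨x, hx, apl_coe β x⟩
      · rintro ⟨x, hx, rfl⟩; exact ⟨⟨x, hPC hx⟩, hx, (apl_apply β (hPC hx)).symm⟩
    have hP'C : P' ≤ centralizerIn S Q := fun y hy => by
      obtain ⟨x, hx, rfl⟩ := (hmem y).1 hy; exact apl_mem β (hPC hx)
    have hkmem : ∀ x ∈ P ⊔ Q, k x ∈ centralizerIn S Q ⊔ Q := fun x hx => hk.mem_of_sup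
      (fun a ha => Subgroup.mem_sup_left (hkf a ha ▸ hfC a ha))
      (fun a ha => Subgroup.mem_sup_right (by rw [hkQ a ha]; exact ha)) hx
    have hgPQ : ∀ y ∈ P' ⊔ Q, ∃ x ∈ P ⊔ Q, g x = y := by
      have hmg : Mor F (P ⊔ Q) g := hg.mono (sup_le_sup_right hPC Q)
      obtain ⟨Y, hY⟩ := hmg.exists_iso
      have hle : P' ⊔ Q ≤ Y := sup_le (fun y hy => by
          obtain ⟨x, hx, rfl⟩ := (hmem y).1 hy
          rw [← hgβ x (hPC hx)]
          exact hY.mem (Subgroup.mem_sup_left hx)) fun y hy => by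
          obtain ⟨x, hx, rfl⟩ := (hgQ y).1 hy
          exact hY.mem (Subgroup.mem_sup_right hx)
      exact fun y hy => hY.exists_eq (hle hy)
    have hrle : P' ⊔ Q ≤ X := fun y hy => by
      obtain ⟨x, hx, rfl⟩ := hgPQ y hy; exact hX.mem (sup_le_sup_right hPC Q hx)
    have hrmem : ∀ y ∈ P' ⊔ Q, r y ∈ P ⊔ Q := fun y hy => by
      obtain ⟨x, hx, rfl⟩ := hgPQ y hy
      rw [hrg x (sup_le_sup_right hPC Q hx)]; exact hx
    have hm : Mor F (P' ⊔ Q) (g ∘ k ∘ r) :=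
      ((hr.1.mono hrle).comp hk hrmem).comp hg fun y hy => hkmem _ (hrmem y hy)
    have hval : ∀ x ∈ P, (g ∘ k ∘ r) (apl β x) = apl β (f x) := fun x hx => by
      show g (k (r (apl β x))) = _
      rw [← hgβ x (hPC hx), hrg x (Subgroup.mem_sup_left (hPC hx)), hkf x hx, hgβ _ (hfC x hx)]
    refine ⟨g ∘ k ∘ r, hmor.2 ⟨hm.mono le_sup_left, hP'C, fun y hy => ?_, g ∘ k ∘ r, hm,
      fun _ _ => rfl, fun y hy => ?_⟩, hval⟩
    · obtain ⟨x, hx, rfl⟩ := (hmem y).1 hy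
      rw [hval x hx]
      exact apl_mem β (hfC x hx)
    · obtain ⟨x, hx, rfl⟩ := (hgQ y).1 hy
      show g (k (r (g x))) = _
      rw [hrg x (Subgroup.mem_sup_right hx), hkQ x hx]
  · intro P f hP hf
    obtain ⟨g, hg, hgf, hgQ⟩ := hext P f hf
    have hiQ : Iso F Q Q g := ⟨hg.mono le_sup_right, hgQ⟩
    obtain ⟨h, hh, hhg⟩ := (isReceptive_iff.1 (receptive_of_fullyNormalized hS hF
      (fullyNormalized_of_stronglyClosed hQc))).2 Q g hiQ
    have hhI := iso_core_of_mor (hh.mono (sup_le hiQ.1.le_nPhi centralizerIn_le_nPhi)) le_rfl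
      (hiQ.congr hhg)
    obtain ⟨r, hr, hrh, hhr⟩ := hhI.symm
    have hhC := StronglyClosed.iso_self hC hhI.1 le_sup_right
    obtain ⟨β, hβ, hβx⟩ := hhC.exists_mem_autGroup
    have hPI : P ⊔ Q ≤ Q ⊔ centralizerIn S Q := sup_le (hP.trans le_sup_right) le_sup_left
    have hgmem : ∀ x ∈ P ⊔ Q, g x ∈ Q ⊔ centralizerIn S Q := fun x hx => hg.mem_of_sup
      (fun a ha => Subgroup.mem_sup_right
        (StronglyClosed.mor_mem hC hg (Subgroup.mem_sup_left ha) (hP ha)))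
      (fun a ha => Subgroup.mem_sup_left (hiQ.mem ha)) hx
    have hm : Mor F (P ⊔ Q) (r ∘ g) := hg.comp hr.1 hgmem
    have hrC : ∀ x ∈ P, r (g x) ∈ centralizerIn S Q := fun x hx =>
      StronglyClosed.mor_mem hC hm (Subgroup.mem_sup_left hx) (hP hx)
    refine ⟨β, hβ, r ∘ g, hmor.2 ⟨hm.mono le_sup_left, hP, hrC, r ∘ g, hm, fun _ _ => rfl,
      fun x hx => ?_⟩, fun x hx => ?_⟩
    · show r (g x) = x
      rw [← hhg x hx, hrh x (Subgroup.mem_sup_left hx)]
    · show f x = apl β (r (g x))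
      rw [hβx _ (hrC x hx), hhr _ (hgmem x (Subgroup.mem_sup_left hx)), hgf x hx]
  · intro α hα
    obtain ⟨C, hCdef⟩ : ∃ C, C = centralizerIn S Q := ⟨_, rfl⟩
    obtain ⟨hαF, -, -, k, hk, hkα, hkQ⟩ := hmor.1 (iso_apl le_rfl hα).1
    have hCQ : centralizerIn S Q ⊔ Q ≤ S := sup_le hCS hQ.1
    haveI := finite_of_le hCQ
    have hCn : ∀ s ∈ S, s ∈ Subgroup.normalizer ((centralizerIn S Q ⊔ Q : Subgroup Ω) : Set Ω) :=
      fun s hs => mem_normalizer_of_conj_mem fun x hx =>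
        (mor_conj (F := F) hCQ hs).mem_of_sup
          (fun a ha => Subgroup.mem_sup_left (isStronglyClosed_normal hC hs ha))
          (fun a ha => Subgroup.mem_sup_right (isStronglyClosed_normal hQc hs ha)) hx
    have hfn : F.IsFullyNormalized (centralizerIn S Q ⊔ Q) := ⟨hCQ, fun X _ => by
      rw [show normalizerIn S (centralizerIn S Q ⊔ Q) = S from
        le_antisymm inf_le_left fun s hs => ⟨hs, hCn s hs⟩]
      exact Subgroup.card_le_of_le inf_le_left⟩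
    have hkmem : ∀ x ∈ centralizerIn S Q ⊔ Q, k x ∈ centralizerIn S Q ⊔ Q := fun x hx =>
      hk.mem_of_sup (fun a ha => Subgroup.mem_sup_left (hkα a ha ▸ apl_mem α ha))
        (fun a ha => Subgroup.mem_sup_right (by rw [hkQ a ha]; exact ha)) hx
    have hki : Iso F (centralizerIn S Q ⊔ Q) (centralizerIn S Q ⊔ Q) k := ⟨hk, fun y =>
      ⟨fun hy => hk.surj_of_card hCQ hkmem le_rfl hy, fun ⟨x, hx, hxy⟩ => hxy ▸ hkmem x hx⟩⟩
    obtain ⟨h, hh, hhk⟩ := (isReceptive_iff.1 (receptive_of_fullyNormalized hS hF hfn)).2 _ k hki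
    have hkC : ∀ c ∈ centralizerIn S (centralizerIn S Q),
        c ∈ nPhi S (centralizerIn S Q ⊔ Q) k := fun c hc => by
      refine ⟨hc.1, hCn c hc.1, c, hc.1, fun x hx => ?_⟩
      have hm1 := (mor_conj (F := F) hCQ hc.1)
      refine Mor.eqOn_sup ((hm1.comp hk fun y hy => (Subgroup.mem_normalizer_iff.1 (hCn c hc.1) y).1 hy))
        (hk.conjComp hc.1) (fun a ha => ?_) (fun a ha => ?_) hx
      · show k (c * a * c⁻¹) = c * k a * c⁻¹
        have e1 : ∀ b ∈ centralizerIn S Q, c * b * c⁻¹ = b := fun b hb => by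
          rw [← Subgroup.mem_centralizer_iff.1 hc.2 b hb, mul_inv_cancel_right]
        rw [e1 a ha, e1 _ (hkα a ha ▸ apl_mem α ha)]
      · show k (c * a * c⁻¹) = c * k a * c⁻¹
        rw [hkQ a ha, hkQ _ (isStronglyClosed_normal hQc hc.1 ha)]
    obtain ⟨W, hW⟩ : ∃ W, centralizerIn S Q ⊔ centralizerIn S (centralizerIn S Q) = W := ⟨_, rfl⟩
    have hWS : W ≤ S := hW ▸ sup_le hCS (centralizerIn_le _ _)
    have hWn : W ≤ nPhi S (centralizerIn S Q ⊔ Q) k :=
      hW ▸ sup_le (le_sup_left.trans hki.1.le_nPhi) hkC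
    have hhW := hh.mono hWn
    have hhC : ∀ x ∈ centralizerIn S Q, h x = apl α x := fun x hx => by
      rw [hhk x (Subgroup.mem_sup_left hx), hkα x hx]
    have hiC : Iso F (centralizerIn S Q) (centralizerIn S Q) h := (iso_apl hCS
      (Subgroup.subset_closure (hαF.hom_eq fun x => (apl_coe α x).symm))).congr hhC
    subst hW
    obtain ⟨b, hb, hbx⟩ := (iso_core_of_mor hhW le_rfl hiC).exists_mem_autGroup
    refine ⟨b, hb, fun x => ?_, fun c hc => ?_⟩
    · rw [← apl_coe, ← apl_coe]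
      show apl b (x : Ω) = apl α x
      rw [hbx _ (Subgroup.mem_sup_left x.2), hhC x x.2]
    · rw [← apl_coe, hbx _ c.2]
      have hcC : h c ∈ centralizerIn S (centralizerIn S Q) := by
        refine ⟨hhW.mem_S c.2, (hhW.mem_centralizerIn le_sup_left hiC c.2 hc.2).2⟩
      have hh' := hh.mono (sup_le (hki.1.le_nPhi) hkC)
      refine ⟨⟨S.mul_mem (S.inv_mem hc.1) hcC.1, Subgroup.mem_centralizer_iff.2 fun q hq => ?_⟩,
        Subgroup.mul_mem _ (Subgroup.inv_mem _ hc.2) hcC.2⟩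
      have hcq : (c : Ω) * q * (c : Ω)⁻¹ ∈ Q := isStronglyClosed_normal hQc hc.1 hq
      have h1 := hh'.map_conj (Subgroup.mem_sup_right hc) (Subgroup.mem_sup_left (Subgroup.mem_sup_right hq))
      rw [hhk _ (Subgroup.mem_sup_right hcq), hkQ _ hcq, hhk q (Subgroup.mem_sup_right hq),
        hkQ q hq] at h1
      calc q * ((c : Ω)⁻¹ * h c) = (c : Ω)⁻¹ * (c * q * (c : Ω)⁻¹) * h c := by group
        _ = (c : Ω)⁻¹ * h c * q := by rw [h1]; group

end Cfsg.Agent.FusSys.Component
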