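import Cfsg.Agent.FusSys.Component.Centralize
import Cfsg.Agent.FusSys.CentralLift.Normal
import Cfsg.Agent.FusSys.PrimeLimit
import Cfsg.Agent.FusSys.ResidualNormal
import Cfsg.Agent.FusSys.ElemCrit

/-!
A saturated system that is not constrained has a component.
-/

set_option autoImplicit false
set_option maxHeartbeats 800000

namespace Cfsg.Agent.FusSys.Component

open Cfsg Cfsg.FusionSystem Cfsg.Agent.FusSys

universe u

variable {Ω : Type u} [Group Ω] {S T P Q : Subgroup Ω} {F : FusionSystem S} {p : ℕ}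
variable {f : Ω → Ω}

theorem weaklyNormal_self [Finite S] (hF : F.IsSaturated p) : F.IsWeaklyNormalIn F p := by
  refine ⟨hF, hF, invariant_of_mor (fun _ _ h => h)
    (stronglyClosed_iff.2 ⟨le_rfl, fun _ _ _ h x hx => h.mem_S hx⟩) (fun P f hf β hβ => ?_)
    fun P f hP hf => ⟨1, Subgroup.one_mem _, f, hf, fun x hx => (apl_one (hf.mem_S hx)).symm⟩⟩
  obtain ⟨R, hR⟩ := ((iso_apl le_rfl hβ).1.mono hf.le).exists_iso
  obtain ⟨d, hd, hdl, -⟩ := hR.symm
  have hRe : (P.subgroupOf S).map (S.subtype.comp β.toMonoidHom) = R := by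
    ext y
    constructor
    · rintro ⟨x, hx, rfl⟩
      show ((β x : S) : Ω) ∈ R
      rw [← apl_coe β x]
      exact hR.mem hx
    · intro hy
      obtain ⟨x, hx, rfl⟩ := hR.exists_eq hy
      exact ⟨⟨x, hf.le hx⟩, hx, (apl_coe β ⟨x, hf.le hx⟩).symm⟩
  rw [hRe]
  refine ⟨apl β ∘ f ∘ d, (hd.1.comp hf fun x hx => hd.mem hx).comp (iso_apl le_rfl hβ).1
    fun x hx => hf.mem_S (hd.mem hx), fun x hx => ?_⟩
  show apl β (f (d (apl β x))) = _
  rw [hdl x hx]

/-- A least normal subsystem over the whole group. -/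
theorem exists_residual [Fact p.Prime] [Finite S] (hS : IsPGroup p S) (hF : F.IsSaturated p) :
    ∃ L : FusionSystem S, L.IsNormalIn F p ∧
      (∀ (T : Subgroup Ω) (D : FusionSystem T), T = S → D.IsWeaklyNormalIn F p →
        ∀ P f, Mor L P f → Mor D P f) ∧
      ∀ (T : Subgroup Ω) (D : FusionSystem T), T = S → D.IsWeaklyNormalIn L p →
        ∀ P f, Mor L P f → Mor D P f := by
  have hw := weaklyNormal_self (p := p) hF
  have hn := pPrimeResidual_normal hS hw
  have hres : F.IsPPrimeResidual p (clsSys (goodGam_gamMin (F := F) (p := p))) :=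
    ⟨clsSys_saturated goodGam_gamMin hS hF, clsSys_hasPrimeIndex goodGam_gamMin hS hF,
      fun _ hD hDi => clsSys_le_of_primeIndex hS hF hD hDi⟩
  have hidem := PrimeLimit.residual_idem hres
  refine ⟨_, hn, fun T D hT hD P f hf => ?_, fun T D hT hD P f hf => ?_⟩
  · subst hT
    exact isSubsystemOf_iff_mor.1 (clsSys_le_weak hS hw hD) P f hf
  · subst hT
    have h1 := hidem.2.2 _ (clsSys_saturated goodGam_gamMin hS hn.1.1)
      (clsSys_hasPrimeIndex goodGam_gamMin hS hn.1.1)
    exact isSubsystemOf_iff_mor.1 (clsSys_le_weak hS (weaklyNormal_self hn.1.1) hD) P f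
      (isSubsystemOf_iff_mor.1 h1 P f hf)

/-- A system whose hyperfocal subgroup is central has only `p`-groups of automorphisms. -/
theorem aut_isPGroup_of_central [Fact p.Prime] [Finite S] (hS : IsPGroup p S)
    (hQ : F.IsCentral Q) (hh : F.hyperfocalSubgroup p ≤ Q) (hP : P ≤ S) :
    IsPGroup p (F.autGroup P) := by
  haveI := finite_of_le hP
  haveI : Finite (MulAut P) := Finite.of_injective _ MulEquiv.toEquiv_injective
  intro γ
  obtain ⟨a, b, hab, -, -, hb, ⟨k, hk⟩, hco⟩ :=
    Cfsg.Agent.Fusion.exists_pPart_mul (p := p) (γ : MulAut P) (isOfFinOrder_of_finite _)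
  have hbF : b ∈ F.autGroup P := Subgroup.zpowers_le.2 γ.2 hb
  have hb1 : b = 1 := apl_ext fun x hx => by
    rw [apl_one hx]
    refine eq_of_fixed_quot (hS.to_le hP) hco hx ?_
    have hz : x⁻¹ * apl b x ∈ Q := hh (Subgroup.subset_closure ⟨P, ⟨b, hbF⟩, ⟨x, hx⟩, hP,
      Subgroup.subset_closure (show (orderOf (⟨b, hbF⟩ : F.autGroup P)).Coprime p by
        rwa [Subgroup.orderOf_mk]), by rw [apl_apply b hx]⟩)
    obtain ⟨g, -, hgb, hgQ⟩ := (isCentral_iff.1 hQ).2 P _ (iso_apl hP hbF).1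
    rw [← hgb _ (P.mul_mem (P.inv_mem hx) (apl_mem b hx)), hgQ _ hz]
  refine ⟨k, Subtype.ext ?_⟩
  rw [SubmonoidClass.coe_pow, hab, hb1, mul_one]
  exact orderOf_dvd_iff_pow_eq_one.1 hk

/-- The top subgroup is normal in the inner system. -/
theorem top_normal_of_inner [Finite S] (h : F = innerFusionSystem S) : F.IsNormal S := by
  subst h
  refine isNormal_iff.2 ⟨le_rfl, fun P f hf => ?_⟩
  obtain ⟨hP, g, hg, hfg⟩ := mor_inner.1 hf
  refine ⟨fun x => g * x * g⁻¹, mor_conj (sup_le hP le_rfl) hg, fun x hx => (hfg x hx).symm,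
    fun y => ⟨fun hy => ⟨g⁻¹ * y * g, S.mul_mem (S.mul_mem (S.inv_mem hg) hy) hg, by group⟩, ?_⟩⟩
  rintro ⟨x, hx, rfl⟩
  exact S.mul_mem (S.mul_mem hg hx) (S.inv_mem hg)

/-- A system that is not constrained, is its own least normal subsystem over the whole group, has
central core and only central proper normal subsystems, is quasisimple. -/
theorem quasisimple_of [Fact p.Prime] [Finite S] (hS : IsPGroup p S) (hF : F.IsSaturated p)
    (hnc : ¬ F.IsConstrained p) (hcen : F.core ≤ F.center)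
    (hmin : ∀ (T : Subgroup Ω) (D : FusionSystem T), T = S → D.IsWeaklyNormalIn F p →
      ∀ P f, Mor F P f → Mor D P f)
    (hsmall : ∀ (T : Subgroup Ω) (E : FusionSystem T), E.IsNormalIn F p → T < S → T ≤ F.center) :
    F.Quasisimple p := by
  have hZc : F.StronglyClosed F.center :=
    stronglyClosed_of_isNormal (isCentral_isNormal isCentral_center)
  have hZS := hZc.1
  have hproper : ¬ S ≤ F.center := fun h => hnc (constrained_of_core hF fun x hx =>
    center_le_core (h hx.1))
  have hhyp : F.hyperfocalSubgroup p = S := by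
    by_contra hne
    obtain ⟨D, hD⟩ := PrimeLimit.exists_pResidual hS hF
    have hH := hyperfocal_le F p
    have hn := PPI.normal_of_pPowerIndex hS hF hH (fun s hs x hx => (hyperfocal_conj_iff hs (hH hx)).2 hx)
      hD.1 hD.2
    have hHQ := hsmall _ D hn (lt_of_le_of_ne hH hne)
    have heq := eq_inner_of_pGroups hS hF fun P hP =>
      aut_isPGroup_of_central hS isCentral_center hHQ hP
    exact hproper ((le_core (top_normal_of_inner heq)).trans hcen)
  refine ⟨hF, hhyp, fun Fb hFb => ⟨factor_saturated hS hF hFb hZc, ?_, fun T' Eb hEb => ?_⟩⟩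
  · intro h
    refine hproper fun s hs => ?_
    have h1 : QuotientGroup.mk' ((F.center).subgroupOf S) ⟨s, hs⟩ ∈
        (⊥ : Subgroup (S ⧸ (F.center).subgroupOf S)) := h ▸ Subgroup.mem_top _
    exact (hFb.2.1 ⟨s, hs⟩).1 (Subgroup.mem_bot.1 h1)
  obtain ⟨X, hX, hXE, -⟩ := CL.Setting.exists_lift_normal
    (show CL.Setting p F F.center (QuotientGroup.mk' ((F.center).subgroupOf S)) Fb Eb from
      ⟨hS, hF, hFb, isCentral_center, hEb⟩)
  have hsurj := QuotientGroup.mk'_surjective ((F.center).subgroupOf S)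
  have hpre : preimageAlong (QuotientGroup.mk' ((F.center).subgroupOf S)) T' ≤ S := pre_le
  rcases lt_or_eq_of_le hpre with hlt | heq
  · left
    refine (Subgroup.eq_bot_iff_forall _).2 fun q hq => ?_
    obtain ⟨s, rfl⟩ := hsurj q
    refine (hFb.2.1 s).2 (hsmall _ X hX hlt (mem_pre.2 ⟨s.2, ?_⟩))
    rw [thFn_coe]
    exact hq
  · right
    have hT' : T' = ⊤ := eq_top_iff.2 fun q _ => by
      obtain ⟨s, rfl⟩ := hsurj q
      have h1 : (s : Ω) ∈ preimageAlong (QuotientGroup.mk' ((F.center).subgroupOf S)) T' :=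
        heq.ge s.2
      rw [← thFn_coe (θ := QuotientGroup.mk' ((F.center).subgroupOf S)) s]
      exact (mem_pre.1 h1).2
    refine ⟨hT', fun P' => Set.Subset.antisymm (hEb.1.2.2.1 P') fun φ' hφ' => ?_⟩
    obtain ⟨hP', f, hf, hind⟩ := (mor_factor hFb hZc).1 (mor_extendFn hφ')
    have hfX := hmin _ X heq hX.1 _ f hf
    obtain ⟨f', hf', hf'x⟩ := hXE _ f hfX
    have hle : P' ≤ imageAlong (QuotientGroup.mk' ((F.center).subgroupOf S))
        (preimageAlong (QuotientGroup.mk' ((F.center).subgroupOf S)) P') := fun z hz => by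
      obtain ⟨x, hx, rfl⟩ := exists_pre (hFb.2.2.1 ▸ hP') hz
      exact (mem_imageAlong pre_le).2 ⟨x, hx, rfl⟩
    refine ((hf'.mono hle).congr (g := extendFn φ') fun z hz => ?_).hom_eq
      fun x => (extendFn_coe φ' x).symm
    obtain ⟨x, hx, rfl⟩ := exists_pre (hFb.2.2.1 ▸ hP') hz
    rw [hind x hx, hf'x x hx]

/-- A saturated system that is not constrained has a component. -/
theorem exists_component [Fact p.Prime] [Finite S] (hS : IsPGroup p S) (hF : F.IsSaturated p)
    (hnc : ¬ F.IsConstrained p) :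
    ∃ (T : Subgroup Ω) (C : FusionSystem T), C.IsComponentIn F p := by
  suffices H : ∀ n, ∀ {S : Subgroup Ω} [Finite S] (F : FusionSystem S), Nat.card S = n →
      IsPGroup p S → F.IsSaturated p → ¬ F.IsConstrained p →
      ∃ (T : Subgroup Ω) (C : FusionSystem T), C.IsComponentIn F p from H _ F rfl hS hF hnc
  clear hnc hF hS
  intro n
  induction n using Nat.strong_induction_on with
  | _ n ih =>
  intro S _ F hn hS hF hnc
  have small : ∀ {T : Subgroup Ω} (E : FusionSystem T), E.IsNormalIn F p → T < S →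
      ¬ E.IsConstrained p → ∃ (U : Subgroup Ω) (C : FusionSystem U), C.IsComponentIn F p := by
    intro T E hE hlt hEc
    haveI := finite_of_le hlt.le
    obtain ⟨U, C, hC, hCq⟩ := ih _ (hn ▸ card_lt_of_lt' le_rfl hlt) E rfl (hS.to_le hlt.le)
      hE.1.1 hEc
    exact ⟨U, C, .step hC hE, hCq⟩
  by_cases hall : ∃ (T : Subgroup Ω) (E : FusionSystem T), E.IsNormalIn F p ∧ T < S ∧
      ¬ E.IsConstrained p
  · obtain ⟨T, E, hE, hlt, hEc⟩ := hall
    exact small E hE hlt hEc
  replace hall : ∀ (T : Subgroup Ω) (E : FusionSystem T), E.IsNormalIn F p → T < S →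
      E.IsConstrained p := fun T E hE hlt => by
    by_contra hEc
    exact hall ⟨T, E, hE, hlt, hEc⟩
  have hQ : F.IsNormal F.core := isNormal_core
  have hG := centSys_normal hS hF hQ
  have hCS : centralizerIn S F.core = S := by
    by_contra hne
    have hlt : centralizerIn S F.core < S := lt_of_le_of_ne (centralizerIn_le _ _) hne
    haveI := finite_of_le hlt.le
    have h1 := core_le hS hG.1
    exact hnc (constrained_of_core hF fun x hx => h1 (core_centralizer_le (hall _ _ hG hlt)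
      ⟨hx, Subgroup.centralizer_le h1 hx.2⟩))
  obtain ⟨L, hLn, hLmin, hLself⟩ := exists_residual hS hF
  have hLQ : L.core ≤ F.core := core_le hS hLn.1
  have hSQ : ∀ x ∈ S, x ∈ Subgroup.centralizer (F.core : Set Ω) := fun x hx => (hCS.ge hx).2
  have hQL : L.IsNormal F.core := by
    have h := isNormal_inter hS hLn.1 hQ
    rwa [inf_eq_left.2 hQ.1] at h
  have hQc : L.IsCentral F.core := isCentral_iff.2 ⟨hQ.1, fun P f hf => by
    obtain ⟨g, hg, hgf, -⟩ := (isNormal_iff.1 hQL).2 P f hf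
    obtain ⟨-, -, -, k, -, hkg, hkQ⟩ := (mor_centralizerSystem
      (isCentralizerSystem_centralizerSys (F := F) hQ.1)).1 (hLmin _ _ hCS hG.1 _ g hg)
    exact ⟨g, hg, hgf, fun x hx => by
      rw [← hkg x (Subgroup.mem_sup_right hx)]; exact hkQ x hx⟩⟩
  have hQcen : F.core ≤ L.center := le_center hQc
  have hLnc : ¬ L.IsConstrained p := fun h => hnc (constrained_of_core hF fun x hx => hLQ
    (core_centralizer_le h ⟨hx.1, Subgroup.centralizer_le hLQ (hSQ x hx.1)⟩))
  by_cases hall' : ∃ (T : Subgroup Ω) (E : FusionSystem T), E.IsNormalIn L p ∧ T < S ∧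
      ¬ E.IsConstrained p
  · obtain ⟨T, E, hE, hlt, hEc⟩ := hall'
    haveI := finite_of_le hlt.le
    obtain ⟨U, C, hC, hCq⟩ := ih _ (hn ▸ card_lt_of_lt' le_rfl hlt) E rfl (hS.to_le hlt.le)
      hE.1.1 hEc
    exact ⟨U, C, .step (.step hC hE) hLn, hCq⟩
  replace hall' : ∀ (T : Subgroup Ω) (E : FusionSystem T), E.IsNormalIn L p → T < S →
      E.IsConstrained p := fun T E hE hlt => by
    by_contra hEc
    exact hall' ⟨T, E, hE, hlt, hEc⟩
  refine ⟨S, L, .step (.refl L p) hLn, quasisimple_of hS hLn.1.1 hLnc (hLQ.trans hQcen)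
    hLself fun T E hE hlt x hx => hQcen (hLQ ?_)⟩
  haveI := finite_of_le hlt.le
  have h1 := core_le hS hE.1
  exact h1 (core_centralizer_le (hall' T E hE hlt)
    ⟨hx, Subgroup.centralizer_le (h1.trans hLQ) (hSQ x (hlt.le hx))⟩)

end Cfsg.Agent.FusSys.Component
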