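import Cfsg.Agent.FusSys.Component.Fitting
import Cfsg.Agent.FusSys.CentSys

/-!
The generalized Fitting subsystem contains its centralizer.
-/

set_option autoImplicit false
set_option maxHeartbeats 800000

namespace Cfsg.Agent.FusSys.Component

open Cfsg Cfsg.FusionSystem Cfsg.Agent.FusSys

universe u

variable {Ω : Type u} [Group Ω] {S T U P : Subgroup Ω} {F : FusionSystem S} {p : ℕ}
variable {f : Ω → Ω}

/-- A subnormal quasisimple system does not act trivially. -/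
theorem not_fixed_of_quasisimple [Fact p.Prime] [Finite T] {C : FusionSystem T} (hT : IsPGroup p T)
    (hq : C.Quasisimple p) : ¬ ∀ P f, Mor C P f → ∀ x ∈ P, f x = x := by
  intro hfix
  have hU := hq.2.1
  rw [hyperfocal_eq_bot_of_fixed hfix] at hU
  subst hU
  exact quasisimple_not_constrained hT hq
    (constrained_of_core hq.1 fun x hx => Subgroup.mem_bot.1 hx.1 ▸ one_mem _)

section

variable {Q : Subgroup Ω} {E : FusionSystem T} {D₀ : FusionSystem (Q.prod T)}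
variable {Z : Subgroup (Ω × Ω)} {θ : ↥(Q.prod T) →* Ω} {D : FusionSystem U}

theorem theta_eq (h1 : ∀ (x : Ω) (hx : ((x, 1) : Ω × Ω) ∈ Q.prod T), θ ⟨(x, 1), hx⟩ = x)
    (h2 : ∀ (y : Ω) (hy : ((1, y) : Ω × Ω) ∈ Q.prod T), θ ⟨(1, y), hy⟩ = y)
    {z : Ω × Ω} (hz : z ∈ Q.prod T) : thFn θ z = z.1 * z.2 := by
  obtain ⟨x, y⟩ := z
  obtain ⟨hx, hy⟩ := Subgroup.mem_prod.1 hz
  have hx' : ((x, 1) : Ω × Ω) ∈ Q.prod T := Subgroup.mem_prod.2 ⟨hx, one_mem _⟩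
  have hy' : ((1, y) : Ω × Ω) ∈ Q.prod T := Subgroup.mem_prod.2 ⟨one_mem _, hy⟩
  rw [show ((x, y) : Ω × Ω) = (x, 1) * (1, y) by simp, thFn_mul hx' hy', thFn_apply hx',
    thFn_apply hy', h1, h2]
  simp

theorem theta_comm (h1 : ∀ (x : Ω) (hx : ((x, 1) : Ω × Ω) ∈ Q.prod T), θ ⟨(x, 1), hx⟩ = x)
    (h2 : ∀ (y : Ω) (hy : ((1, y) : Ω × Ω) ∈ Q.prod T), θ ⟨(1, y), hy⟩ = y)
    {x y : Ω} (hx : x ∈ Q) (hy : y ∈ T) : x * y = y * x := by
  have hx' : ((x, 1) : Ω × Ω) ∈ Q.prod T := Subgroup.mem_prod.2 ⟨hx, one_mem _⟩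
  have hy' : ((1, y) : Ω × Ω) ∈ Q.prod T := Subgroup.mem_prod.2 ⟨one_mem _, hy⟩
  have h := thFn_mul (θ := θ) hy' hx'
  rw [theta_eq h1 h2 hx', theta_eq h1 h2 hy',
    theta_eq h1 h2 (Subgroup.mul_mem _ hy' hx')] at h
  simpa using h

/-- A map of the product fixing the kernel gives a map of the central product. -/
theorem factor_map [Finite ↥(Q.prod T)] (hD : D₀.IsFactorSystem Z θ D) (hZ : D₀.StronglyClosed Z)
    {W : Subgroup (Ω × Ω)} {g : Ω × Ω → Ω × Ω} (hg : Mor D₀ W g) (hZW : Z ≤ W) :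
    ∃ g', Mor D (imageAlong θ W) g' ∧ ∀ z ∈ W, g' (thFn θ z) = thFn θ (g z) := by
  obtain ⟨W', hW'⟩ := hg.exists_iso
  obtain ⟨g', hg', hx⟩ := exists_iso_image hD hZ hW' hZW
  exact ⟨g', hg'.1, hx⟩

end

/-- The generalized Fitting subsystem contains its centralizer. -/
theorem fitting_selfCentralizing [Fact p.Prime] [Finite S] (hS : IsPGroup p S) (hF : F.IsSaturated p)
    {D : FusionSystem U} (hD : D.IsGeneralizedFittingOf F p) :
    (D.center ≤ centralizerIn S U ∧ ∀ P : Subgroup Ω, D.Hom P ⊆ F.centralizerHom D.center P) ∧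
      ∀ Y : Subgroup Ω, Y ≤ centralizerIn S U →
        (∀ P : Subgroup Ω, D.Hom P ⊆ F.centralizerHom Y P) → Y ≤ D.center := by
  obtain ⟨T, E, hE, D₀, hD₀, Z, θ, hZc, -, -, h1, h2, hfac⟩ := hD
  obtain ⟨hZle, hker, hrange, -⟩ := id hfac
  have hQ : F.IsNormal F.core := isNormal_core
  have hQS := hQ.1
  have hTc := hE.1.1.2.2.2.1
  have hTS := hTc.1
  haveI := finite_of_le hQS
  haveI := finite_of_le hTS
  haveI : Finite ↥(F.core.prod T) := Finite.of_equiv _ (Subgroup.prodEquiv F.core T).symm.toEquiv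
  have hZsc : D₀.StronglyClosed Z :=
    stronglyClosed_of_isNormal (isCentral_isNormal (isCentral_mono isCentral_center hZc))
  have hUmem : ∀ z ∈ U, ∃ x ∈ F.core, ∃ y ∈ T, z = x * y := fun z hz => by
    obtain ⟨⟨⟨x, y⟩, hs⟩, rfl⟩ := hrange.ge hz
    exact ⟨x, hs.1, y, hs.2, by rw [← thFn_apply hs, theta_eq h1 h2 hs]⟩
  have hQU : F.core ≤ U := fun x hx => hrange ▸
    ⟨⟨(x, 1), Subgroup.mem_prod.2 ⟨hx, one_mem _⟩⟩, h1 x _⟩
  have hTU : T ≤ U := fun y hy => hrange ▸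
    ⟨⟨(1, y), Subgroup.mem_prod.2 ⟨one_mem _, hy⟩⟩, h2 y _⟩
  have hUS : U ≤ S := fun z hz => by
    obtain ⟨x, hx, y, hy, rfl⟩ := hUmem z hz
    exact S.mul_mem (hQS hx) (hTS hy)
  have hEC := isSubsystemOf_iff_mor.1 (layer_le_centSys hS hF hQ hE)
  have hmorC := fun {P : Subgroup Ω} {f : Ω → Ω} => mor_centralizerSystem (F := F) (P := P) (f := f)
    (isCentralizerSystem_centralizerSys hQ.1)
  -- the maps of `D` are maps of `F`
  have hDF : ∀ P f, Mor D P f → Mor F P f := by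
    intro P f hf
    obtain ⟨hPU, e, he, hind⟩ := (mor_factor hfac hZsc).1 hf
    obtain ⟨-, e₁, e₂, he₁, he₂, heq⟩ := (mor_product hD₀).1 he
    obtain ⟨-, g, hg, hge⟩ := mor_inner.1 he₁
    obtain ⟨-, -, -, k, hk, hke, hkQ⟩ := hmorC.1 (hEC _ _ he₂)
    obtain ⟨R, hR⟩ : ∃ R, (preimageAlong θ P).map (MonoidHom.snd Ω Ω) = R := ⟨_, rfl⟩
    rw [hR] at hk hke
    have hm : Mor F (R ⊔ F.core) (fun x => g * k x * g⁻¹) :=
      hk.comp (mor_conj le_rfl (hQS hg)) fun x hx => hk.mem_S hx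
    have hdec : ∀ z ∈ P, ∃ x y, (x, y) ∈ preimageAlong θ P ∧ z = x * y ∧ f z = g * k z * g⁻¹ :=
      fun z hz => by
      obtain ⟨⟨x, y⟩, hw, rfl⟩ := exists_pre (hrange.symm ▸ hPU) hz
      have hw' := pre_le hw
      obtain ⟨hx, hy⟩ := Subgroup.mem_prod.1 hw'
      have hyR : y ∈ R := hR ▸ snd_mem hw
      have hey := he₂.mem_S (snd_mem hw)
      refine ⟨x, y, hw, theta_eq h1 h2 hw', ?_⟩
      rw [hind _ hw, theta_eq h1 h2 (he.mem_S hw), heq _ hw, theta_eq h1 h2 hw']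
      show e₁ x * e₂ y = g * k (x * y) * g⁻¹
      rw [hk.map_mul (Subgroup.mem_sup_right hx) (Subgroup.mem_sup_left hyR), hkQ x hx,
        hke y hyR, hge x (fst_mem hw)]
      calc g * x * g⁻¹ * e₂ y = g * x * g⁻¹ * (e₂ y * g) * g⁻¹ := by group
        _ = g * (x * e₂ y) * g⁻¹ := by rw [← theta_comm h1 h2 hg hey]; group
    refine (hm.mono fun z hz => ?_).congr fun z hz => ?_
    · obtain ⟨x, y, hw, rfl, -⟩ := hdec z hz
      exact Subgroup.mul_mem _ (Subgroup.mem_sup_right (Subgroup.mem_prod.1 (pre_le hw)).1)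
        (Subgroup.mem_sup_left (hR ▸ snd_mem hw))
    · obtain ⟨x, y, -, -, h⟩ := hdec z hz
      exact h
  haveI := finite_of_le hUS
  have hcenU : D.center ≤ U := isCentral_center.1
  refine ⟨⟨fun x hx => ⟨hUS (hcenU hx), center_le_centralizer D hx⟩, fun P φ hφ => ?_⟩,
    fun Y hY hYD => ?_⟩
  · obtain ⟨g, hg, hgφ, hgZ⟩ := (isCentral_iff.1 isCentral_center).2 P _ (mor_extendFn hφ)
    have hC : ∀ x ∈ U, x ∈ centralizerIn S D.center := fun x hx => ⟨hUS hx,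
      Subgroup.mem_centralizer_iff.2 fun c hc => (center_le_centralizer D hc x hx).symm⟩
    refine mem_centralizerHom_iff.2 ⟨(hDF _ _ (mor_extendFn hφ)).hom_eq fun x =>
      (extendFn_coe φ x).symm, fun x hx => hC x ((D.le_of_mem hφ).1 hx), fun x hx => ?_, g,
      hDF _ _ hg, hgφ, hgZ⟩
    rw [extendFn_apply φ hx]
    exact hC _ ((D.le_of_mem hφ).2 _)
  -- `E` lies in `D`
  have hED : ∀ P f, Mor E P f → Mor D P f := by
    intro P f hf
    have hPT := hf.le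
    have hP2 : ((⊥ : Subgroup Ω).prod P).map (MonoidHom.snd Ω Ω) ≤ P := by
      rintro _ ⟨z, hz, rfl⟩
      exact (Subgroup.mem_prod.1 hz).2
    have hP1 : ((⊥ : Subgroup Ω).prod P).map (MonoidHom.fst Ω Ω) ≤ F.core := by
      rintro _ ⟨z, hz, rfl⟩
      show z.1 ∈ F.core
      rw [Subgroup.mem_bot.1 (Subgroup.mem_prod.1 hz).1]
      exact one_mem _
    have hm : Mor D₀ ((⊥ : Subgroup Ω).prod P) (fun z => (z.1, f z.2)) :=
      (mor_product hD₀).2 ⟨Subgroup.prod_mono bot_le hPT, id, f, mor_id hP1, hf.mono hP2,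
        fun _ _ => rfl⟩
    obtain ⟨g, hg, hgf, -⟩ := (isCentral_iff.1 (isCentral_mono isCentral_center hZc)).2 _ _ hm
    obtain ⟨g', hg', hg'x⟩ := factor_map hfac hZsc hg le_sup_right
    have hy' : ∀ y ∈ P, ((1, y) : Ω × Ω) ∈ (⊥ : Subgroup Ω).prod P := fun y hy =>
      Subgroup.mem_prod.2 ⟨one_mem _, hy⟩
    have hθy : ∀ y ∈ T, thFn θ ((1, y) : Ω × Ω) = y := fun y hy => by
      rw [theta_eq h1 h2 (Subgroup.mem_prod.2 ⟨one_mem _, hy⟩), one_mul]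
    refine (hg'.mono fun y hy => (mem_imageAlong hg.le).2
      ⟨_, Subgroup.mem_sup_left (hy' y hy), hθy y (hPT hy)⟩).congr fun y hy => ?_
    have h := hg'x _ (Subgroup.mem_sup_left (hy' y hy))
    rw [hθy y (hPT hy), hgf _ (hy' y hy), hθy _ (hf.mem_S hy)] at h
    exact h.symm
  -- `Y` lies in `O_p(F)`
  have hYT : Y ≤ centralizerIn S T := fun y hy =>
    ⟨(hY hy).1, Subgroup.centralizer_le hTU (hY hy).2⟩
  have hEY : ∀ P : Subgroup Ω, E.Hom P ⊆ F.centralizerHom Y P := fun P φ hφ =>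
    hYD P ((hED P _ (mor_extendFn hφ)).hom_eq fun x => (extendFn_coe φ x).symm)
  have hYc := CentE.le_cE hS hF hE.1 hTc hYT hEY
  obtain ⟨K, hK, hKT⟩ := CentE.exists_centralizer_subsystem hS hF hE.1 hTc
  have hcS := hK.1.2.2.2.1.1
  haveI := finite_of_le hcS
  have hKp := hS.to_le hcS
  have hKc : K.IsConstrained p := (constrained_iff_no_component hKp hK.1.1).2 fun ⟨W, C, hC, hq⟩ => by
    have hWK := subnormal_le hC
    haveI := finite_of_le hWK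
    have hCE := hE.2.1 W C ⟨.step hC hK, hq⟩
    have hWT : W ≤ T := fun x hx =>
      (isSubsystemOf_iff_mor.1 hCE W id (mor_id le_rfl)).le hx
    refine not_fixed_of_quasisimple (hKp.to_le hWK) hq fun P f hf x hx => ?_
    obtain ⟨φ, hφ, hφf⟩ := (centralizes_normal hC hKp hK.1.1 hq _ isNormal_core P f hf).1
    obtain ⟨-, -, -, k, -, hkφ, hkT⟩ := mem_centralizerHom_iff.1 (hKT P hφ)
    rw [← hφf ⟨x, hx⟩, ← extendFn_coe φ ⟨x, hx⟩, ← hkφ x hx, hkT x (hWT (hf.le hx))]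
  have hKQ : K.core ≤ F.core := core_le hS hK.1
  have hYQ : Y ≤ F.core := fun y hy => hKQ (core_centralizer_le hKc
    ⟨hYc hy, Subgroup.centralizer_le (hKQ.trans hQU) (hY hy).2⟩)
  -- `Y` is central in `D`
  refine le_center (isCentral_iff.2 ⟨hYQ.trans hQU, fun P f hf => ?_⟩)
  obtain ⟨hPU, e, he, hind⟩ := (mor_factor hfac hZsc).1 hf
  obtain ⟨-, e₁, e₂, he₁, he₂, heq⟩ := (mor_product hD₀).1 he
  obtain ⟨-, g, hg, hge⟩ := mor_inner.1 he₁
  obtain ⟨W, hW⟩ : ∃ W, preimageAlong θ P ⊔ Y.prod ⊥ = W := ⟨_, rfl⟩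
  have hWle : W ≤ F.core.prod T := hW ▸ sup_le pre_le (Subgroup.prod_mono hYQ bot_le)
  have hW2 : W.map (MonoidHom.snd Ω Ω) ≤ (preimageAlong θ P).map (MonoidHom.snd Ω Ω) := by
    rw [← hW, Subgroup.map_sup]
    refine sup_le le_rfl ?_
    rintro _ ⟨z, hz, rfl⟩
    show z.2 ∈ _
    rw [Subgroup.mem_bot.1 (Subgroup.mem_prod.1 hz).2]
    exact one_mem _
  have hW1 : W.map (MonoidHom.fst Ω Ω) ≤ F.core := by
    rintro _ ⟨z, hz, rfl⟩
    exact (Subgroup.mem_prod.1 (hWle hz)).1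
  have hm : Mor D₀ W (fun z => (g * z.1 * g⁻¹, e₂ z.2)) :=
    (mor_product hD₀).2 ⟨hWle, _, e₂, mor_conj hW1 hg, he₂.mono hW2, fun _ _ => rfl⟩
  have hZW : Z ≤ W := hW ▸ (le_preimageAlong hker hZle P).trans le_sup_left
  obtain ⟨g', hg', hg'x⟩ := factor_map hfac hZsc hm hZW
  have hYW : ∀ y ∈ Y, ((y, 1) : Ω × Ω) ∈ W := fun y hy =>
    hW ▸ Subgroup.mem_sup_right (Subgroup.mem_prod.2 ⟨hy, one_mem _⟩)
  have hθY : ∀ y ∈ Y, thFn θ ((y, 1) : Ω × Ω) = y := fun y hy => by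
    rw [theta_eq h1 h2 (hWle (hYW y hy)), mul_one]
  have hPW : ∀ w ∈ preimageAlong θ P, w ∈ W := fun w hw => hW ▸ Subgroup.mem_sup_left hw
  refine ⟨g', hg'.mono (sup_le (fun z hz => ?_)
    fun y hy => (mem_imageAlong hWle).2 ⟨_, hYW y hy, hθY y hy⟩), fun z hz => ?_, fun y hy => ?_⟩
  · obtain ⟨w, hw, rfl⟩ := exists_pre (hrange.symm ▸ hPU) hz
    exact (mem_imageAlong hWle).2 ⟨w, hPW w hw, rfl⟩
  · obtain ⟨w, hw, rfl⟩ := exists_pre (hrange.symm ▸ hPU) hz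
    rw [hg'x w (hPW w hw), hind w hw, heq w hw, hge _ (fst_mem hw)]
  · have h := hg'x _ (hYW y hy)
    rw [hθY y hy] at h
    rw [h]
    show thFn θ (g * y * g⁻¹, e₂ 1) = y
    rw [he₂.map_one]
    have e : g * y * g⁻¹ = y := by
      rw [Subgroup.mem_centralizer_iff.1 (hY hy).2 g (hQU hg), mul_inv_cancel_right]
    rw [e, hθY y hy]

end Cfsg.Agent.FusSys.Component
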