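import Cfsg.Agent.FusSys.Commuting.System
import Cfsg.Agent.FusSys.Component.SelfCentralizing
import Cfsg.Agent.FusSys.Component.Exists

/-!
Central products: their maps, and the factors are normal in them.
-/

set_option autoImplicit false
set_option linter.unusedSectionVars false
set_option linter.style.haveILetI false
set_option maxHeartbeats 800000

namespace Cfsg.Agent.FusSys.Component

open Cfsg Cfsg.FusionSystem Cfsg.Agent.FusSys Cfsg.Agent.FusSys.Commuting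

universe u

variable {Ω : Type u} [Group Ω] {T T₁ T₂ : Subgroup Ω}
variable {E₁ : FusionSystem T₁} {E₂ : FusionSystem T₂} {D : FusionSystem T}
variable {p : ℕ}

/-- The data of a central product inside one group. -/
structure CP (E₁ : FusionSystem T₁) (E₂ : FusionSystem T₂) (D : FusionSystem T) : Prop where
  sup : T₁ ⊔ T₂ = T
  comm : ∀ x ∈ T₁, ∀ y ∈ T₂, x * y = y * x
  fix₁ : ∀ P f, Mor E₁ P f → ∀ x ∈ P, x ∈ T₂ → f x = x
  fix₂ : ∀ P f, Mor E₂ P f → ∀ x ∈ P, x ∈ T₁ → f x = x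
  mor : ∀ P f, Mor D P f ↔ DMor E₁ E₂ P f
  ext₁ : ∀ P f, Mor E₁ P f → ∃ g, Mor D (P ⊔ T₂) g ∧ (∀ x ∈ P, g x = f x) ∧ ∀ y ∈ T₂, g y = y
  ext₂ : ∀ P f, Mor E₂ P f → ∃ g, Mor D (P ⊔ T₁) g ∧ (∀ x ∈ P, g x = f x) ∧ ∀ y ∈ T₁, g y = y

/-- A central product has this data. -/
theorem cp_of_centralProduct [Finite T₁] [Finite T₂] (h : IsCentralProductOf E₁ E₂ D) :
    CP E₁ E₂ D := by
  obtain ⟨D₀, hD₀, Z, θ, hZc, -, -, h1, h2, hfac⟩ := h
  haveI : Finite ↥(T₁.prod T₂) := Finite.of_equiv _ (Subgroup.prodEquiv T₁ T₂).symm.toEquiv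
  obtain ⟨hZle, hker, hrange, -⟩ := id hfac
  have hZcen := isCentral_mono isCentral_center hZc
  have hZsc : D₀.StronglyClosed Z := stronglyClosed_of_isNormal (isCentral_isNormal hZcen)
  have hθ : ∀ {x y : Ω}, x ∈ T₁ → y ∈ T₂ → thFn θ ((x, y) : Ω × Ω) = x * y := fun hx hy =>
    theta_eq h1 h2 (Subgroup.mem_prod.2 ⟨hx, hy⟩)
  have hcomm : ∀ x ∈ T₁, ∀ y ∈ T₂, x * y = y * x := fun x hx y hy => theta_comm h1 h2 hx hy
  have hT₁ : T₁ ≤ T := fun x hx => hrange ▸ ⟨⟨(x, 1), Subgroup.mem_prod.2 ⟨hx, one_mem _⟩⟩, h1 x _⟩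
  have hT₂ : T₂ ≤ T := fun y hy => hrange ▸ ⟨⟨(1, y), Subgroup.mem_prod.2 ⟨one_mem _, hy⟩⟩, h2 y _⟩
  have hsup : T₁ ⊔ T₂ = T := by
    refine le_antisymm (sup_le hT₁ hT₂) fun z hz => ?_
    obtain ⟨⟨⟨x, y⟩, hs⟩, rfl⟩ := hrange.ge hz
    rw [← thFn_apply hs, theta_eq h1 h2 hs]
    exact Subgroup.mul_mem _ (Subgroup.mem_sup_left hs.1) (Subgroup.mem_sup_right hs.2)
  have hpre : ∀ {P : Subgroup Ω} {x y : Ω}, x ∈ T₁ → y ∈ T₂ → x * y ∈ P →
      ((x, y) : Ω × Ω) ∈ preimageAlong θ P := fun hx hy hxy =>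
    mem_pre.2 ⟨Subgroup.mem_prod.2 ⟨hx, hy⟩, by rw [hθ hx hy]; exact hxy⟩
  have hn : T₁ ⊔ T₂ ≤ Subgroup.normalizer (T₂ : Set Ω) := sup_le
    (fun x hx => Subgroup.centralizer_le_normalizer _
      (Subgroup.mem_centralizer_iff.2 fun y hy => (hcomm x hx y hy).symm)) Subgroup.le_normalizer
  have hn' : T₁ ⊔ T₂ ≤ Subgroup.normalizer (T₁ : Set Ω) := sup_le Subgroup.le_normalizer
    (fun y hy => Subgroup.centralizer_le_normalizer _
      (Subgroup.mem_centralizer_iff.2 fun x hx => hcomm x hx y hy))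
  have hmor : ∀ P f, Mor D P f ↔ DMor E₁ E₂ P f := by
    intro P f
    rw [mor_factor hfac hZsc]
    constructor
    · rintro ⟨hPT, e, he, hind⟩
      obtain ⟨-, e₁, e₂, he₁, he₂, heq⟩ := (mor_product hD₀).1 he
      refine ⟨hPT.trans hsup.ge, e₁, e₂, he₁.mono fun x hx => ?_, he₂.mono fun y hy => ?_,
        fun x hx y hy hxy => ?_⟩
      · obtain ⟨hx1, hx2⟩ := hx
        replace hx1 : x ∈ ((P ⊔ T₂ : Subgroup Ω) : Set Ω) := hx1
        rw [Subgroup.coe_mul_of_left_le_normalizer_right _ _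
          ((hPT.trans hsup.ge).trans hn)] at hx1
        obtain ⟨q, hq, y, hy, hqy⟩ := hx1
        refine fst_mem (hpre hx2 (T₂.inv_mem hy) ?_)
        rw [← hqy, mul_inv_cancel_right]
        exact hq
      · obtain ⟨hy1, hy2⟩ := hy
        replace hy1 : y ∈ ((P ⊔ T₁ : Subgroup Ω) : Set Ω) := hy1
        rw [Subgroup.coe_mul_of_left_le_normalizer_right _ _
          ((hPT.trans hsup.ge).trans hn')] at hy1
        obtain ⟨q, hq, x, hx, hqx⟩ := hy1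
        refine snd_mem (hpre (T₁.inv_mem hx) hy2 ?_)
        rw [hcomm _ (T₁.inv_mem hx) y hy2, ← hqx, mul_inv_cancel_right]
        exact hq
      · have hw := hpre hx hy hxy
        rw [← hθ hx hy, hind _ hw, theta_eq h1 h2 (he.mem_S hw), heq _ hw]
    · rintro ⟨hP, φ₁, φ₂, hφ₁, hφ₂, heq⟩
      refine ⟨hP.trans hsup.le, fun z => (φ₁ z.1, φ₂ z.2), (mor_product hD₀).2
        ⟨pre_le, φ₁, φ₂, hφ₁.mono ?_, hφ₂.mono ?_, fun _ _ => rfl⟩, fun w hw => ?_⟩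
      · rintro _ ⟨⟨x, y⟩, hw, rfl⟩
        obtain ⟨hw', hwP⟩ := mem_pre.1 hw
        obtain ⟨hx, hy⟩ := Subgroup.mem_prod.1 hw'
        rw [hθ hx hy] at hwP
        refine ⟨?_, hx⟩
        have h' := (P ⊔ T₂).mul_mem (Subgroup.mem_sup_left hwP)
          (Subgroup.mem_sup_right (T₂.inv_mem hy))
        rwa [mul_inv_cancel_right] at h'
      · rintro _ ⟨⟨x, y⟩, hw, rfl⟩
        obtain ⟨hw', hwP⟩ := mem_pre.1 hw
        obtain ⟨hx, hy⟩ := Subgroup.mem_prod.1 hw'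
        rw [hθ hx hy, hcomm x hx y hy] at hwP
        refine ⟨?_, hy⟩
        have h' := (P ⊔ T₁).mul_mem (Subgroup.mem_sup_left hwP)
          (Subgroup.mem_sup_right (T₁.inv_mem hx))
        rwa [mul_inv_cancel_right] at h'
      · obtain ⟨hw', hwP⟩ := mem_pre.1 hw
        obtain ⟨x, y⟩ := w
        obtain ⟨hx, hy⟩ := Subgroup.mem_prod.1 hw'
        rw [hθ hx hy] at hwP ⊢
        have hxp : x ∈ proj T₁ T₂ P := by
          refine ⟨?_, hx⟩
          have h' := (P ⊔ T₂).mul_mem (Subgroup.mem_sup_left hwP)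
            (Subgroup.mem_sup_right (T₂.inv_mem hy))
          rwa [mul_inv_cancel_right] at h'
        have hyp : y ∈ proj T₂ T₁ P := by
          refine ⟨?_, hy⟩
          have h' := (P ⊔ T₁).mul_mem (Subgroup.mem_sup_left (hcomm x hx y hy ▸ hwP))
            (Subgroup.mem_sup_right (T₁.inv_mem hx))
          rwa [mul_inv_cancel_right] at h'
        rw [heq x hx y hy hwP, hθ (hφ₁.mem_S hxp) (hφ₂.mem_S hyp)]
  -- extensions fixing the other factor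
  have hone : ∀ {A : Subgroup Ω} {x : Ω}, x ∈ A → ((x, 1) : Ω × Ω) ∈ A.prod ⊥ :=
    fun hx => Subgroup.mem_prod.2 ⟨hx, one_mem _⟩
  have key : ∀ {A₁ A₂ : Subgroup Ω} {f₁ f₂ : Ω → Ω}, Mor E₁ A₁ f₁ → Mor E₂ A₂ f₂ →
      ∃ g, Mor D (A₁ ⊔ A₂) g ∧ (∀ x ∈ A₁, g x = f₁ x) ∧ ∀ y ∈ A₂, g y = f₂ y := by
    intro A₁ A₂ f₁ f₂ hf₁ hf₂
    have hm : Mor D₀ (A₁.prod A₂) (fun z => (f₁ z.1, f₂ z.2)) :=
      (mor_product hD₀).2 ⟨Subgroup.prod_mono hf₁.le hf₂.le, f₁, f₂,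
        hf₁.mono (by rintro _ ⟨z, hz, rfl⟩; exact (Subgroup.mem_prod.1 hz).1),
        hf₂.mono (by rintro _ ⟨z, hz, rfl⟩; exact (Subgroup.mem_prod.1 hz).2), fun _ _ => rfl⟩
    obtain ⟨g, hg, hgf, -⟩ := (isCentral_iff.1 hZcen).2 _ _ hm
    obtain ⟨g', hg', hg'x⟩ := factor_map hfac hZsc hg le_sup_right
    have h₁ : ∀ x ∈ A₁, g' x = f₁ x ∧ x ∈ imageAlong θ (A₁.prod A₂ ⊔ Z) := fun x hx => by
      have hw : ((x, 1) : Ω × Ω) ∈ A₁.prod A₂ := Subgroup.mem_prod.2 ⟨hx, one_mem _⟩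
      have e : thFn θ ((x, 1) : Ω × Ω) = x := by rw [hθ (hf₁.le hx) (one_mem _), mul_one]
      have h' := hg'x _ (Subgroup.mem_sup_left hw)
      rw [e, hgf _ hw, hf₂.map_one, hθ (hf₁.mem_S hx) (one_mem _), mul_one] at h'
      exact ⟨h', (mem_imageAlong hg.le).2 ⟨_, Subgroup.mem_sup_left hw, e⟩⟩
    have h₂ : ∀ y ∈ A₂, g' y = f₂ y ∧ y ∈ imageAlong θ (A₁.prod A₂ ⊔ Z) := fun y hy => by
      have hw : ((1, y) : Ω × Ω) ∈ A₁.prod A₂ := Subgroup.mem_prod.2 ⟨one_mem _, hy⟩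
      have e : thFn θ ((1, y) : Ω × Ω) = y := by rw [hθ (one_mem _) (hf₂.le hy), one_mul]
      have h' := hg'x _ (Subgroup.mem_sup_left hw)
      rw [e, hgf _ hw, hf₁.map_one, hθ (one_mem _) (hf₂.mem_S hy), one_mul] at h'
      exact ⟨h', (mem_imageAlong hg.le).2 ⟨_, Subgroup.mem_sup_left hw, e⟩⟩
    exact ⟨g', hg'.mono (sup_le (fun x hx => (h₁ x hx).2) fun y hy => (h₂ y hy).2),
      fun x hx => (h₁ x hx).1, fun y hy => (h₂ y hy).1⟩
  refine ⟨hsup, hcomm, fun P f hf x hx hx₂ => ?_, fun P f hf x hx hx₁ => ?_, hmor,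
    fun P f hf => key hf (mor_id le_rfl), fun P f hf => ?_⟩
  · obtain ⟨g, -, hgf, hgi⟩ := key hf (mor_id (F := E₂) (le_refl T₂))
    rw [← hgf x hx, hgi x hx₂]
    rfl
  · obtain ⟨g, -, hgi, hgf⟩ := key (mor_id (F := E₁) (le_refl T₁)) hf
    rw [← hgf x hx, hgi x hx₁]
    rfl
  · obtain ⟨g, hg, hgi, hgf⟩ := key (mor_id (F := E₁) (le_refl T₁)) hf
    exact ⟨g, by rwa [sup_comm], hgf, hgi⟩

namespace CP

variable (h : CP E₁ E₂ D)
include h

theorem le₁ : T₁ ≤ T := h.sup ▸ le_sup_left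

theorem le₂ : T₂ ≤ T := h.sup ▸ le_sup_right

theorem swap : CP E₂ E₁ D where
  sup := by rw [sup_comm]; exact h.sup
  comm := fun x hx y hy => (h.comm y hy x hx).symm
  fix₁ := h.fix₂
  fix₂ := h.fix₁
  mor := fun P f => by
    rw [h.mor P f]
    constructor
    · rintro ⟨hP, φ₁, φ₂, h₁, h₂, heq⟩
      refine ⟨by rwa [sup_comm], φ₂, φ₁, h₂, h₁, fun y hy x hx hyx => ?_⟩
      rw [← h.comm x hx y hy] at hyx ⊢
      rw [heq x hx y hy hyx, h.comm _ (h₁.mem_S ⟨?_, hx⟩) _ (h₂.mem_S ⟨?_, hy⟩)]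
      · have h' := (P ⊔ T₂).mul_mem (Subgroup.mem_sup_left hyx)
          (Subgroup.mem_sup_right (T₂.inv_mem hy))
        rwa [mul_inv_cancel_right] at h'
      · rw [h.comm x hx y hy] at hyx
        have h' := (P ⊔ T₁).mul_mem (Subgroup.mem_sup_left hyx)
          (Subgroup.mem_sup_right (T₁.inv_mem hx))
        rwa [mul_inv_cancel_right] at h'
    · rintro ⟨hP, φ₂, φ₁, h₂, h₁, heq⟩
      refine ⟨by rwa [sup_comm], φ₁, φ₂, h₁, h₂, fun x hx y hy hxy => ?_⟩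
      rw [h.comm x hx y hy] at hxy ⊢
      rw [heq y hy x hx hxy, h.comm _ (h₁.mem_S ⟨?_, hx⟩) _ (h₂.mem_S ⟨?_, hy⟩)]
      · rw [← h.comm x hx y hy] at hxy
        have h' := (P ⊔ T₂).mul_mem (Subgroup.mem_sup_left hxy)
          (Subgroup.mem_sup_right (T₂.inv_mem hy))
        rwa [mul_inv_cancel_right] at h'
      · have h' := (P ⊔ T₁).mul_mem (Subgroup.mem_sup_left hxy)
          (Subgroup.mem_sup_right (T₁.inv_mem hx))
        rwa [mul_inv_cancel_right] at h'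
  ext₁ := h.ext₂
  ext₂ := h.ext₁

theorem sub₁ : E₁.IsSubsystemOf D := isSubsystemOf_iff_mor.2 fun P f hf => by
  obtain ⟨g, hg, hgf, -⟩ := h.ext₁ P f hf
  exact (hg.mono le_sup_left).congr fun x hx => (hgf x hx).symm

theorem mor_left {P : Subgroup Ω} {f : Ω → Ω} (hP : P ≤ T₁) (hf : Mor D P f) : Mor E₁ P f := by
  obtain ⟨-, φ₁, φ₂, h₁, h₂, heq⟩ := (h.mor P f).1 hf
  refine (h₁.mono fun x hx => Subgroup.mem_inf.2 ⟨Subgroup.mem_sup_left hx, hP hx⟩).congr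
    fun x hx => ?_
  have h' := heq x (hP hx) 1 (one_mem _) (by rwa [mul_one])
  rw [mul_one, h₂.map_one, mul_one] at h'
  exact h'

theorem stronglyClosed₁ : D.StronglyClosed T₁ := stronglyClosed_iff.2
  ⟨h.le₁, fun _ _ hP hf _ hx => (h.mor_left hP hf).mem_S hx⟩

/-- The factors of a saturated central product are normal in it. -/
theorem normal₁ [Fact p.Prime] [Finite T] (hE : E₁.IsSaturated p) (hD : D.IsSaturated p) :
    E₁.IsNormalIn D p := by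
  haveI := finite_of_le h.le₁
  have hw := weaklyNormal_self (p := p) hE
  refine ⟨⟨hE, hD, invariant_of_mor h.sub₁ h.stronglyClosed₁ (fun P f hf β hβ => ?_)
    fun P f hP hf => ⟨1, Subgroup.one_mem _, f, h.mor_left hP hf, fun x hx => ?_⟩⟩, fun α hα => ?_⟩
  · exact exists_transport hw.2.2 hf ((mem_autGroup_iff le_rfl).2
      ⟨h.mor_left le_rfl (iso_apl h.le₁ hβ).1, (iso_apl h.le₁ hβ).2⟩)
  · exact (apl_one ((h.mor_left hP hf).mem_S hx)).symm
  · obtain ⟨g, hg, hgα, hgi⟩ := h.ext₁ T₁ _ (iso_apl le_rfl hα).1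
    rw [h.sup] at hg
    have hW : T₁ ⊔ centralizerIn T T₁ = T := by
      refine le_antisymm (sup_le h.le₁ (centralizerIn_le _ _)) (h.sup.ge.trans (sup_le_sup_left ?_ _))
      exact fun y hy => ⟨h.le₂ hy, Subgroup.mem_centralizer_iff.2 fun x hx => h.comm x hx y hy⟩
    have hi : Iso D (T₁ ⊔ centralizerIn T T₁) (T₁ ⊔ centralizerIn T T₁) g := by
      rw [hW]; exact AM.iso_of_stable hg fun x hx => hg.mem_S hx
    obtain ⟨β, hβ, hβx⟩ := hi.exists_mem_autGroup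
    refine ⟨β, hβ, fun x => ?_, fun c hc => ?_⟩
    · exact (apl_apply β (Subgroup.mem_sup_left x.2)).symm.trans
        ((hβx _ (Subgroup.mem_sup_left x.2)).trans ((hgα _ x.2).trans (apl_apply α x.2)))
    · rw [← apl_apply β c.2, hβx _ c.2]
      obtain ⟨c, hcW⟩ := c
      change c ∈ centralizerIn T T₁ at hc
      show c⁻¹ * g c ∈ T₁ ⊓ Subgroup.centralizer (T₁ : Set Ω)
      have hcT : c ∈ T := hc.1
      obtain ⟨x, hx, y, hy, rfl⟩ : ∃ x ∈ T₁, ∃ y ∈ T₂, x * y = c := by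
        have h' : c ∈ ((T₁ ⊔ T₂ : Subgroup Ω) : Set Ω) := h.sup.ge hcT
        rw [Subgroup.coe_mul_of_left_le_normalizer_right _ _ (fun a ha =>
          Subgroup.centralizer_le_normalizer _
            (Subgroup.mem_centralizer_iff.2 fun b hb => (h.comm a ha b hb).symm))] at h'
        exact h'
      have hgc : g (x * y) = apl α x * y := by
        rw [hg.map_mul (h.le₁ hx) (h.le₂ hy), hgα x hx, hgi y hy]
      refine ⟨?_, Subgroup.mem_centralizer_iff.2 fun w hw => ?_⟩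
      · rw [hgc, mul_inv_rev, mul_assoc, ← mul_assoc x⁻¹,
          h.comm _ (T₁.mul_mem (T₁.inv_mem hx) (apl_mem α hx)) y hy, inv_mul_cancel_left]
        exact T₁.mul_mem (T₁.inv_mem hx) (apl_mem α hx)
      · obtain ⟨v, hv, hvw⟩ := (iso_apl le_rfl hα).exists_eq hw
        have hgv : g v = w := (hgα v hv).trans hvw
        have hc' := Subgroup.mem_centralizer_iff.1 hc.2
        have h3 : w * g (x * y) = g (x * y) * w := by
          rw [← hgv, ← hg.map_mul (h.le₁ hv) hcT, ← hg.map_mul hcT (h.le₁ hv), hc' v hv]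
        have h4 : Commute w (x * y)⁻¹ := Commute.inv_right (show Commute w (x * y) from hc' w hw)
        rw [← mul_assoc, h4.eq, mul_assoc, h3, ← mul_assoc]

end CP

end Cfsg.Agent.FusSys.Component
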