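import Cfsg.Agent.FusSys.Component.Simple
import Cfsg.Agent.FusSys.ConstrainedWeakly
import Cfsg.Agent.FusSys.InvariantOp
import Cfsg.Agent.FusSys.ComponentMap
import Cfsg.Agent.Fusion.Residual

/-!
Components centralize every normal subgroup.
-/

set_option autoImplicit false
set_option maxHeartbeats 800000

namespace Cfsg.Agent.FusSys.Component

open Cfsg Cfsg.FusionSystem Cfsg.Agent.FusSys

universe u

variable {Ω : Type u} [Group Ω] {S T V P Q R X Y : Subgroup Ω} {F : FusionSystem S} {p : ℕ}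
variable {D : FusionSystem V} {f g : Ω → Ω}

theorem apl_pow_restrict {γ : MulAut X} {b : MulAut V} (hVX : V ≤ X)
    (hx : ∀ x ∈ V, apl γ x = apl b x) (n : ℕ) : ∀ x ∈ V, apl (γ ^ n) x = apl (b ^ n) x := by
  induction n with
  | zero => exact fun x hxV => by rw [pow_zero, pow_zero, apl_one (hVX hxV), apl_one hxV]
  | succ n ih =>
    intro x hxV
    rw [pow_succ, pow_succ, apl_mul _ _ (hVX hxV), hx x hxV, ih _ (apl_mem b hxV), apl_mul _ _ hxV]

theorem exists_pprime_power [Fact p.Prime] [Finite X] (hVX : V ≤ X) {γ : MulAut X} {b : MulAut V}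
    (hx : ∀ x ∈ V, apl γ x = apl b x) (hb : (orderOf b).Coprime p) :
    ∃ n : ℕ, (orderOf (γ ^ n)).Coprime p ∧ ∀ x ∈ V, apl (γ ^ n) x = apl b x := by
  haveI : Finite (MulAut X) := Finite.of_injective _ MulEquiv.toEquiv_injective
  obtain ⟨u, c, huc, -, hu, hc, ⟨k, hk⟩, hco⟩ :=
    Cfsg.Agent.Fusion.exists_pPart_mul (p := p) γ (isOfFinOrder_of_finite γ)
  obtain ⟨n, hn⟩ := (isOfFinOrder_of_finite γ).mem_powers_iff_mem_zpowers.2 hc
  obtain ⟨j, hj⟩ := (isOfFinOrder_of_finite γ).mem_powers_iff_mem_zpowers.2 hu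
  replace hn : γ ^ n = c := hn
  replace hj : γ ^ j = u := hj
  refine ⟨n, hn ▸ hco, fun x hxV => ?_⟩
  have hbj : b ^ j = 1 := by
    have h1 : (b ^ j) ^ p ^ k = 1 := apl_ext fun y hy => by
      rw [← pow_mul, ← apl_pow_restrict hVX hx _ y hy, pow_mul, hj,
        orderOf_dvd_iff_pow_eq_one.1 hk, apl_one (hVX hy), apl_one hy]
    exact orderOf_eq_one_iff.1 (Nat.eq_one_of_dvd_coprimes (Nat.Coprime.pow_right k hb)
      (orderOf_pow_dvd j) (orderOf_dvd_iff_pow_eq_one.2 h1))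
  have h0 : apl γ x = apl u (apl c x) := by rw [huc, apl_mul _ _ (hVX hxV)]
  have h1 : apl c x = apl (b ^ n) x := by rw [← hn, apl_pow_restrict hVX hx n x hxV]
  rw [hx x hxV, h1, ← hj, apl_pow_restrict hVX hx j _ (apl_mem _ hxV), hbj,
    apl_one (apl_mem _ hxV), ← h1] at h0
  rw [hn]
  exact h0.symm

/-- A map conjugate to a conjugation extends to `Q`, displacing it inside a strongly closed subgroup. -/
theorem conj_ext [Finite S] (hQ : F.IsNormal Q) (hX : F.StronglyClosed X) {R₁ : Subgroup Ω}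
    {u : Ω → Ω} (hu : Iso F R R₁ u) {v : Ω} (hv : v ∈ S)
    (hvn : v ∈ Subgroup.normalizer (R₁ : Set Ω)) (hvQ : ∀ q ∈ Q, q⁻¹ * (v * q * v⁻¹) ∈ X) :
    ∃ k, Mor F (R ⊔ Q) k ∧ (∀ x ∈ R, k x ∈ R ∧ u (k x) = v * u x * v⁻¹) ∧
      ∀ q ∈ Q, q⁻¹ * k q ∈ X := by
  obtain ⟨g, hg, hgu, hgQ⟩ := (isNormal_iff.1 hQ).2 R u hu.1
  have hQc := stronglyClosed_of_isNormal hQ
  obtain ⟨W, hW⟩ := hg.exists_iso
  obtain ⟨r, hr, hrg, hgr⟩ := hW.symm
  have hR₁ : R₁ ≤ W := fun y hy => by
    obtain ⟨x, hx, rfl⟩ := hu.exists_eq hy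
    rw [← hgu x hx]
    exact hW.mem (Subgroup.mem_sup_left hx)
  have hQW : Q ≤ W := fun y hy => by
    obtain ⟨x, hx, rfl⟩ := (hgQ y).1 hy
    exact hW.mem (Subgroup.mem_sup_right hx)
  have hRQS : R₁ ⊔ Q ≤ S := sup_le hu.right_le hQ.1
  have hcm : Mor F (R₁ ⊔ Q) (fun y => v * y * v⁻¹) := mor_conj hRQS hv
  have hgmem : ∀ x ∈ R ⊔ Q, g x ∈ R₁ ⊔ Q := fun x hx => hg.mem_of_sup
    (fun a ha => Subgroup.mem_sup_left (by rw [hgu a ha]; exact hu.mem ha))
    (fun a ha => Subgroup.mem_sup_right ((hgQ _).2 ⟨a, ha, rfl⟩)) hx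
  have hcmem : ∀ y ∈ R₁ ⊔ Q, v * y * v⁻¹ ∈ W := fun y hy => hcm.mem_of_sup
    (fun a ha => hR₁ ((Subgroup.mem_normalizer_iff.1 hvn a).1 ha))
    (fun a ha => hQW (isStronglyClosed_normal hQc hv ha)) hy
  refine ⟨fun x => r (v * g x * v⁻¹),
    (hg.comp hcm hgmem).comp hr.1 fun x hx => hcmem _ (hgmem x hx), fun x hx => ?_, fun q hq => ?_⟩
  · have h1 : v * g x * v⁻¹ ∈ R₁ := by
      rw [hgu x hx]
      exact (Subgroup.mem_normalizer_iff.1 hvn _).1 (hu.mem hx)
    obtain ⟨z, hz, hzy⟩ := hu.exists_eq h1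
    have h2 : r (v * g x * v⁻¹) = z := by
      rw [← hzy, ← hgu z hz, hrg z (Subgroup.mem_sup_left hz)]
    show r (v * g x * v⁻¹) ∈ R ∧ u (r (v * g x * v⁻¹)) = v * u x * v⁻¹
    rw [h2]
    exact ⟨hz, by rw [hzy, hgu x hx]⟩
  · have hgq : g q ∈ Q := (hgQ _).2 ⟨q, hq, rfl⟩
    have hm := hvQ _ hgq
    have hmW : (g q)⁻¹ * (v * g q * v⁻¹) ∈ W :=
      hQW (Q.mul_mem (Q.inv_mem hgq) (isStronglyClosed_normal hQc hv hgq))
    have e : r (v * g q * v⁻¹) = q * r ((g q)⁻¹ * (v * g q * v⁻¹)) := by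
      conv_lhs => rw [show v * g q * v⁻¹ = g q * ((g q)⁻¹ * (v * g q * v⁻¹)) by group]
      rw [hr.1.map_mul (hQW hgq) hmW, hrg q (Subgroup.mem_sup_right hq)]
    show q⁻¹ * r (v * g q * v⁻¹) ∈ X
    rw [e, inv_mul_cancel_left]
    exact StronglyClosed.mor_mem hX hr.1 hmW hm

/-- The maps of `D` extending to `Q` trivially modulo `V`. -/
def QM (D : FusionSystem V) (F : FusionSystem S) (Q P : Subgroup Ω) (f : Ω → Ω) : Prop :=
  Mor D P f ∧ ∃ k, Mor F (P ⊔ Q) k ∧ (∀ x ∈ P, k x = f x) ∧ ∀ q ∈ Q, q⁻¹ * k q ∈ V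

theorem pElement_inn [Fact p.Prime] [Finite V] (hV : IsPGroup p V) (hD : D.IsSaturated p)
    {a : MulAut V} (ha : a ∈ D.autGroup V) {k : ℕ} (hk : a ^ p ^ k = 1) : a ∈ Inn V := by
  haveI : Finite (MulAut V) := Finite.of_injective _ MulEquiv.toEquiv_injective
  obtain ⟨-, U, hU⟩ := top_fullyAutomized hV hD
  rw [← inn_eq_autInducedBy] at hU
  haveI hn : (U : Subgroup (D.autGroup V)).Normal := by
    rw [hU]; exact Subgroup.normal_subgroupOf
  have hz : IsPGroup p (Subgroup.zpowers (⟨a, ha⟩ : D.autGroup V)) :=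
    isPGroup_zpowers_of_pow_eq_one (e := k) (Subtype.ext hk)
  have h1 : (⟨a, ha⟩ : D.autGroup V) ∈ (U : Subgroup (D.autGroup V)) := by
    have h2 := U.3 (hz.to_sup_of_normal_right U.2) le_sup_right
    exact h2.le (Subgroup.mem_sup_left (Subgroup.mem_zpowers _))
  rw [hU] at h1
  exact h1

section

variable [Fact p.Prime] [Finite S] (hS : IsPGroup p S) (hDn : D.IsNormalIn F p) (hQ : F.IsNormal Q)
include hS hDn hQ

theorem conj_quot_mem {v q : Ω} (hv : v ∈ V) (hq : q ∈ Q) : q⁻¹ * (v * q * v⁻¹) ∈ V := by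
  have _ := hS
  have hVc := hDn.1.2.2.2.1
  rw [show q⁻¹ * (v * q * v⁻¹) = q⁻¹ * v * q * v⁻¹ by group]
  refine V.mul_mem ?_ (V.inv_mem hv)
  simpa using isStronglyClosed_normal hVc (S.inv_mem (hQ.1 hq)) hv

theorem subRel_qm : SubRel D V (QM D F Q) := by
  have hVc := hDn.1.2.2.2.1
  have hVS := hVc.1
  have hQc := stronglyClosed_of_isNormal hQ
  exact
    { congr := by
        rintro P f f' ⟨h1, k, hk, hkf, hkQ⟩ he
        exact ⟨h1.congr he, k, hk, fun x hx => by rw [he x hx]; exact hkf x hx, hkQ⟩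
      le := fun h => ⟨h.1.le, fun _ hx => h.1.mem_S hx⟩
      conj := fun hP hs => ⟨mor_conj hP hs, mor_conj hP hs, _,
        mor_conj (sup_le (hP.trans hVS) hQ.1) (hVS hs), fun _ _ => rfl,
        fun q hq => conj_quot_mem hS hDn hQ hs hq⟩
      comp := by
        rintro P R f g hf ⟨-, k, hk, hkf, hkQ⟩ hg ⟨-, k', hk', hk'g, hk'Q⟩ hfR
        refine ⟨hf.comp hg hfR, k' ∘ k, hk.comp hk' (fun x hx => hk.mem_of_sup
          (fun a ha => Subgroup.mem_sup_left (by rw [hkf a ha]; exact hfR a ha))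
          (fun a ha => Subgroup.mem_sup_right
            (StronglyClosed.mor_mem hQc hk (Subgroup.mem_sup_right ha) ha)) hx),
          fun x hx => ?_, fun q hq => ?_⟩
        · show k' (k x) = g (f x)
          rw [hkf x hx, hk'g _ (hfR x hx)]
        · have hkq := StronglyClosed.mor_mem hQc hk (Subgroup.mem_sup_right hq) hq
          show q⁻¹ * k' (k q) ∈ V
          have := V.mul_mem (hkQ q hq) (hk'Q _ hkq)
          convert this using 1
          group
      inv := by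
        rintro P R f g hf ⟨-, k, hk, hkf, hkQ⟩ hg hgf
        obtain ⟨W, hW⟩ := hk.exists_iso
        obtain ⟨r, hr, hrk, hkr⟩ := hW.symm
        have hQW : Q ≤ W := fun y hy => by
          obtain ⟨x, hx, rfl⟩ := ((StronglyClosed.iso_self hQc hk le_sup_right).2 y).1 hy
          exact hW.mem (Subgroup.mem_sup_right hx)
        have hRW : R ≤ W := fun y hy => by
          obtain ⟨x, hx, rfl⟩ := hf.exists_eq hy
          rw [← hkf x hx]
          exact hW.mem (Subgroup.mem_sup_left hx)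
        refine ⟨hg.1, r, hr.1.mono (sup_le hRW hQW), fun y hy => ?_, fun q hq => ?_⟩
        · obtain ⟨x, hx, rfl⟩ := hf.exists_eq hy
          rw [hgf x hx, ← hkf x hx, hrk x (Subgroup.mem_sup_left hx)]
        · obtain ⟨x, hx, rfl⟩ := ((StronglyClosed.iso_self hQc hk le_sup_right).2 q).1 hq
          rw [hrk x (Subgroup.mem_sup_right hx)]
          have := V.inv_mem (hkQ x hx)
          convert this using 1
          group }

theorem qm_pElement {α : MulAut R} (hR : R ≤ V) (hα : α ∈ D.autGroup R) {k : ℕ}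
    (hk : α ^ p ^ k = 1) : QM D F Q R (apl α) := by
  have hVc := hDn.1.2.2.2.1
  have hVS := hVc.1
  haveI := finite_of_le hVS
  have hVp := hS.to_le hVS
  have hDs := hDn.1.1
  obtain ⟨R₁, g, hR₁, -, hgi, -⟩ := exists_fullyNormalized_mor hVp hDs hR
  haveI := finite_of_le hR₁.1
  haveI : Finite (MulAut R₁) := Finite.of_injective _ MulEquiv.toEquiv_injective
  obtain ⟨-, U, hU⟩ := fullyAutomized_of_fullyNormalized hVp hDs hR₁
  obtain ⟨⟨b, hb⟩, hbU⟩ := exists_conj_mem_sylow (R := Subgroup.zpowers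
    (⟨hgi.conjAut α, hgi.conjAut_mem hα⟩ : D.autGroup R₁))
    (isPGroup_zpowers_of_pow_eq_one (e := k) (Subtype.ext (by
      show (hgi.conjAut α) ^ p ^ k = 1
      rw [← map_pow, hk, map_one]))) U
  have h1 := hbU _ (Subgroup.mem_zpowers _)
  rw [hU, Subgroup.mem_subgroupOf] at h1
  obtain ⟨v, hv, hvn, hvx⟩ := mem_autInducedBy_iff.1
    (show b * hgi.conjAut α * b⁻¹ ∈ autInducedBy V R₁ from h1)
  have hu := hgi.comp (iso_apl hR₁.1 hb)
  have hsub := isSubsystemOf_iff_mor.1 hDn.1.2.2.1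
  obtain ⟨K, hK, hKR, hKQ⟩ := conj_ext hQ hVc
    (⟨hsub _ _ hu.1, hu.2⟩ : Iso F R R₁ (apl b ∘ g)) (hVS hv) hvn
    fun q hq => conj_quot_mem hS hDn hQ hv hq
  refine ⟨(iso_apl hR hα).1, K, hK, fun x hx => ?_, hKQ⟩
  obtain ⟨hKx, hKe⟩ := hKR x hx
  refine hu.1.injOn hKx (apl_mem α hx) (hKe.trans ?_)
  show v * apl b (g x) * v⁻¹ = apl b (g (apl α x))
  have hy : apl b (g x) ∈ R₁ := apl_mem b (hgi.mem hx)
  rw [← hvx _ hy, apl_mul _ _ hy, apl_inv_apl b (hgi.mem hx), apl_mul _ _ (hgi.mem hx),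
    hgi.conjAut_apl α hx]

theorem qm_top_pprime {b : MulAut V} (hb : b ∈ D.autGroup V) (hco : (orderOf b).Coprime p) :
    QM D F Q V (apl b) := by
  classical
  have hVc := hDn.1.2.2.2.1
  have hVS := hVc.1
  haveI := finite_of_le hVS
  have hVp := hS.to_le hVS
  have hQc := stronglyClosed_of_isNormal hQ
  obtain ⟨β, hβ, hβV, hβC⟩ := hDn.2 b hb
  have hWS : V ⊔ centralizerIn S V ≤ S := sup_le hVS (centralizerIn_le _ _)
  obtain ⟨K, hK, hKβ, hKQ⟩ := (isNormal_iff.1 hQ).2 _ _ (iso_apl hWS hβ).1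
  obtain ⟨W, hW⟩ : ∃ W, V ⊔ centralizerIn S V = W := ⟨_, rfl⟩
  rw [hW] at hWS
  have hVW : V ≤ W := hW ▸ le_sup_left
  have hCW : centralizerIn S V ≤ W := hW ▸ le_sup_right
  have hKV : ∀ x ∈ V, K x = apl b x := fun x hx => by
    rw [hKβ x (Subgroup.mem_sup_left hx), apl_apply β (Subgroup.mem_sup_left hx), apl_apply b hx]
    exact hβV ⟨x, hx⟩
  have hKC : ∀ c ∈ centralizerIn S V, c⁻¹ * K c ∈ V := fun c hc => by
    rw [hKβ c (Subgroup.mem_sup_right hc), apl_apply β (Subgroup.mem_sup_right hc)]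
    exact (hβC ⟨c, Subgroup.mem_sup_right hc⟩ hc).1
  have hKW : ∀ x ∈ V ⊔ centralizerIn S V, K x ∈ V ⊔ centralizerIn S V := fun x hx => by
    rw [hKβ x hx]; exact apl_mem β hx
  rw [hW] at hK hKW
  have hWQS : W ⊔ Q ≤ S := sup_le hWS hQ.1
  haveI := finite_of_le hWQS
  have hKm : ∀ x ∈ W ⊔ Q, K x ∈ W ⊔ Q := fun x hx => hK.mem_of_sup
    (fun a ha => Subgroup.mem_sup_left (hKW a ha))
    (fun a ha => Subgroup.mem_sup_right (StronglyClosed.mor_mem hQc hK (Subgroup.mem_sup_right ha) ha))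
    hx
  obtain ⟨γ, hγ, hγK⟩ := (show Iso F (W ⊔ Q) (W ⊔ Q) K from ⟨hK, fun y =>
    ⟨fun hy => hK.surj_of_card hWQS hKm le_rfl hy,
      fun ⟨x, hx, hxy⟩ => hxy ▸ hKm x hx⟩⟩).exists_mem_autGroup
  have hVX : V ≤ W ⊔ Q := hVW.trans le_sup_left
  obtain ⟨n, hnco, hnV⟩ := exists_pprime_power (p := p) hVX
    (fun x hx => (hγK x (hVX hx)).trans (hKV x hx)) hco
  have hpowC : ∀ j : ℕ, ∀ c ∈ centralizerIn S V, c⁻¹ * apl (γ ^ j) c ∈ V := by
    intro j
    induction j with
    | zero =>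
      intro c hc
      rw [pow_zero, apl_one (Subgroup.mem_sup_left (hCW hc)), inv_mul_cancel]
      exact V.one_mem
    | succ j ih =>
      intro c hc
      have hcX : c ∈ W ⊔ Q := Subgroup.mem_sup_left (hCW hc)
      have hd := hKC c hc
      have hm := (iso_apl hWQS (Subgroup.pow_mem _ hγ j)).1
      rw [pow_succ, apl_mul _ _ hcX, hγK c hcX,
        show K c = c * (c⁻¹ * K c) by group, hm.map_mul hcX (hVX hd), ← mul_assoc]
      exact V.mul_mem (ih c hc) (StronglyClosed.mor_mem hVc hm (hVX hd) hd)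
  obtain ⟨c, hcdef⟩ : ∃ c, γ ^ n = c := ⟨_, rfl⟩
  rw [hcdef] at hnco hnV
  have hcF : c ∈ F.autGroup (W ⊔ Q) := hcdef ▸ Subgroup.pow_mem _ hγ n
  have hmc := (iso_apl hWQS hcF).1
  have hWc : ∀ w ∈ W, w⁻¹ * apl c w ∈ V := by
    let L : Subgroup Ω :=
      { carrier := {w | w ∈ W ∧ w⁻¹ * apl c w ∈ V}
        one_mem' := ⟨W.one_mem, by rw [hmc.map_one]; simp⟩
        mul_mem' := fun {x y} hx hy => ⟨W.mul_mem hx.1 hy.1, by
          rw [hmc.map_mul (Subgroup.mem_sup_left hx.1) (Subgroup.mem_sup_left hy.1)]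
          have h1 := isStronglyClosed_normal hVc (S.inv_mem (hWS hy.1)) hx.2
          have h2 := V.mul_mem h1 hy.2
          convert h2 using 1
          group⟩
        inv_mem' := fun {x} hx => ⟨W.inv_mem hx.1, by
          rw [hmc.map_inv (Subgroup.mem_sup_left hx.1)]
          have h1 := isStronglyClosed_normal hVc (hWS hx.1) (V.inv_mem hx.2)
          convert h1 using 1
          group⟩ }
    have hle : W ≤ L := hW ▸ sup_le
      (fun v hv => ⟨hVW hv, V.mul_mem (V.inv_mem hv) (by rw [hnV v hv]; exact apl_mem b hv)⟩)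
      (fun x hx => ⟨hCW hx, hcdef ▸ hpowC n x hx⟩)
    exact fun w hw => (hle hw).2
  have hbF : b ∈ F.autGroup V := autGroup_le_of_invariant hDn.1.2.2 hb
  have hQd : ∀ q ∈ Q, q⁻¹ * apl c q ∈ V := by
    intro q hq
    have hqS := hQ.1 hq
    have hqX : q ∈ W ⊔ Q := Subgroup.mem_sup_right hq
    obtain ⟨d, hddef⟩ : ∃ d, d = q⁻¹ * apl c q := ⟨_, rfl⟩
    have hcq : apl c q ∈ Q := StronglyClosed.mor_mem hQc hmc hqX hq
    have hdQ : d ∈ Q := hddef ▸ Q.mul_mem (Q.inv_mem hq) hcq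
    have hdS := hQ.1 hdQ
    rw [← hddef]
    have hn : ∀ s ∈ S, s ∈ Subgroup.normalizer (V : Set Ω) := fun s hs =>
      StronglyClosed.le_normalizer hVc hs
    obtain ⟨σ, hσ, hσx⟩ := exists_mem_autInducedBy (K := S) (P := V) hqS (hn q hqS)
    have hσF : σ ∈ F.autGroup V := autInducedBy_le_autGroup hVS hσ
    obtain ⟨τ, hτ, hτx⟩ := exists_mem_autInducedBy (K := S) (P := V) hdS (hn d hdS)
    have hτe : τ = σ⁻¹ * b * σ * b⁻¹ := apl_ext fun x hx => by
      have hy := apl_mem b⁻¹ hx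
      have hz := apl_mem σ hy
      have h1 : apl b (apl σ (apl b⁻¹ x)) = apl c q * x * (apl c q)⁻¹ := by
        rw [← hnV _ hz, hσx _ hy, hmc.map_conj hqX (hVX hy), hnV _ hy, apl_apl_inv b hx]
      rw [apl_mul _ _ hx, apl_mul _ _ hy, apl_mul _ _ hz, hτx x hx]
      have hw := apl_mem b hz
      have h2 := hσx _ (apl_mem σ⁻¹ hw)
      rw [apl_apl_inv σ hw] at h2
      calc d * x * d⁻¹ = q⁻¹ * (apl c q * x * (apl c q)⁻¹) * q := by rw [hddef]; group
        _ = q⁻¹ * apl b (apl σ (apl b⁻¹ x)) * q := by rw [h1]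
        _ = _ := by conv_lhs => rw [h2]
                    group
    have hτD : τ ∈ D.autGroup V := by
      rw [hτe]
      refine Subgroup.mul_mem _ ?_ (Subgroup.inv_mem _ hb)
      have h1 := conjAut_mem_of_isInvariant hDn.1.2.2 le_rfl
        (iso_apl hVS (Subgroup.inv_mem _ hσF)) hb
      convert h1 using 1
      refine apl_ext fun y hy => ?_
      have hy' : apl σ y ∈ V := apl_mem σ hy
      conv_rhs => rw [← apl_inv_apl σ hy, (iso_apl hVS (Subgroup.inv_mem _ hσF)).conjAut_apl b hy']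
      rw [apl_mul _ _ hy, apl_mul _ _ hy']
    obtain ⟨e, he⟩ := hS ⟨d, hdS⟩
    obtain ⟨⟨v, hv⟩, hvτ⟩ := pElement_inn hVp hDn.1.1 hτD (k := e) (by
      refine apl_ext fun x hx => ?_
      have key : ∀ j : ℕ, apl (τ ^ j) x = d ^ j * x * (d ^ j)⁻¹ := by
        intro j
        induction j with
        | zero => rw [pow_zero, apl_one hx]; group
        | succ j ih =>
          rw [pow_succ', apl_mul _ _ hx, hτx _ (apl_mem _ hx), ih, pow_succ']
          group
      rw [key, show d ^ p ^ e = 1 from congrArg Subtype.val he, apl_one hx]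
      group)
    have hdW : d ∈ W := by
      have hc : v⁻¹ * d ∈ centralizerIn S V := ⟨S.mul_mem (S.inv_mem (hVS hv)) hdS,
        Subgroup.mem_centralizer_iff.2 fun x hx => by
          have h1 := hτx x hx
          rw [← hvτ, apl_conj _ hx] at h1
          replace h1 : v * x * v⁻¹ = d * x * d⁻¹ := h1
          calc x * (v⁻¹ * d) = v⁻¹ * (v * x * v⁻¹) * d := by group
            _ = v⁻¹ * d * x := by rw [h1]; group⟩
      have := W.mul_mem (hVW hv) (hCW hc)
      rwa [mul_inv_cancel_left] at this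
    -- the displacement has exponent prime to `p` modulo `V`
    have hdd := hWc d hdW
    have hstep : ∀ j : ℕ, (q * d ^ j)⁻¹ * apl (c ^ j) q ∈ V := by
      intro j
      induction j with
      | zero => rw [pow_zero, pow_zero, apl_one hqX, mul_one, inv_mul_cancel]; exact V.one_mem
      | succ j ih =>
        have hdj : d ^ j ∈ W ⊔ Q := Subgroup.mem_sup_right (Q.pow_mem hdQ j)
        rw [pow_succ' c, apl_mul _ _ hqX,
          show apl (c ^ j) q = q * d ^ j * ((q * d ^ j)⁻¹ * apl (c ^ j) q) by group,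
          hmc.map_mul (Subgroup.mul_mem _ hqX hdj) (hVX ih), hmc.map_mul hqX hdj]
        have h1 := hWc _ (W.pow_mem hdW j)
        have h2 := StronglyClosed.mor_mem hVc hmc (hVX ih) ih
        have h3 := V.mul_mem h1 h2
        convert h3 using 1
        rw [show apl c q = q * d by rw [hddef]; group, pow_succ' d, ← mul_assoc q d]
        group
    have hm := hstep (orderOf c)
    rw [pow_orderOf_eq_one, apl_one hqX] at hm
    have hdm : d ^ orderOf c ∈ V := by
      have := V.inv_mem hm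
      convert this using 1
      group
    obtain ⟨N, hN⟩ := IsPGroup.iff_card.1 hS
    have hod : orderOf (⟨d, hdS⟩ : S) ∣ p ^ N := hN ▸ orderOf_dvd_natCard _
    obtain ⟨j, hj⟩ := exists_pow_eq_self_of_coprime (x := (⟨d, hdS⟩ : S)) (n := orderOf c)
      ((Nat.Coprime.pow_right N hnco).coprime_dvd_right hod)
    have hj' : (d ^ orderOf c) ^ j = d := congrArg Subtype.val hj
    exact hj' ▸ V.pow_mem hdm j
  refine ⟨(iso_apl le_rfl hb).1, apl c, hmc.mono (sup_le_sup_right hVW Q), hnV, hQd⟩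

/-- Every map of a normal subsystem extends to `Q` trivially modulo `V`. -/
theorem qm_all : ∀ P f, Mor D P f → QM D F Q P f := by
  classical
  have hVS := hDn.1.2.2.2.1.1
  haveI := finite_of_le hVS
  have hVp := hS.to_le hVS
  have hM := subRel_qm hS hDn hQ
  have hC : ContainsCentricOp (subSys hM) D p := fun R hR => by
    rw [opPrime, MonoidHom.map_closure, Subgroup.closure_le]
    rintro _ ⟨⟨α, hα⟩, ⟨k, hk⟩, rfl⟩
    rw [Subgroup.orderOf_mk] at hk
    exact Subgroup.subset_closure (((mor_subSys hM).2 ⟨(iso_apl hR.1 hα).1,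
      qm_pElement hS hDn hQ hR.1 hα (k := k)
        (show α ^ p ^ k = 1 by rw [← hk, pow_orderOf_eq_one])⟩).hom_eq fun x => (apl_coe α x).symm)
  intro P f hf
  obtain ⟨β, hβ, g, hg, hfg⟩ := frattini_minOp hVp hDn.1.1 P f hf
  have hgQ := ((mor_subSys hM).1 (le_iff_mor.1 (minOp_le_of hC) P g hg)).2
  have hβQ : QM D F Q V (apl β) := by
    haveI : Finite (MulAut V) := Finite.of_injective _ MulEquiv.toEquiv_injective
    obtain ⟨a, b, hab, -, ha, hb, ⟨k, hk⟩, hco⟩ :=
      Cfsg.Agent.Fusion.exists_pPart_mul (p := p) β (isOfFinOrder_of_finite β)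
    have haD : a ∈ D.autGroup V := Subgroup.zpowers_le.2 hβ ha
    have hbD : b ∈ D.autGroup V := Subgroup.zpowers_le.2 hβ hb
    exact hM.congr (hM.comp (iso_apl le_rfl hbD).1 (qm_top_pprime hS hDn hQ hbD hco)
      (iso_apl le_rfl haD).1 (qm_pElement hS hDn hQ le_rfl haD (orderOf_dvd_iff_pow_eq_one.1 hk))
      fun x hx => apl_mem b hx) fun x hx => by rw [hab]; exact apl_mul a b hx
  exact hM.congr (hM.comp hgQ.1 hgQ (iso_apl le_rfl hβ).1 hβQ fun x hx => hgQ.1.mem_S hx) hfg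

end

/-- Components centralize every normal subgroup. -/
theorem centralizes_normal {T : Subgroup Ω} {C : FusionSystem T} {S : Subgroup Ω}
    {F : FusionSystem S} {p : ℕ} (h : C.IsSubnormalIn F p) :
    ∀ [Fact p.Prime] [Finite S], IsPGroup p S → F.IsSaturated p → C.Quasisimple p →
      ∀ Q, F.IsNormal Q → ∀ P f, Mor C P f → Mor F P f ∧ CRel F Q P f := by
  induction h with
  | @refl F p =>
    intro _ _ hS _ hq Q hQ P f hf
    obtain ⟨g, hg, hgf, hgQ⟩ := (isCentral_iff.1 (isCentral_of_quasisimple hS hq hQ)).2 P f hf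
    have hcen := le_center (isCentral_of_quasisimple hS hq hQ)
    have hC : ∀ s ∈ T, s ∈ centralizerIn T Q := fun s hs =>
      ⟨hs, Subgroup.mem_centralizer_iff.2 fun y hy =>
        (center_le_centralizer F (hcen hy) s hs).symm⟩
    exact ⟨hf, fun x hx => hC x (hf.le hx), fun x hx => hC _ (hf.mem_S hx), g, hg, hgf, hgQ⟩
  | @step V S C D F p hCD hDF ih =>
    intro _ _ hS hF hq Q hQ
    have hVc := hDF.1.2.2.2.1
    have hVS := hVc.1
    haveI := finite_of_le hVS
    have hTV := subnormal_le hCD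
    haveI := finite_of_le hTV
    have hTS := hTV.trans hVS
    have hTp := hS.to_le hTS
    have hQc := stronglyClosed_of_isNormal hQ
    have hsub := isSubsystemOf_iff_mor.1 hDF.1.2.2.1
    have ih' := ih (hS.to_le hVS) hDF.1.1 hq (Q ⊓ V) (isNormal_inter hS hDF.1 hQ)
    have hCD' : ∀ P f, Mor C P f → Mor D P f := fun P f hf => (ih' P f hf).1
    have hTM : ∀ x ∈ T, ∀ m ∈ Q ⊓ V, x * m * x⁻¹ = m := fun x hx m hm => by
      rw [← Subgroup.mem_centralizer_iff.1 ((ih' T id (mor_id le_rfl)).2.1 hx).2 m hm,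
        mul_inv_cancel_right]
    -- elements of order prime to `p`
    have hfix : ∀ R, R ≤ T → ∀ a ∈ C.autGroup R, (orderOf a).Coprime p →
        ∃ k, Mor F (R ⊔ Q) k ∧ (∀ x ∈ R, k x = apl a x) ∧ ∀ q ∈ Q, k q = q := by
      intro R hR a ha hco
      obtain ⟨hm, -, -, k₀, hk₀, hk₀a, hk₀M⟩ := ih' R _ (iso_apl hR ha).1
      obtain ⟨-, k, hk, hkk₀, hkQ⟩ := qm_all hS hDF hQ _ k₀ hk₀
      have hRQS : R ⊔ Q ≤ S := sup_le (hR.trans hTS) hQ.1
      haveI := finite_of_le hRQS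
      have hle : R ⊔ Q ≤ R ⊔ (Q ⊓ V) ⊔ Q := sup_le_sup_right le_sup_left Q
      have hkR : ∀ x ∈ R, k x = apl a x := fun x hx => by
        rw [hkk₀ x (Subgroup.mem_sup_left hx), hk₀a x hx]
      have hkm : ∀ x ∈ R ⊔ Q, k x ∈ R ⊔ Q := fun x hx => (hk.mono hle).mem_of_sup
        (fun a' ha' => Subgroup.mem_sup_left (by rw [hkR a' ha']; exact apl_mem a ha'))
        (fun a' ha' => Subgroup.mem_sup_right
          (StronglyClosed.mor_mem hQc hk (Subgroup.mem_sup_right ha') ha')) hx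
      obtain ⟨γ, hγ, hγk⟩ := (show Iso F (R ⊔ Q) (R ⊔ Q) k from ⟨hk.mono hle, fun y =>
        ⟨fun hy => (hk.mono hle).surj_of_card hRQS hkm le_rfl hy,
          fun ⟨x, hx, hxy⟩ => hxy ▸ hkm x hx⟩⟩).exists_mem_autGroup
      obtain ⟨n, hnco, hnR⟩ := exists_pprime_power (p := p) (le_sup_left : R ≤ R ⊔ Q)
        (fun x hx => (hγk x (Subgroup.mem_sup_left hx)).trans (hkR x hx)) hco
      have hγM : ∀ m ∈ Q ⊓ V, apl γ m = m := fun m hm' => by
        rw [hγk m (Subgroup.mem_sup_right hm'.1), hkk₀ m (Subgroup.mem_sup_right hm'), hk₀M m hm']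
      have hpow : ∀ j : ℕ, (∀ m ∈ Q ⊓ V, apl (γ ^ j) m = m) ∧
          ∀ q ∈ Q, q⁻¹ * apl (γ ^ j) q ∈ Q ⊓ V := by
        intro j
        induction j with
        | zero =>
          refine ⟨fun m hm' => by rw [pow_zero, apl_one (Subgroup.mem_sup_right hm'.1)],
            fun q hq' => by rw [pow_zero, apl_one (Subgroup.mem_sup_right hq'), inv_mul_cancel]; exact one_mem _⟩
        | succ j ihj =>
          refine ⟨fun m hm' => by
            rw [pow_succ, apl_mul _ _ (Subgroup.mem_sup_right hm'.1), hγM m hm', ihj.1 m hm'],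
            fun q hq' => ?_⟩
          have hqX : q ∈ R ⊔ Q := Subgroup.mem_sup_right hq'
          have hkq : q⁻¹ * k q ∈ Q ⊓ V := ⟨Q.mul_mem (Q.inv_mem hq')
            (StronglyClosed.mor_mem hQc hk (Subgroup.mem_sup_right hq') hq'), hkQ q hq'⟩
          rw [pow_succ, apl_mul _ _ hqX, hγk q hqX, show k q = q * (q⁻¹ * k q) by group,
            (iso_apl hRQS (Subgroup.pow_mem _ hγ j)).1.map_mul hqX (Subgroup.mem_sup_right hkq.1),
            ihj.1 _ hkq, ← mul_assoc]
          exact (Q ⊓ V).mul_mem (ihj.2 q hq') hkq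
      refine ⟨apl (γ ^ n), (iso_apl hRQS (Subgroup.pow_mem _ hγ n)).1, hnR, fun q hq' => ?_⟩
      exact eq_of_fixed_quot (hS.to_le hRQS) hnco (Subgroup.mem_sup_right hq')
        ((hpow n).1 _ ((hpow n).2 q hq'))
    -- `T` centralizes `Q`
    have hTQ : ∀ x ∈ T, ∀ q ∈ Q, x * q = q * x := by
      intro x hx q hq'
      let L : Subgroup Ω :=
        { carrier := {y | y * q = q * y}
          one_mem' := by simp
          mul_mem' := fun {y z} (hy : y * q = q * y) (hz : z * q = q * z) => by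
            show y * z * q = q * (y * z)
            rw [mul_assoc, hz, ← mul_assoc, hy, mul_assoc]
          inv_mem' := fun {y} (hy : y * q = q * y) => by
            show y⁻¹ * q = q * y⁻¹
            calc y⁻¹ * q = y⁻¹ * (q * y) * y⁻¹ := by group
              _ = q * y⁻¹ := by rw [← hy]; group }
      suffices hle : C.hyperfocalSubgroup p ≤ L by
        have := hle (hq.2.1.ge hx)
        exact this
      refine (Subgroup.closure_le _).2 ?_
      rintro _ ⟨R, α, z, hR, hα, rfl⟩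
      haveI := finite_of_le hR
      let B : Subgroup (C.autGroup R) :=
        { carrier := {α | ∀ z : R, (z : Ω)⁻¹ * (((α : MulAut R) z : R) : Ω) ∈ L}
          one_mem' := fun z => by simp
          mul_mem' := fun {a b} ha hb z => by
            have h1 := L.mul_mem (hb z) (ha ((b : MulAut R) z))
            convert h1 using 1
            simp only [Subgroup.coe_mul, MulAut.mul_apply]
            group
          inv_mem' := fun {a} ha z => by
            have h1 := L.inv_mem (ha ((a : MulAut R)⁻¹ z))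
            convert h1 using 1
            simp only [Subgroup.coe_inv, MulAut.apply_inv_self, mul_inv_rev, inv_inv] }
      refine (Subgroup.closure_le B).2 ?_ hα z
      intro a hco z
      obtain ⟨k, hk, hka, hkQ⟩ := hfix R hR a a.2 (by rw [Subgroup.orderOf_coe]; exact hco)
      have hzT : (z : Ω) ∈ T := hR z.2
      obtain ⟨m, hmdef⟩ : ∃ m, m = (z : Ω)⁻¹ * (q * z * q⁻¹) := ⟨_, rfl⟩
      have hm : m ∈ Q ⊓ V := by
        rw [hmdef]
        refine ⟨?_, ?_⟩
        · rw [show (z : Ω)⁻¹ * (q * z * q⁻¹) = (z : Ω)⁻¹ * q * z * q⁻¹ by group]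
          refine Q.mul_mem ?_ (Q.inv_mem hq')
          simpa using isStronglyClosed_normal hQc (S.inv_mem (hTS hzT)) hq'
        · exact V.mul_mem (V.inv_mem (hTV hzT))
            (isStronglyClosed_normal hVc (hQ.1 hq') (hTV hzT))
      have hzX : (z : Ω) ∈ R ⊔ Q := Subgroup.mem_sup_left z.2
      have hqX : q ∈ R ⊔ Q := Subgroup.mem_sup_right hq'
      obtain ⟨w, hw⟩ : ∃ w, ((a : MulAut R) z : Ω) = w := ⟨_, rfl⟩
      have hwT : w ∈ T := hw ▸ hR ((a : MulAut R) z).2
      have h1 := hk.map_mul hzX (Subgroup.mem_sup_right hm.1 : m ∈ R ⊔ Q)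
      rw [show (z : Ω) * m = q * z * q⁻¹ by rw [hmdef]; group, hk.map_conj hqX hzX, hkQ q hq',
        hkQ m hm.1, hka _ z.2, apl_coe, hw] at h1
      show (z : Ω)⁻¹ * _ * q = q * ((z : Ω)⁻¹ * _)
      rw [hw]
      obtain ⟨y, hy⟩ : ∃ y, y = (z : Ω)⁻¹ * w := ⟨_, rfl⟩
      rw [← hy]
      have hyM : y * m * y⁻¹ = m := hTM y (hy ▸ T.mul_mem (T.inv_mem hzT) hwT) m hm
      have e : q * (z : Ω) * q⁻¹ = z * m := by rw [hmdef]; group
      have e2 : q * y * q⁻¹ = y := by
        calc q * y * q⁻¹ = (q * z * q⁻¹)⁻¹ * (q * w * q⁻¹) := by rw [hy]; group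
          _ = m⁻¹ * ((z : Ω)⁻¹ * w) * m := by rw [e, h1]; group
          _ = y := by
            rw [← hy]
            calc m⁻¹ * y * m = m⁻¹ * (y * m * y⁻¹) * y := by group
              _ = y := by rw [hyM]; group
      calc y * q = q * y * q⁻¹ * q := by rw [e2]
        _ = q * y := by group
    -- every map fixes `Q`
    let M : Subgroup Ω → (Ω → Ω) → Prop := fun R f =>
      Mor C R f ∧ ∃ k, Mor F (R ⊔ Q) k ∧ (∀ x ∈ R, k x = f x) ∧ ∀ q ∈ Q, k q = q
    have hM : SubRel C T M :=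
      { congr := by
          rintro R f f' ⟨h1, k, hk, hkf, hkQ⟩ he
          exact ⟨h1.congr he, k, hk, fun x hx => by rw [he x hx]; exact hkf x hx, hkQ⟩
        le := fun h => ⟨h.1.le, fun _ hx => h.1.mem_S hx⟩
        conj := fun hR hs => ⟨mor_conj hR hs, mor_conj hR hs, _,
          mor_conj (sup_le (hR.trans hTS) hQ.1) (hTS hs), fun _ _ => rfl,
          fun q hq' => by rw [hTQ _ hs q hq', mul_inv_cancel_right]⟩
        comp := by
          rintro R R' f g hf ⟨-, k, hk, hkf, hkQ⟩ hg ⟨-, k', hk', hk'g, hk'Q⟩ hfR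
          refine ⟨hf.comp hg hfR, k' ∘ k, hk.comp hk' (fun x hx => hk.mem_of_sup
            (fun a ha => Subgroup.mem_sup_left (by rw [hkf a ha]; exact hfR a ha))
            (fun a ha => Subgroup.mem_sup_right (by rw [hkQ a ha]; exact ha)) hx),
            fun x hx => ?_, fun q hq' => ?_⟩
          · show k' (k x) = g (f x)
            rw [hkf x hx, hk'g _ (hfR x hx)]
          · show k' (k q) = q
            rw [hkQ q hq', hk'Q q hq']
        inv := by
          rintro R R' f g hf ⟨-, k, hk, hkf, hkQ⟩ hg hgf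
          obtain ⟨W, hW⟩ := hk.exists_iso
          obtain ⟨r, hr, hrk, -⟩ := hW.symm
          have hQW : Q ≤ W := fun y hy => by
            rw [← hkQ y hy]; exact hW.mem (Subgroup.mem_sup_right hy)
          have hRW : R' ≤ W := fun y hy => by
            obtain ⟨x, hx, rfl⟩ := hf.exists_eq hy
            rw [← hkf x hx]
            exact hW.mem (Subgroup.mem_sup_left hx)
          refine ⟨hg.1, r, hr.1.mono (sup_le hRW hQW), fun y hy => ?_, fun q hq' => ?_⟩
          · obtain ⟨x, hx, rfl⟩ := hf.exists_eq hy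
            rw [hgf x hx, ← hkf x hx, hrk x (Subgroup.mem_sup_left hx)]
          · have := hrk q (Subgroup.mem_sup_right hq')
            rwa [hkQ q hq'] at this }
    have hall : ∀ P f, Mor C P f → M P f := alperin_induction hTp hq.1 hM fun R hR α hα => by
      have hRT : R ≤ T := hR.elim (fun e => e.le) fun e => e.1.1
      haveI := finite_of_le hRT
      haveI : Finite (MulAut R) := Finite.of_injective _ MulEquiv.toEquiv_injective
      obtain ⟨a, b, hab, -, ha, hb, ⟨k, hk⟩, hco⟩ :=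
        Cfsg.Agent.Fusion.exists_pPart_mul (p := p) α (isOfFinOrder_of_finite α)
      have haC : a ∈ C.autGroup R := Subgroup.zpowers_le.2 hα ha
      have hbC : b ∈ C.autGroup R := Subgroup.zpowers_le.2 hα hb
      have hbM : M R (apl b) := ⟨(iso_apl hRT hbC).1, hfix R hRT b hbC hco⟩
      have haM : M R (apl a) := by
        refine ⟨(iso_apl hRT haC).1, ?_⟩
        obtain ⟨R₁, g, hR₁, -, hgi, -⟩ := exists_fullyNormalized_mor hTp hq.1 hRT
        haveI := finite_of_le hR₁.1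
        haveI : Finite (MulAut R₁) := Finite.of_injective _ MulEquiv.toEquiv_injective
        obtain ⟨-, U, hU⟩ := fullyAutomized_of_fullyNormalized hTp hq.1 hR₁
        obtain ⟨⟨c, hc⟩, hcU⟩ := exists_conj_mem_sylow (R := Subgroup.zpowers
          (⟨hgi.conjAut a, hgi.conjAut_mem haC⟩ : C.autGroup R₁))
          (isPGroup_zpowers_of_pow_eq_one (e := k) (Subtype.ext (by
            show (hgi.conjAut a) ^ p ^ k = 1
            rw [← map_pow, orderOf_dvd_iff_pow_eq_one.1 hk, map_one]))) U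
        have h1 := hcU _ (Subgroup.mem_zpowers _)
        rw [hU, Subgroup.mem_subgroupOf] at h1
        obtain ⟨v, hv, hvn, hvx⟩ := mem_autInducedBy_iff.1
          (show c * hgi.conjAut a * c⁻¹ ∈ autInducedBy T R₁ from h1)
        have hu := hgi.comp (iso_apl hR₁.1 hc)
        obtain ⟨K, hK, hKR, hKQ⟩ := conj_ext hQ (X := (⊥ : Subgroup Ω))
          (stronglyClosed_of_isNormal isNormal_bot)
          (⟨hsub _ _ (hCD' _ _ hu.1), hu.2⟩ : Iso F R R₁ (apl c ∘ g)) (hTS hv) hvn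
          fun q hq' => by rw [Subgroup.mem_bot, hTQ v hv q hq']; group
        refine ⟨K, hK, fun x hx => ?_, fun q hq' =>
          (inv_mul_eq_one.1 (Subgroup.mem_bot.1 (hKQ q hq'))).symm⟩
        obtain ⟨hKx, hKe⟩ := hKR x hx
        refine hu.1.injOn hKx (apl_mem a hx) (hKe.trans ?_)
        show v * apl c (g x) * v⁻¹ = apl c (g (apl a x))
        have hy : apl c (g x) ∈ R₁ := apl_mem c (hgi.mem hx)
        rw [← hvx _ hy, apl_mul _ _ hy, apl_inv_apl c (hgi.mem hx), apl_mul _ _ (hgi.mem hx),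
          hgi.conjAut_apl a hx]
      exact hM.congr (hM.comp hbM.1 hbM haM.1 haM fun x hx => apl_mem b hx)
        fun x hx => by rw [hab]; exact apl_mul a b hx
    intro P f hf
    obtain ⟨-, k, hk, hkf, hkQ⟩ := hall P f hf
    have hcen : ∀ x ∈ T, x ∈ centralizerIn S Q := fun x hx =>
      ⟨hTS hx, Subgroup.mem_centralizer_iff.2 fun y hy => (hTQ x hx y hy).symm⟩
    exact ⟨hsub _ _ (hCD' _ _ hf), fun x hx => hcen x (hf.le hx),
      fun x hx => hcen _ (hf.mem_S hx), k, hk, hkf, hkQ⟩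

end Cfsg.Agent.FusSys.Component
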