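import Cfsg.Agent.FusSys.Component.Exists

/-!
Constrained systems are those without components.
-/

set_option autoImplicit false

namespace Cfsg.Agent.FusSys.Component

open Cfsg Cfsg.FusionSystem Cfsg.Agent.FusSys

universe u

variable {Ω : Type u} [Group Ω] {S T Q : Subgroup Ω} {F : FusionSystem S} {p : ℕ}

theorem constrained_of_subnormal {C : FusionSystem T} {S : Subgroup Ω} {F : FusionSystem S}
    (h : C.IsSubnormalIn F p) :
    ∀ [Fact p.Prime] [Finite S], IsPGroup p S → F.IsConstrained p → C.IsConstrained p := by
  induction h with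
  | @refl F p => intro _ _ _ hc; exact hc
  | @step V S C D F p hCD hDF ih =>
    intro _ _ hS hc
    have hVS := hDF.1.2.2.2.1.1
    haveI := finite_of_le hVS
    exact ih (hS.to_le hVS) (constrained_of_weaklyNormal hS hc hDF.1)

theorem constrained_iff_no_component [Fact p.Prime] [Finite S] (hS : IsPGroup p S)
    (hF : F.IsSaturated p) :
    F.IsConstrained p ↔ ¬ ∃ (T : Subgroup Ω) (C : FusionSystem T), C.IsComponentIn F p := by
  refine ⟨fun hc ⟨T, C, hC, hq⟩ => ?_, fun h => by
    by_contra hnc
    exact h (exists_component hS hF hnc)⟩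
  have hTS := subnormal_le hC
  haveI := finite_of_le hTS
  exact quasisimple_not_constrained (hS.to_le hTS) hq (constrained_of_subnormal hC hS hc)

/-- The maps of a component lie in the centralizer system of every normal subgroup. -/
theorem component_le_centSys [Fact p.Prime] [Finite S] (hS : IsPGroup p S) (hF : F.IsSaturated p)
    (hQ : F.IsNormal Q) {C : FusionSystem T} (hC : C.IsComponentIn F p) :
    C.IsSubsystemOf (centralizerSys F hQ.1) :=
  isSubsystemOf_iff_mor.2 fun P f hf => (mor_centralizerSystem
    (isCentralizerSystem_centralizerSys (F := F) hQ.1)).2 (centralizes_normal hC.1 hS hF hC.2 Q hQ P f hf)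

/-- The layer lies in the centralizer system of every normal subgroup. -/
theorem layer_le_centSys [Fact p.Prime] [Finite S] (hS : IsPGroup p S) (hF : F.IsSaturated p)
    (hQ : F.IsNormal Q) {E : FusionSystem T} (hE : E.IsLayerOf F p) :
    E.IsSubsystemOf (centralizerSys F hQ.1) :=
  hE.2.2 _ _ (centSys_normal hS hF hQ) fun _ _ hC => component_le_centSys hS hF hQ hC

end Cfsg.Agent.FusSys.Component
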