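import Cfsg.Agent.FusSys.Component.Contain
import Cfsg.Agent.FusSys.ResidualNormal

/-!
A normal subsystem of a quasisimple system is over a central subgroup or over the whole group.
-/

set_option autoImplicit false
set_option linter.unusedSectionVars false
set_option linter.style.haveILetI false
set_option maxHeartbeats 800000

namespace Cfsg.Agent.FusSys.Component

open Cfsg Cfsg.FusionSystem Cfsg.Agent.FusSys

universe u

variable {Ω : Type u} [Group Ω] {S T : Subgroup Ω} {F : FusionSystem S} {N : FusionSystem T} {p : ℕ}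

/-- A normal subsystem of a quasisimple system is central or over the whole group. -/
theorem quasisimple_normal_group [Fact p.Prime] [Finite S] (hS : IsPGroup p S)
    (hq : F.Quasisimple p) (hN : N.IsWeaklyNormalIn F p) : T = S ∨ F.IsCentral T := by
  obtain ⟨Fb, hFb, hsimp, hsc⟩ := exists_centre_factor hq
  obtain ⟨θ, hθ⟩ : ∃ θ, θ = QuotientGroup.mk' ((F.center).subgroupOf S) := ⟨_, rfl⟩
  rw [← hθ] at hFb
  have hker := hFb.2.1
  have hinv := hN.2.2
  have hTc := hinv.2.1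
  have hTS := hTc.1
  haveI := finite_of_le hTS
  have hZ := isCentral_center (F := F)
  obtain ⟨ψ, hψ⟩ : ∃ ψ : ↥T →* S ⧸ (F.center).subgroupOf S, ψ = θ.comp (Subgroup.inclusion hTS) :=
    ⟨_, rfl⟩
  have hth : ∀ x ∈ T, thFn ψ x = thFn θ x := fun x hx => by
    rw [thFn_apply hx, thFn_apply (hTS hx), hψ]
    rfl
  have hkerT : ∀ t : T, ψ t = 1 ↔ (t : Ω) ∈ T ⊓ F.center := fun t => by
    rw [hψ]
    exact (hker ⟨t, hTS t.2⟩).trans ⟨fun h => ⟨t.2, h⟩, fun h => h.2⟩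
  have hscN : N.StronglyClosed (T ⊓ F.center) := stronglyClosed_iff.2
    ⟨inf_le_left, fun R g hR hg x hx => by
      rw [fix_of_central hZ (mor_of_invariant hinv hg) hx (hR hx).2]
      exact hR hx⟩
  obtain ⟨Nb, hNb⟩ := exists_factorSystem (S' := ψ.range) (θ := ψ) hscN hkerT rfl
  have hT' : ∀ x ∈ T, thFn θ x ∈ ψ.range := fun x hx => hth x hx ▸ thFn_mem_range x hx
  have hTpre : T ≤ preimageAlong θ ψ.range := fun x hx => mem_pre.2 ⟨hTS hx, hT' x hx⟩
  have hsubF : ∀ P' f', Mor Nb P' f' → Mor Fb P' f' := fun P' f' h => by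
    obtain ⟨hP', g, hg, hgx⟩ := (mor_factor hNb hscN).1 h
    obtain ⟨g', hg', hg'g, hg'Z⟩ := (isCentral_iff.1 hZ).2 _ _ (mor_of_invariant hinv hg)
    have hdec : ∀ x ∈ preimageAlong θ P', ∃ t ∈ preimageAlong ψ P', ∃ z ∈ F.center,
        t * z = x ∧ thFn θ t = thFn θ x := fun x hx => by
      obtain ⟨t, ht, htx⟩ := exists_pre (θ := ψ) hP' (mem_pre.1 hx).2
      rw [hth t (pre_le ht)] at htx
      exact ⟨t, ht, t⁻¹ * x, (thFn_eq_iff hker (hTS (pre_le ht)) (pre_le hx)).1 htx,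
        mul_inv_cancel_left _ _, htx⟩
    refine (mor_factor hFb hsc).2 ⟨le_top, g', hg'.mono fun x hx => ?_, fun x hx => ?_⟩
    · obtain ⟨t, ht, z, hz, rfl, -⟩ := hdec x hx
      exact Subgroup.mul_mem _ (Subgroup.mem_sup_left ht) (Subgroup.mem_sup_right hz)
    · obtain ⟨t, ht, z, hz, rfl, htx⟩ := hdec x hx
      rw [← htx, ← hth t (pre_le ht), hgx t ht, hth _ (hg.mem_S ht),
        hg'.map_mul (Subgroup.mem_sup_left ht) (Subgroup.mem_sup_right hz), hg'g t ht, hg'Z z hz]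
      refine (thFn_eq_iff hker (hTS (hg.mem_S ht))
        (S.mul_mem (hTS (hg.mem_S ht)) (hsc.1 hz))).2 ?_
      rwa [inv_mul_cancel_left]
  have hscT' : Fb.StronglyClosed ψ.range := stronglyClosed_iff.2 ⟨le_top, fun P' f' hP' hf' z hz => by
    obtain ⟨-, g, hg, hgx⟩ := (mor_factor hFb hsc).1 hf'
    obtain ⟨⟨t, ht⟩, rfl⟩ := hP' hz
    have hte : ψ ⟨t, ht⟩ = thFn θ t := (thFn_coe (θ := ψ) ⟨t, ht⟩).symm.trans (hth t ht)
    rw [hte] at hz ⊢
    have htp : t ∈ preimageAlong θ P' := mem_pre.2 ⟨hTS ht, hz⟩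
    rw [hgx t htp]
    exact hT' _ (StronglyClosed.mor_mem hTc hg htp ht)⟩
  have hinvb : Nb.IsInvariantIn Fb := by
    refine invariant_of_mor (isSubsystemOf_iff_mor.2 hsubF) hscT' ?_ ?_
    · intro P' f' hf' β' hβ'
      obtain ⟨b, hb, hbx⟩ := exists_iso_lift hFb hsc (iso_apl le_top hβ')
      obtain ⟨β, hβ, hβb⟩ := (StronglyClosed.iso_self hTc hb.1 hTpre).exists_mem_autGroup
      have hβx : ∀ x ∈ T, apl β' (thFn θ x) = thFn θ (apl β x) := fun x hx => by
        rw [hbx x (hTpre hx), hβb x hx]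
      obtain ⟨hP', g, hg, hgx⟩ := (mor_factor hNb hscN).1 hf'
      obtain ⟨h, hh, hhx⟩ := exists_transport hinv hg hβ
      have key : ∀ x ∈ preimageAlong ψ ((P'.subgroupOf ψ.range).map
          (ψ.range.subtype.comp β'.toMonoidHom)),
          ∃ z ∈ P', apl β' z = thFn θ x ∧ apl β⁻¹ x ∈ preimageAlong ψ P' ∧
            thFn θ (apl β⁻¹ x) = z ∧ x ∈ T := fun x hx => by
        obtain ⟨hxT, ⟨⟨z, hz⟩, hzP, hzx⟩⟩ := mem_pre.1 hx
        replace hzx : apl β' z = thFn θ x := (apl_apply β' hz).trans (hzx.trans (hth x hxT))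
        have hy : apl β⁻¹ x ∈ T := apl_mem _ hxT
        have hzy : thFn θ (apl β⁻¹ x) = z := by
          rw [← apl_inv_apl β' hz, hzx]
          conv_rhs => rw [← apl_apl_inv β hxT, ← hβx _ hy, apl_inv_apl β' (hT' _ hy)]
        exact ⟨z, hzP, hzx, mem_pre.2 ⟨hy, by rw [hth _ hy, hzy]; exact hzP⟩, hzy, hxT⟩
      refine ⟨fun z => apl β' (f' (apl β'⁻¹ z)), (mor_factor hNb hscN).2 ⟨?_, h, hh.mono ?_, ?_⟩,
        fun z hz => by dsimp only; rw [apl_inv_apl β' (hP' hz)]⟩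
      · rintro _ ⟨z, -, rfl⟩
        exact (β' z).2
      · intro x hx
        obtain ⟨z, -, -, hyP, -, hxT⟩ := key x hx
        exact ⟨⟨apl β⁻¹ x, apl_mem _ hxT⟩, hyP,
          (apl_apply β (apl_mem _ hxT)).symm.trans (apl_apl_inv β hxT)⟩
      · intro x hx
        obtain ⟨z, hz, hzx, hyP, hzy, hxT⟩ := key x hx
        have hhx' := hhx _ hyP
        rw [apl_apl_inv β hxT] at hhx'
        show apl β' (f' (apl β'⁻¹ (thFn ψ x))) = thFn ψ (h x)
        rw [hhx', hth x hxT, ← hzx, apl_inv_apl β' (hP' hz), ← hzy, ← hth _ (pre_le hyP),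
          hgx _ hyP, hth _ (hg.mem_S hyP), hth _ (apl_mem _ (hg.mem_S hyP))]
        exact hβx _ (hg.mem_S hyP)
    · intro P' f' hP' hf'
      obtain ⟨-, g, hg, hgx⟩ := (mor_factor hFb hsc).1 hf'
      have hle : preimageAlong ψ P' ≤ preimageAlong θ P' := fun x hx => by
        obtain ⟨hxT, hxP⟩ := mem_pre.1 hx
        exact mem_pre.2 ⟨hTS hxT, hth x hxT ▸ hxP⟩
      obtain ⟨β, hβ, e, he, hge⟩ := exists_frattini hinv pre_le (hg.mono hle)
      obtain ⟨b, hb, hbβ, hbZ⟩ := (isCentral_iff.1 hZ).2 T _ (iso_apl hTS hβ).1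
      have hTZ : T ⊔ F.center ≤ S := sup_le hTS hsc.1
      have hst : ∀ x ∈ T ⊔ F.center, b x ∈ T ⊔ F.center := fun x hx => hb.mem_of_sup
        (fun a ha => Subgroup.mem_sup_left (by rw [hbβ a ha]; exact apl_mem β ha))
        (fun a ha => Subgroup.mem_sup_right (by rw [hbZ a ha]; exact ha)) hx
      haveI := finite_of_le hTZ
      obtain ⟨b', hb', hb'x⟩ := exists_iso_image hFb hsc (AM.iso_of_stable hb hst) le_sup_right
      have himg : imageAlong θ (T ⊔ F.center) = ψ.range := by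
        refine le_antisymm ?_ ?_
        · intro z hz
          obtain ⟨x, hx, rfl⟩ := (mem_imageAlong hTZ).1 hz
          obtain ⟨y, hy, rfl⟩ : ∃ y : S, (y : Ω) = x := ⟨⟨x, hTZ hx⟩, rfl⟩
          have hle' : T ⊔ F.center ≤ preimageAlong θ ψ.range := sup_le hTpre fun z hz =>
            mem_pre.2 ⟨hsc.1 hz, by rw [(thFn_eq_one_iff hker (hsc.1 hz)).2 hz]; exact one_mem _⟩
          exact (mem_pre.1 (hle' hx)).2
        · rintro _ ⟨⟨t, ht⟩, rfl⟩
          exact (mem_imageAlong hTZ).2 ⟨t, Subgroup.mem_sup_left ht,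
            ((thFn_coe (θ := ψ) ⟨t, ht⟩).symm.trans (hth t ht)).symm⟩
      rw [himg] at hb'
      obtain ⟨β', hβ', hβ'x⟩ := hb'.exists_mem_autGroup
      refine ⟨β', hβ', fun z => apl β'⁻¹ (f' z), (mor_factor hNb hscN).2 ⟨hP', e, he, fun x hx => ?_⟩,
        fun z hz => (apl_apl_inv β' ?_).symm⟩
      · have hxT := pre_le hx
        show apl β'⁻¹ (f' (thFn ψ x)) = thFn ψ (e x)
        rw [hth x hxT, hgx x (hle hx), hge x hx, hth _ (he.mem_S hx), ← hbβ _ (he.mem_S hx),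
          ← hb'x _ (Subgroup.mem_sup_left (he.mem_S hx)), ← hβ'x _ (hT' _ (he.mem_S hx)),
          apl_inv_apl β' (hT' _ (he.mem_S hx))]
      · exact stronglyClosed_iff.1 hscT' |>.2 P' f' hP' hf' z hz
  have hpS' : IsPGroup p (⊤ : Subgroup (S ⧸ (F.center).subgroupOf S)) :=
    (hS.to_quotient _).to_subgroup _
  haveI : Finite ψ.range := inferInstance
  have hw : Nb.IsWeaklyNormalIn Fb p :=
    ⟨factor_saturated (hS.to_le hTS) hN.1 hNb hscN, hsimp.1, hinvb⟩
  rcases hsimp.2.2 _ _ (pPrimeResidual_normal hpS' hw) with h | ⟨h, -⟩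
  · right
    refine isCentral_mono hZ fun t ht => ?_
    have h1 : ψ ⟨t, ht⟩ ∈ (⊥ : Subgroup (S ⧸ (F.center).subgroupOf S)) := h ▸ ⟨_, rfl⟩
    exact ((hkerT ⟨t, ht⟩).1 (Subgroup.mem_bot.1 h1)).2
  · left
    refine le_antisymm hTS (hq.2.1.ge.trans ?_)
    refine (Subgroup.closure_le _).2 ?_
    rintro _ ⟨P, α, x, hP, -, rfl⟩
    rw [← apl_coe]
    obtain ⟨k, hk, hkα, hkZ⟩ := (isCentral_iff.1 hZ).2 P _ (iso_apl hP α.2).1
    obtain ⟨⟨t, ht⟩, htx⟩ : thFn θ (x : Ω) ∈ ψ.range := h.ge (Subgroup.mem_top _)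
    have hte : thFn θ t = thFn θ (x : Ω) :=
      ((hth t ht).symm.trans (thFn_coe (θ := ψ) ⟨t, ht⟩)).trans htx
    have hz := (thFn_eq_iff hker (hTS ht) (hP x.2)).1 hte
    obtain ⟨z, hzdef⟩ : ∃ z, z = t⁻¹ * (x : Ω) := ⟨_, rfl⟩
    rw [← hzdef] at hz
    have hxK : (x : Ω) ∈ P ⊔ F.center := Subgroup.mem_sup_left x.2
    have hzK : z ∈ P ⊔ F.center := Subgroup.mem_sup_right hz
    have htK : t ∈ P ⊔ F.center := by
      have := Subgroup.mul_mem _ hxK (Subgroup.inv_mem _ hzK)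
      rwa [hzdef, mul_inv_rev, inv_inv, mul_inv_cancel_left] at this
    have e : apl (α : MulAut P) x = k t * z := by
      rw [← hkα x x.2, ← hkZ z hz, ← hk.map_mul htK hzK, hzdef, mul_inv_cancel_left]
    rw [e]
    have h1 := T.mul_mem (T.inv_mem ht) (StronglyClosed.mor_mem hTc hk htK ht)
    have h2 := isStronglyClosed_normal hTc (S.inv_mem (hsc.1 hz)) h1
    rw [inv_inv] at h2
    rw [SetLike.mem_coe]
    convert h2 using 1
    rw [hzdef]
    group

end Cfsg.Agent.FusSys.Component
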