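import Cfsg.Agent.FusSys.Component.Separate
import Cfsg.Agent.FusSys.Component.SimpleImage
import Cfsg.Agent.FusSys.Component.Constrained

/-!
A component lies in a normal subsystem or centralizes it.
-/

set_option autoImplicit false
set_option linter.unusedSectionVars false
set_option linter.style.haveILetI false
set_option maxHeartbeats 800000

namespace Cfsg.Agent.FusSys.Component

open Cfsg Cfsg.FusionSystem Cfsg.Agent.FusSys Cfsg.Agent.FusSys.CentFocal Cfsg.Agent.FusSys.CentE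

universe u

variable {Ω : Type u} [Group Ω] {S T V U P R : Subgroup Ω} {F : FusionSystem S} {D : FusionSystem V}
variable {p : ℕ} {f : Ω → Ω}

/-- Extends to `T` trivially modulo `V`, fixing `V ∩ T`. -/
def TMod (D : FusionSystem V) (F : FusionSystem S) (T P : Subgroup Ω) (f : Ω → Ω) : Prop :=
  Mor D P f ∧ ∃ k, Mor F (P ⊔ T) k ∧ (∀ x ∈ P, k x = f x) ∧ (∀ a ∈ V ⊓ T, k a = a) ∧
    ∀ t ∈ T, t⁻¹ * k t ∈ V

theorem scInter {A B : Subgroup Ω} (hA : F.StronglyClosed A) (hB : F.StronglyClosed B) :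
    F.StronglyClosed (A ⊓ B) :=
  stronglyClosed_iff.2 ⟨inf_le_left.trans hA.1, fun _ _ hR hf _ hx =>
    ⟨StronglyClosed.mor_mem hA hf hx (hR hx).1, StronglyClosed.mor_mem hB hf hx (hR hx).2⟩⟩

namespace Sep

variable (h : Sep p F D T)
include h

theorem subRel_tmod [Finite S] : SubRel D V (TMod D F T) where
  congr := by
    rintro P f f' ⟨h1, k, hk, hkf, hkA, hkT⟩ he
    exact ⟨h1.congr he, k, hk, fun x hx => by rw [he x hx]; exact hkf x hx, hkA, hkT⟩
  le := fun h' => ⟨h'.1.le, fun _ hx => h'.1.mem_S hx⟩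
  conj := fun hP hs => ⟨mor_conj hP hs, mor_conj hP hs, _,
    mor_conj (sup_le (hP.trans h.scV.1) h.scT.1) (h.scV.1 hs), fun _ _ => rfl, fun a ha => h.comm hs ha, fun t ht => by
      have h1 := h.conj_V (S.inv_mem (h.scT.1 ht)) hs
      rw [inv_inv] at h1
      have h2 := V.mul_mem h1 (V.inv_mem hs)
      convert h2 using 1
      group⟩
  comp := by
    rintro P R f g hf ⟨-, k, hk, hkf, hkA, hkT⟩ hg ⟨-, k', hk', hk'g, hk'A, hk'T⟩ hfR
    refine ⟨hf.comp hg hfR, k' ∘ k, hk.comp hk' (fun x hx => hk.mem_of_sup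
      (fun a ha => Subgroup.mem_sup_left (by rw [hkf a ha]; exact hfR a ha))
      (fun a ha => Subgroup.mem_sup_right
        (StronglyClosed.mor_mem h.scT hk (Subgroup.mem_sup_right ha) ha)) hx),
      fun x hx => ?_, fun a ha => by
        show k' (k a) = a
        rw [hkA a ha, hk'A a ha], fun t ht => ?_⟩
    · show k' (k x) = g (f x)
      rw [hkf x hx, hk'g _ (hfR x hx)]
    · have hkt := StronglyClosed.mor_mem h.scT hk (Subgroup.mem_sup_right ht) ht
      show t⁻¹ * k' (k t) ∈ V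
      have := V.mul_mem (hkT t ht) (hk'T _ hkt)
      convert this using 1
      group
  inv := by
    rintro P R f g hf ⟨-, k, hk, hkf, hkA, hkT⟩ hg hgf
    obtain ⟨W, hW⟩ := hk.exists_iso
    obtain ⟨r, hr, hrk, -⟩ := hW.symm
    have hTW : T ≤ W := fun y hy => by
      obtain ⟨x, hx, rfl⟩ := ((StronglyClosed.iso_self h.scT hk le_sup_right).2 y).1 hy
      exact hW.mem (Subgroup.mem_sup_right hx)
    have hRW : R ≤ W := fun y hy => by
      obtain ⟨x, hx, rfl⟩ := hf.exists_eq hy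
      rw [← hkf x hx]
      exact hW.mem (Subgroup.mem_sup_left hx)
    refine ⟨hg.1, r, hr.1.mono (sup_le hRW hTW), fun y hy => ?_, fun a ha => ?_, fun t ht => ?_⟩
    · obtain ⟨x, hx, rfl⟩ := hf.exists_eq hy
      rw [hgf x hx, ← hkf x hx, hrk x (Subgroup.mem_sup_left hx)]
    · conv_lhs => rw [← hkA a ha]
      exact hrk a (Subgroup.mem_sup_right ha.2)
    · obtain ⟨x, hx, rfl⟩ := ((StronglyClosed.iso_self h.scT hk le_sup_right).2 t).1 ht
      rw [hrk x (Subgroup.mem_sup_right hx)]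
      have := V.inv_mem (hkT x hx)
      convert this using 1
      group

variable [Fact p.Prime] [Finite S]

/-- Every map of `D` extends to `T` trivially modulo `V`. -/
theorem tmod_all : ∀ P f, Mor D P f → TMod D F T P f := by
  have hM := h.subRel_tmod
  have hVS := h.scV.1
  haveI := finite_of_le hVS
  intro P f hf
  refine ((mor_subSys hM).1 (le_iff_mor.1 (le_of_aut_le (p := p) (E := subSys hM) (h.pS.to_le hVS)
    h.nD.1.1 fun R hR => ?_) P f hf)).2
  have hTC : AM.TC F V R := hR.elim (fun e => e.symm ▸ AM.TC.top h.scV) fun he =>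
    ⟨he.1.1, fun Q hQ => by
      obtain ⟨g, hg⟩ := isConj_iff.1 hQ
      exact centric_self (centric_of_mor h.nD.1.2.2 he.1 hg)⟩
  have hRS := hTC.1.trans hVS
  obtain ⟨Q, k, hQ, hk, hki, -⟩ := exists_fullyNormalized_mor h.pS h.nD.1.2.1 hRS
  have hQT := hTC.of_iso h.scV hki
  have hRTN : R ⊔ T ≤ normalizerIn S R :=
    sup_le (le_normalizerIn hRS) fun t ht => h.T_normalizer hTC ht
  have hkT := hk.mono hRTN
  obtain ⟨W, hW⟩ := hkT.exists_iso
  obtain ⟨r, hr, hrk, -⟩ := hW.symm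
  have hQW : Q ⊔ T ≤ W := sup_le
    (fun y hy => by
      obtain ⟨x, hx, rfl⟩ := hki.exists_eq hy
      exact hW.mem (Subgroup.mem_sup_left hx))
    (fun y hy => by
      obtain ⟨x, hx, rfl⟩ := ((StronglyClosed.iso_self h.scT hkT le_sup_right).2 y).1 hy
      exact hW.mem (Subgroup.mem_sup_right hx))
  have hM' : autInducedBy V Q ≤ (subSys hM).autGroup Q := fun α hα =>
    autInducedBy_le_autGroup hQT.1 hα
  intro α hα
  have h1 : hki.conjAut α ∈ (subSys hM).autGroup Q := by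
    refine AM.autGroup_le_of_coprime h.pS h.nD.1 hQT.1 hQ hM' (fun γ hγ hco => ?_)
      (conjAut_mem_of_isInvariant h.nD.1.2.2 hTC.1 hki hα)
    obtain ⟨g, hg, hgx, hgT⟩ := h.ext_fix hQT hQ hγ hco
    exact (mem_autGroup_iff hQT.1).2 ⟨(mor_subSys hM).2 ⟨(iso_apl hQT.1 hγ).1, (iso_apl hQT.1 hγ).1,
      g, hg, hgx, fun a ha => hgT a ha.2, fun t ht => by rw [hgT t ht, inv_mul_cancel]; exact V.one_mem⟩, (iso_apl hQT.1 hγ).2⟩
  obtain ⟨-, ⟨-, g, hg, hgx, hgA, hgT⟩⟩ := (mor_subSys hM).1 (iso_apl hQT.1 h1).1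
  refine (mem_autGroup_iff hTC.1).2 ⟨(mor_subSys hM).2 ⟨(iso_apl hTC.1 hα).1, (iso_apl hTC.1 hα).1,
    r ∘ g ∘ k, ?_, fun x hx => ?_, fun a ha => ?_, fun t ht => ?_⟩, (iso_apl hTC.1 hα).2⟩
  · have hkQ : ∀ x ∈ R ⊔ T, k x ∈ Q ⊔ T := fun x hx => hkT.mem_of_sup
      (fun a ha => Subgroup.mem_sup_left (hki.mem ha))
      (fun a ha => Subgroup.mem_sup_right
        (StronglyClosed.mor_mem h.scT hkT (Subgroup.mem_sup_right ha) ha)) hx
    have hgQ : ∀ x ∈ Q ⊔ T, g x ∈ Q ⊔ T := fun x hx => hg.mem_of_sup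
      (fun a ha => Subgroup.mem_sup_left (by rw [hgx a ha]; exact apl_mem _ ha))
      (fun a ha => Subgroup.mem_sup_right
        (StronglyClosed.mor_mem h.scT hg (Subgroup.mem_sup_right ha) ha)) hx
    exact (hkT.comp hg hkQ).comp hr.1 fun x hx => hQW (hgQ _ (hkQ x hx))
  · show r (g (k x)) = apl α x
    rw [hgx _ (hki.mem hx), hki.conjAut_apl α hx, hrk _ (Subgroup.mem_sup_left (apl_mem α hx))]
  · show r (g (k a)) = a
    have haK : a ∈ R ⊔ T := Subgroup.mem_sup_right ha.2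
    rw [hgA _ ⟨StronglyClosed.mor_mem h.scV hkT haK ha.1,
      StronglyClosed.mor_mem h.scT hkT haK ha.2⟩, hrk a haK]
  · have hkt := StronglyClosed.mor_mem h.scT hkT (Subgroup.mem_sup_right ht) ht
    have hd : (k t)⁻¹ * g (k t) ∈ V ⊓ T := ⟨hgT _ hkt, T.mul_mem (T.inv_mem hkt)
      (StronglyClosed.mor_mem h.scT hg (Subgroup.mem_sup_right hkt) hkt)⟩
    have hdW : (k t)⁻¹ * g (k t) ∈ W := hQW (Subgroup.mem_sup_right hd.2)
    show t⁻¹ * r (g (k t)) ∈ V
    have e : r (g (k t)) = t * r ((k t)⁻¹ * g (k t)) := by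
      have h2 := hr.1.map_mul (hW.mem (Subgroup.mem_sup_right ht)) hdW
      rw [mul_inv_cancel_left, hrk t (Subgroup.mem_sup_right ht)] at h2
      exact h2
    rw [e, inv_mul_cancel_left]
    exact StronglyClosed.mor_mem h.scV hr.1 hdW hd.1

/-- What a map of `D` moves commutes with `T`. -/
theorem comm_quot (hf : Mor D P f) {x t : Ω} (hx : x ∈ P) (ht : t ∈ T) :
    t * (x⁻¹ * f x) = x⁻¹ * f x * t := by
  obtain ⟨-, k, hk, hkf, hkA, hkT⟩ := h.tmod_all P f hf
  have hxV := hf.le hx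
  have hfx := hf.mem_S hx
  obtain ⟨a, ha⟩ : ∃ a, a = x⁻¹ * (t * x * t⁻¹) := ⟨_, rfl⟩
  have haA : a ∈ V ⊓ T := ha ▸ h.comm_mem hxV ht
  have hxK : x ∈ P ⊔ T := Subgroup.mem_sup_left hx
  have htK : t ∈ P ⊔ T := Subgroup.mem_sup_right ht
  have haK : a ∈ P ⊔ T := Subgroup.mem_sup_right haA.2
  obtain ⟨b, hb⟩ : ∃ b, b = t⁻¹ * k t := ⟨_, rfl⟩
  have hbA : b ∈ V ⊓ T :=
    ⟨hb ▸ hkT t ht, hb ▸ T.mul_mem (T.inv_mem ht) (StronglyClosed.mor_mem h.scT hk htK ht)⟩
  have hc : ∀ {v c : Ω}, v ∈ V → c ∈ V ⊓ T → v * c = c * v := fun hv hc =>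
    mul_inv_eq_iff_eq_mul.1 (h.comm hv hc)
  have h1 : k (t * x) = k (x * a * t) := by
    congr 1
    rw [ha]
    group
  rw [hk.map_mul htK hxK, hk.map_mul (mul_mem hxK haK) htK, hk.map_mul hxK haK, hkf x hx,
    show k t = t * b by rw [hb, mul_inv_cancel_left]] at h1
  have h2 : t * f x = f x * k a * t := by
    rw [mul_assoc t b, ← hc hfx hbA, ← mul_assoc, ← mul_assoc] at h1
    exact mul_right_cancel h1
  have hka : k a = a := hkA a haA
  rw [hka] at h2
  calc t * (x⁻¹ * f x) = t * x⁻¹ * t⁻¹ * (t * f x) := by group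
    _ = t * x⁻¹ * t⁻¹ * (f x * a * t) := by rw [h2]
    _ = (x * a)⁻¹ * (f x * a) * t := by rw [ha]; group
    _ = a⁻¹ * (x⁻¹ * f x * a) * t := by group
    _ = x⁻¹ * f x * t := by rw [hc (V.mul_mem (V.inv_mem hxV) hfx) haA, inv_mul_cancel_left]

/-- An element moved by an automorphism of order prime to `p` lies in `foc(C_F(T))`. -/
theorem quot_mem_cFoc (hPC : P ≤ centralizerIn S T) {γ : MulAut P} (hf : Mor D P (apl γ))
    (hco : (orderOf γ).Coprime p) {x : Ω} (hx : x ∈ P) :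
    x⁻¹ * apl γ x ∈ cFoc F h.scT.1 := by
  obtain ⟨-, k, hk, hkf, hkA, hkT⟩ := h.tmod_all P _ hf
  have hWS := hk.le
  haveI := finite_of_le hWS
  have hst : ∀ y ∈ P ⊔ T, k y ∈ P ⊔ T := fun y hy => hk.mem_of_sup
    (fun a ha => Subgroup.mem_sup_left (by rw [hkf a ha]; exact apl_mem γ ha))
    (fun a ha => Subgroup.mem_sup_right
      (StronglyClosed.mor_mem h.scT hk (Subgroup.mem_sup_right ha) ha)) hy
  haveI : Finite (MulAut ↥(P ⊔ T)) := Finite.of_injective _ MulEquiv.toEquiv_injective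
  obtain ⟨β, hβ, hβk⟩ := (AM.iso_of_stable hk hst).exists_mem_autGroup
  obtain ⟨β', hβ', hβ'z, hβ'co, hβ'x⟩ := AM.exists_coprime_ext (P := P) le_sup_left hβ
    (fun y hy => by rw [hβk y (Subgroup.mem_sup_left hy), hkf y hy]) hco
  have hpow : ∀ n : ℕ, (∀ a ∈ V ⊓ T, apl (β ^ n) a = a) ∧
      ∀ t ∈ T, t⁻¹ * apl (β ^ n) t ∈ V ⊓ T := by
    intro n
    induction n with
    | zero =>
      refine ⟨fun a ha => ?_, fun t ht => ?_⟩
      · rw [pow_zero]; exact apl_one (Subgroup.mem_sup_right ha.2)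
      · rw [pow_zero, apl_one (Subgroup.mem_sup_right ht), inv_mul_cancel]; exact one_mem _
    | succ n ih =>
      have hA : ∀ a ∈ V ⊓ T, apl β a = a := fun a ha => by
        rw [hβk a (Subgroup.mem_sup_right ha.2), hkA a ha]
      have hT1 : ∀ t ∈ T, t⁻¹ * apl β t ∈ V ⊓ T := fun t ht => by
        rw [hβk t (Subgroup.mem_sup_right ht)]
        exact ⟨hkT t ht, T.mul_mem (T.inv_mem ht)
          (StronglyClosed.mor_mem h.scT hk (Subgroup.mem_sup_right ht) ht)⟩
      refine ⟨fun a ha => ?_, fun t ht => ?_⟩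
      · rw [pow_succ', apl_mul _ _ (Subgroup.mem_sup_right ha.2), ih.1 a ha, hA a ha]
      · have htW : t ∈ P ⊔ T := Subgroup.mem_sup_right ht
        have hu : apl (β ^ n) t ∈ T := by
          have := T.mul_mem ht (ih.2 t ht).2
          rwa [mul_inv_cancel_left] at this
        have := mul_mem (ih.2 t ht) (hT1 _ hu)
        rw [pow_succ', apl_mul _ _ htW]
        rwa [mul_assoc, mul_inv_cancel_left] at this
  obtain ⟨n, rfl⟩ := mem_powers_iff_mem_zpowers.2 hβ'z
  have hfix : ∀ t ∈ T, apl (β ^ n) t = t := fun t ht =>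
    eq_of_fixed_quot (h.pS.to_le hWS) hβ'co (Subgroup.mem_sup_right ht)
      ((hpow n).1 _ ((hpow n).2 t ht))
  have hm := (iso_apl hWS hβ').1
  rw [← hβ'x x hx]
  refine quot_mem_focal (F := centralizerSys F h.scT.1) (mor_cSys.2 ⟨hm.mono le_sup_left, hPC,
    fun y hy => ?_, _, hm, fun _ _ => rfl, hfix⟩) hx
  show apl (β ^ n) y ∈ _
  rw [hβ'x y hy]
  exact hPC (apl_mem γ hy)

/-- A subsystem of `D` that is its own `p`-residual lies in `C_S(T)`, in `foc(C_F(T))`. -/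
theorem le_cFoc {C : FusionSystem U} (hC : ∀ P f, Mor C P f → Mor D P f)
    (hyp : C.hyperfocalSubgroup p = U) : U ≤ cFoc F h.scT.1 := by
  have hUV : U ≤ V := (hC U id (mor_id le_rfl)).le
  have hcen : U ≤ centralizerIn S T := by
    refine le_trans hyp.ge ((Subgroup.closure_le _).2 ?_)
    rintro _ ⟨Q, α, x, hQ, -, rfl⟩
    rw [← apl_coe]
    refine ⟨h.scV.1 (V.mul_mem (V.inv_mem (hUV (hQ x.2))) (hUV (hQ (apl_mem _ x.2)))),
      Subgroup.mem_centralizer_iff.2 fun t ht => ?_⟩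
    exact h.comm_quot (hC Q _ (iso_apl hQ α.2).1) x.2 ht
  refine le_trans hyp.ge ((Subgroup.closure_le _).2 ?_)
  rintro _ ⟨Q, α, x, hQ, hα, rfl⟩
  rw [← apl_coe]
  let K : Subgroup (C.autGroup Q) :=
    { carrier := {a | ∀ y ∈ Q, y⁻¹ * apl (a : MulAut Q) y ∈ cFoc F h.scT.1}
      one_mem' := fun y hy => by
        show y⁻¹ * apl (1 : MulAut Q) y ∈ _
        rw [apl_one hy, inv_mul_cancel]; exact one_mem _
      mul_mem' := fun {a b} ha hb y hy => by
        show y⁻¹ * apl ((a : MulAut Q) * (b : MulAut Q)) y ∈ _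
        have h1 := Subgroup.mul_mem _ (hb y hy) (ha _ (apl_mem (b : MulAut Q) hy))
        rw [apl_mul _ _ hy]
        rwa [mul_assoc, mul_inv_cancel_left] at h1
      inv_mem' := fun {a} ha y hy => by
        show y⁻¹ * apl (a : MulAut Q)⁻¹ y ∈ _
        have h1 := Subgroup.inv_mem _ (ha _ (apl_mem (a : MulAut Q)⁻¹ hy))
        rw [apl_apl_inv _ hy] at h1
        rwa [mul_inv_rev, inv_inv] at h1 }
  refine (show pResidual p (C.autGroup Q) ≤ K from (Subgroup.closure_le _).2 fun a ha y hy => ?_) hα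
    _ x.2
  exact h.quot_mem_cFoc (hQ.trans hcen) (hC Q _ (iso_apl hQ a.2).1)
    (by rw [Subgroup.orderOf_coe]; exact ha) hy

end Sep

/-- A component lies over a subgroup of a normal subsystem or centralizes it. -/
theorem le_or_le_cE {C : FusionSystem U} {S : Subgroup Ω} {F : FusionSystem S}
    (hC : C.IsSubnormalIn F p) : ∀ [Fact p.Prime] [Finite S], IsPGroup p S → C.Quasisimple p →
    ∀ (T : Subgroup Ω) (N : FusionSystem T) (hN : N.IsNormalIn F p),
      U ≤ T ∨ U ≤ cE N F p hN.1.2.2.2.1.1 := by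
  induction hC with
  | @refl F p =>
    intro _ _ hS hq T N hN
    have hTc := hN.1.2.2.2.1
    rcases quasisimple_normal_group hS hq hN.1 with rfl | hcen
    · exact Or.inl le_rfl
    right
    refine le_cE hS hq.1 hN hTc (fun u hu => ⟨hu, Subgroup.mem_centralizer_iff.2 fun t ht =>
      (center_le_centralizer F (le_center hcen ht) u hu).symm⟩) fun P φ hφ => ?_
    have hm := mor_extendFn hφ
    have hid : ∀ x ∈ P, extendFn φ x = x := fun x hx =>
      fix_of_central hcen (mor_of_invariant hN.1.2.2 hm) hx (hm.le hx)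
    have hPU : P ≤ U := hm.le.trans hTc.1
    refine mem_centralizerHom_iff.2 ⟨(mor_of_invariant hN.1.2.2 hm).hom_eq fun x =>
      (extendFn_coe φ x).symm, fun x hx => ⟨hPU hx, Subgroup.mem_centralizer_iff.2 fun y hy =>
        center_le_centralizer F (le_center hcen (hm.le hx)) y hy⟩, fun x hx => ?_, id,
      mor_id (sup_le hPU le_rfl), fun x hx => (hid x hx).symm, fun _ _ => rfl⟩
    rw [hid x hx]
    exact ⟨hPU hx, Subgroup.mem_centralizer_iff.2 fun y hy =>
      center_le_centralizer F (le_center hcen (hm.le hx)) y hy⟩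
  | @step V S C D F p hCD hDF ih =>
    intro _ _ hS hq T N hN
    have hF := hDF.1.2.1
    have hVc := hDF.1.2.2.2.1
    have hTc := hN.1.2.2.2.1
    have hVS := hVc.1
    haveI := finite_of_le hVS
    have hVp := hS.to_le hVS
    have hCF : C.IsComponentIn F p := ⟨.step hCD hDF, hq⟩
    have hUV := subnormal_le hCD
    have hscM := scInter hVc hTc
    have hM : AM.Pair p F (V ⊓ T) D N :=
      ⟨hS, hF, hscM, hDF.1, hN.1, inf_le_left, inf_le_right, le_rfl⟩
    rcases ih hVp hq _ _ hM.meet_normal₁ with h1 | h1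
    · exact Or.inl (h1.trans inf_le_right)
    right
    have hMn := hM.meet_normal
    have hMD := hM.meet_normal₁
    have hDsub := isSubsystemOf_iff_mor.1 hDF.1.2.2.1
    have hcd : ∀ {X : Subgroup Ω}, centralizerIn V X ≤ centralizerIn S X :=
      fun {X} c hc => ⟨hVS hc.1, hc.2⟩
    obtain ⟨K, hK, -⟩ := exists_centralizer_subsystem hS hF hMn hscM
    have hUY : U ≤ cE hM.meetSys F p hscM.1 := h1.trans (le_cE hS hF hMn hscM
      ((cE_le _).trans hcd) fun Q φ hφ => by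
        have h2 := mem_centralizerHom_iff.1
          (cE_centralized hVp hDF.1.1 hMD hMD.1.2.2.2.1 Q hφ)
        obtain ⟨h3, h4, h5, g, hg, hgφ, hgY⟩ := h2
        exact mem_centralizerHom_iff.2 ⟨(hDsub _ _ (mor_extendFn h3)).hom_eq fun x =>
          (extendFn_coe φ x).symm, h4.trans hcd, fun x hx => hcd (h5 x hx), g, hDsub _ _ hg,
          hgφ, hgY⟩)
    have hYc := hK.1.2.2.2.1
    have hscD₂ := scInter hVc hYc
    have h₂ : AM.Pair p F (V ⊓ cE hM.meetSys F p hscM.1) D K :=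
      ⟨hS, hF, hscD₂, hDF.1, hK.1, inf_le_left, inf_le_right, le_rfl⟩
    have hC₂ := component_of_le hCF.1 hS hq _ _ h₂.meet_normal (le_inf hUV hUY)
    obtain ⟨A, hA⟩ : ∃ A, A = (V ⊓ cE hM.meetSys F p hscM.1) ⊓ T := ⟨_, rfl⟩
    have hAc : F.StronglyClosed A := hA ▸ scInter hscD₂ hTc
    have hab : ∀ x ∈ A, ∀ y ∈ A, x * y = y * x := fun x hx y hy => by
      rw [hA] at hx hy
      exact (Subgroup.mem_centralizer_iff.1 (cE_le _ hx.1.2).2 y ⟨hy.1.1, hy.2⟩).symm
    have hAn : F.IsNormal A := isNormal_of_stronglyClosed_comm hS hF hAc hab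
    have hG := centSys_normal hS hF hAn
    have hUA : U ≤ centralizerIn S A := fun x hx =>
      (isSubsystemOf_iff_mor.1 (component_le_centSys hS hF hAn hCF) U id (mor_id le_rfl)).le hx
    have hscD₃ := scInter hscD₂ hG.1.2.2.2.1
    have h₃ : AM.Pair p F ((V ⊓ cE hM.meetSys F p hscM.1) ⊓ centralizerIn S A) h₂.meetSys
        (centralizerSys F hAn.1) :=
      ⟨hS, hF, hscD₃, h₂.meet_weaklyNormal, hG.1, inf_le_left, inf_le_right, le_rfl⟩
    have hC₃ := component_of_le hCF.1 hS hq _ _ h₃.meet_normal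
      (le_inf (le_inf hUV hUY) hUA)
    have hsep : Sep p F h₃.meetSys T := ⟨hS, h₃.meet_normal, hTc, fun P f hf x hx hxT => by
      have hxA : x ∈ A := hA ▸ ⟨(hf.le hx).1, hxT⟩
      obtain ⟨-, -, -, g, -, hgf, hgA⟩ := mor_cSys.1 (mor_of_invariant h₃.meet_normal₂.1.2.2 hf)
      rw [← hgf x hx, hgA x hxA]⟩
    exact (hsep.le_cFoc (subnormal_mor hC₃.1) hq.2.1).trans (cFoc_le_cE hS hF hN hTc)

end Cfsg.Agent.FusSys.Component
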