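import Cfsg.Agent.FusSys.Component.Simple
import Cfsg.Agent.FusSys.InvariantAux
import Cfsg.Agent.FusSys.ComponentMap
import Cfsg.Agent.FusSys.AMap.Meet.Normal

/-!
A component lies in every normal subsystem whose group contains its group.
-/

set_option autoImplicit false
set_option linter.unusedSectionVars false
set_option maxHeartbeats 800000

namespace Cfsg.Agent.FusSys.Component

open Cfsg Cfsg.FusionSystem Cfsg.Agent.FusSys

universe u

variable {Ω : Type u} [Group Ω] {S T U P Q : Subgroup Ω} {F : FusionSystem S} {p : ℕ}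
variable {f : Ω → Ω}

theorem sys_eq {E D : FusionSystem T} (h : ∀ P, E.Hom P = D.Hom P) : E = D := by
  cases E
  cases D
  congr
  exact funext h

theorem fix_of_central (hQ : F.IsCentral Q) (hf : Mor F P f) {x : Ω} (hx : x ∈ P) (hxQ : x ∈ Q) :
    f x = x := by
  obtain ⟨g, -, hgf, hgQ⟩ := (isCentral_iff.1 hQ).2 P f hf
  rw [← hgf x hx]
  exact hgQ x hxQ

/-- A subnormal subsystem is a subsystem. -/
theorem subnormal_mor {C : FusionSystem T} {S : Subgroup Ω} {F : FusionSystem S}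
    (h : C.IsSubnormalIn F p) : ∀ P f, Mor C P f → Mor F P f := by
  induction h with
  | refl F p => exact fun _ _ hf => hf
  | step _ hn ih => exact fun P f hf => mor_of_invariant hn.1.2.2 (ih P f hf)

/-- A quasisimple system has no proper normal subsystem over the whole group. -/
theorem quasisimple_normal_top [Fact p.Prime] [Finite S] (hS : IsPGroup p S) (hq : F.Quasisimple p)
    {E : FusionSystem S} (hE : E.IsNormalIn F p) {P : Subgroup Ω} {f : Ω → Ω} (hf : Mor F P f) :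
    Mor E P f := by
  obtain ⟨Fb, hFb, hsimp, hsc⟩ := exists_centre_factor hq
  obtain ⟨θ, hθ⟩ : ∃ θ, θ = QuotientGroup.mk' ((F.center).subgroupOf S) := ⟨_, rfl⟩
  rw [← hθ] at hFb
  have hker := hFb.2.1
  have hrange := hFb.2.2.1
  have hinv := hE.1.2.2
  have hscE : E.StronglyClosed F.center := stronglyClosed_iff.2
    ⟨hsc.1, fun R g hR hg x hx => StronglyClosed.mor_mem hsc (mor_of_invariant hinv hg) hx (hR hx)⟩
  obtain ⟨Eb, hEb⟩ := exists_factorSystem (S' := ⊤) (θ := θ) hscE hker hrange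
  have hsub : ∀ P' f', Mor Eb P' f' → Mor Fb P' f' := fun P' f' h => by
    obtain ⟨hP', g, hg, hgx⟩ := (mor_factor hEb hscE).1 h
    exact (mor_factor hFb hsc).2 ⟨hP', g, mor_of_invariant hinv hg, hgx⟩
  have hthS : ∀ x ∈ S, thFn θ x ∈ (⊤ : Subgroup (S ⧸ (F.center).subgroupOf S)) :=
    fun _ _ => Subgroup.mem_top _
  have hpre : preimageAlong θ ⊤ = S :=
    le_antisymm pre_le fun x hx => mem_pre.2 ⟨hx, hthS x hx⟩
  have hfinQ : Finite (⊤ : Subgroup (S ⧸ (F.center).subgroupOf S)) := inferInstance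
  have hlift : ∀ β' : MulAut (⊤ : Subgroup (S ⧸ (F.center).subgroupOf S)), β' ∈ Fb.autGroup ⊤ →
      ∃ β ∈ F.autGroup S, ∀ x ∈ S, apl β' (thFn θ x) = thFn θ (apl β x) := fun β' hβ' => by
    obtain ⟨g, hg, hgx⟩ := exists_iso_lift hFb hsc (iso_apl le_rfl hβ')
    rw [hpre] at hg hgx
    obtain ⟨β, hβ, hβx⟩ := hg.exists_mem_autGroup
    exact ⟨β, hβ, fun x hx => by rw [hgx x hx, hβx x hx]⟩
  have hEbInv : Eb.IsInvariantIn Fb := by
    refine invariant_of_mor (isSubsystemOf_iff_mor.2 hsub) (AM.stronglyClosed_self) ?_ ?_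
    · intro P' f' hf' β' hβ'
      obtain ⟨β, hβ, hβx⟩ := hlift β' hβ'
      obtain ⟨hP', g, hg, hgx⟩ := (mor_factor hEb hscE).1 hf'
      obtain ⟨h, hh, hhx⟩ := exists_transport hinv hg hβ
      refine ⟨fun z => apl β' (f' (apl β'⁻¹ z)), (mor_factor hEb hscE).2
        ⟨le_top, h, hh.mono ?_, ?_⟩, fun z hz => by dsimp only; rw [apl_inv_apl β' (Subgroup.mem_top z)]⟩
      all_goals
        intro x hx
        obtain ⟨hxS, ⟨⟨z, hz⟩, hzP, hzx⟩⟩ := mem_pre.1 hx
        replace hzx : apl β' z = thFn θ x := (apl_apply β' hz).trans hzx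
        have hy : apl β⁻¹ x ∈ S := apl_mem _ hxS
        have hyx : apl β (apl β⁻¹ x) = x := apl_apl_inv β hxS
        have hzy : thFn θ (apl β⁻¹ x) = z := by
          rw [← apl_inv_apl β' hz, hzx, ← hyx, ← hβx _ hy,
            apl_inv_apl β' (hthS _ hy), hyx]
        have hyP : apl β⁻¹ x ∈ preimageAlong θ P' := mem_pre.2 ⟨hy, hzy ▸ hzP⟩
      · exact ⟨⟨_, hy⟩, hyP, ((apl_apply β hy).symm.trans hyx)⟩
      · show apl β' (f' (apl β'⁻¹ (thFn θ x))) = thFn θ (h x)
        rw [← hzx, apl_inv_apl β' hz, ← hzy, hgx _ hyP]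
        conv_rhs => rw [← hyx, hhx _ hyP]
        exact hβx _ (hg.mem_S hyP)
    · intro P' f' hP' hf'
      obtain ⟨-, g, hg, hgx⟩ := (mor_factor hFb hsc).1 hf'
      obtain ⟨β, hβ, e, he, hge⟩ := exists_frattini hinv hg.le hg
      obtain ⟨b', hb', hbx⟩ := exists_iso_image hFb hsc (iso_apl le_rfl hβ) hsc.1
      have himg : imageAlong θ S = ⊤ := eq_top_iff.2 fun z _ => by
        obtain ⟨s, hs⟩ := hrange.ge (Subgroup.mem_top z)
        exact (mem_imageAlong le_rfl).2 ⟨s, s.2, (thFn_coe s).trans hs⟩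
      rw [himg] at hb'
      obtain ⟨β', hβ', hβ'x⟩ := hb'.exists_mem_autGroup
      refine ⟨β', hβ', fun z => apl β'⁻¹ (f' z), (mor_factor hEb hscE).2 ⟨le_top, e, he, fun x hx => ?_⟩,
        fun z _ => (apl_apl_inv β' (Subgroup.mem_top _)).symm⟩
      show apl β'⁻¹ (f' (thFn θ x)) = thFn θ (e x)
      rw [hgx x hx, hge x hx, ← hbx _ (he.mem_S hx), ← hβ'x _ (hthS _ (he.mem_S hx)),
        apl_inv_apl β' (hthS _ (he.mem_S hx))]
  have hEbN : Eb.IsNormalIn Fb p := by
    refine ⟨⟨factor_saturated hS hE.1.1 hEb hscE, hsimp.1, hEbInv⟩, fun α hα => ?_⟩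
    have hW : (⊤ : Subgroup (S ⧸ (F.center).subgroupOf S)) ⊔ centralizerIn ⊤ ⊤ = ⊤ :=
      sup_eq_left.2 (centralizerIn_le _ _)
    have hi := iso_apl le_rfl (autGroup_le_of_invariant hEbInv hα)
    obtain ⟨β, hβ, hβx⟩ : ∃ β ∈ Fb.autGroup
        ((⊤ : Subgroup (S ⧸ (F.center).subgroupOf S)) ⊔ centralizerIn ⊤ ⊤),
        ∀ z ∈ (⊤ : Subgroup (S ⧸ (F.center).subgroupOf S)), apl β z = apl α z := by
      have hi' : Iso Fb ((⊤ : Subgroup (S ⧸ (F.center).subgroupOf S)) ⊔ centralizerIn ⊤ ⊤)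
          ((⊤ : Subgroup (S ⧸ (F.center).subgroupOf S)) ⊔ centralizerIn ⊤ ⊤) (apl α) := by
        rw [hW]; exact hi
      obtain ⟨β, hβ, hβx⟩ := hi'.exists_mem_autGroup
      exact ⟨β, hβ, fun z hz => hβx z (Subgroup.mem_sup_left hz)⟩
    refine ⟨β, hβ, fun x => ?_, fun c hc => ⟨Subgroup.mem_top _, ?_⟩⟩
    · exact (apl_apply β (Subgroup.mem_sup_left x.2)).symm.trans
        ((hβx _ x.2).trans (apl_apply α x.2))
    · refine Subgroup.mem_centralizer_iff.2 fun y hy => ?_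
      rw [← apl_apply β c.2, hβx _ (Subgroup.mem_top _)]
      have hcy := Subgroup.mem_centralizer_iff.1 hc.2
      have h2 : apl α c * y = y * apl α c := by
        obtain ⟨w, hw, rfl⟩ := hi.exists_eq hy
        rw [← hi.1.map_mul (Subgroup.mem_top _) hw, ← hi.1.map_mul hw (Subgroup.mem_top _),
          hcy w hw]
      have hcy' := hcy y hy
      rw [mul_assoc, h2, ← mul_assoc, ← mul_assoc]
      congr 1
      exact (Commute.inv_right (show Commute y c from hcy')).eq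
  rcases hsimp.2.2 ⊤ Eb hEbN with h | ⟨-, h⟩
  · exact absurd h hsimp.2.1
  have hle : F.autGroup S ≤ E.autGroup S := fun α hα => by
    obtain ⟨a', ha', hax⟩ := exists_iso_image hFb hsc (iso_apl le_rfl hα) hsc.1
    have himg : imageAlong θ S = ⊤ := eq_top_iff.2 fun z _ => by
      obtain ⟨s, hs⟩ := hrange.ge (Subgroup.mem_top z)
      exact (mem_imageAlong le_rfl).2 ⟨s, s.2, (thFn_coe s).trans hs⟩
    rw [himg] at ha'
    obtain ⟨φ, hφ, hφf⟩ := ha'.1
    obtain ⟨-, g, hg, hgx⟩ := (mor_factor hEb hscE).1 (⟨φ, (h ⊤).symm ▸ hφ, hφf⟩ : Mor Eb ⊤ a')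
    rw [hpre] at hg hgx
    obtain ⟨e, he, hex⟩ : ∃ e ∈ E.autGroup S, ∀ x ∈ S, apl e x = g x :=
      (show Iso E S S g from ⟨hg, fun y => ⟨fun hy =>
        hg.surj_of_card le_rfl (fun x hx => hg.mem_S hx) le_rfl hy,
        fun ⟨x, hx, hxy⟩ => hxy ▸ hg.mem_S hx⟩⟩).exists_mem_autGroup
    have heF := autGroup_le_of_invariant hinv he
    have hγ := mul_mem (Subgroup.inv_mem _ heF) hα
    have hZ := isCentral_center (F := F)
    obtain ⟨k, hk⟩ := AM.pow_eq_one_of_fix (F := F) hS hsc.1 le_rfl hγ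
      (fun x hx => fix_of_central hZ (iso_apl le_rfl hγ).1 (hsc.1 hx) hx) (fun x hx => by
        obtain ⟨y, hy⟩ : ∃ y, y = apl (e⁻¹ * α) x := ⟨_, rfl⟩
        have hyS : y ∈ S := hy ▸ apl_mem _ hx
        have hey : apl e y = apl α x := by
          rw [hy, apl_mul _ _ hx, apl_apl_inv e (apl_mem α hx)]
        rw [← hy]
        have hxy : x⁻¹ * y ∈ S := S.mul_mem (S.inv_mem hx) hyS
        have h1 : thFn θ (apl e x) = thFn θ (apl e y) := by
          rw [hey, hex x hx, ← hgx x hx, hax x hx]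
        have hm := (iso_apl le_rfl heF).1
        have h2 := (thFn_eq_iff hker (apl_mem e hx) (apl_mem e hyS)).1 h1
        rw [← hm.map_inv hx, ← hm.map_mul (S.inv_mem hx) hyS] at h2
        have h3 := fix_of_central hZ hm (hsc.1 h2) h2
        exact (hm.injOn (hsc.1 h2) hxy h3) ▸ h2)
    have h4 := inn_le_autGroup (F := E) le_rfl (mem_inn_of_pow hS hq.1 hγ hk)
    have h5 := mul_mem he h4
    rwa [mul_inv_cancel_left] at h5
  obtain ⟨β, hβ, e, he, hfe⟩ := exists_frattini hinv hf.le hf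
  exact (he.comp (iso_apl le_rfl (hle hβ)).1 fun x hx => he.mem_S hx).congr fun x hx => hfe x hx

/-- A component of `F` whose group lies in that of a normal subsystem is a component of it. -/
theorem component_of_le {C : FusionSystem U} {S : Subgroup Ω} {F : FusionSystem S}
    (hC : C.IsSubnormalIn F p) : ∀ [Fact p.Prime] [Finite S], IsPGroup p S → C.Quasisimple p →
    ∀ (T : Subgroup Ω) (E : FusionSystem T), E.IsNormalIn F p → U ≤ T → C.IsComponentIn E p := by
  induction hC with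
  | @refl F p =>
    intro _ _ hS hq T E hE hUT
    obtain rfl : T = U := le_antisymm hE.1.2.2.2.1.1 hUT
    obtain rfl : E = F := sys_eq fun P => Set.Subset.antisymm (hE.1.2.2.1 P) fun φ hφ =>
      (quasisimple_normal_top hS hq hE (mor_extendFn hφ)).hom_eq fun x => (extendFn_coe φ x).symm
    exact ⟨.refl _ _, hq⟩
  | @step V S C D F p hCD hDF ih =>
    intro _ _ hS hq T E hE hUT
    have hsc : F.StronglyClosed (V ⊓ T) := stronglyClosed_iff.2
      ⟨inf_le_left.trans hDF.1.2.2.2.1.1, fun R f hR hf x hx =>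
        ⟨StronglyClosed.mor_mem hDF.1.2.2.2.1 hf hx (hR hx).1,
          StronglyClosed.mor_mem hE.1.2.2.2.1 hf hx (hR hx).2⟩⟩
    have h : AM.Pair p F (V ⊓ T) D E :=
      ⟨hS, hDF.1.2.1, hsc, hDF.1, hE.1, inf_le_left, inf_le_right, le_rfl⟩
    have hVS := hDF.1.2.2.2.1.1
    haveI := finite_of_le hVS
    have hM := ih (hS.to_le hVS) hq _ _ h.meet_normal₁ (le_inf (subnormal_le hCD) hUT)
    exact ⟨.step hM.1 h.meet_normal₂, hq⟩

end Cfsg.Agent.FusSys.Component
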