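import Cfsg.Agent.FusSys.Component.Exists

/-!
Normalizer systems in constrained systems are constrained.
-/

set_option autoImplicit false
set_option maxHeartbeats 800000

namespace Cfsg.Agent.FusSys.Component

open Cfsg Cfsg.FusionSystem Cfsg.Agent.FusSys
open scoped Pointwise

universe u

variable {Ω : Type u} [Group Ω] {S T U P R X : Subgroup Ω} {F : FusionSystem S} {p : ℕ}
variable {f : Ω → Ω}

/-- An automorphism of order prime to `p` which fixes `U` and `N_R(U)` fixes `R`. -/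
theorem fixes_of_fixes_normalizer [Fact p.Prime] [Finite X] (hX : IsPGroup p X) {c : MulAut X}
    (hc : (orderOf c).Coprime p) (hUX : U ≤ X) (hRX : R ≤ X)
    (hUR : U ≤ Subgroup.normalizer (R : Set Ω)) (hcR : ∀ r ∈ R, apl c r ∈ R)
    (hfU : ∀ x ∈ U, apl c x = x)
    (hfN : ∀ r ∈ R, r ∈ Subgroup.normalizer (U : Set Ω) → apl c r = r) :
    ∀ r ∈ R, apl c r = r := by
  have hmul : ∀ {a b : Ω}, a ∈ X → b ∈ X → apl c (a * b) = apl c a * apl c b := by
    intro a b ha hb
    rw [apl_apply c ha, apl_apply c hb, apl_apply c (X.mul_mem ha hb), ← Subgroup.coe_mul, ← map_mul]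
    rfl
  have hinv : ∀ {a : Ω}, a ∈ X → apl c a⁻¹ = (apl c a)⁻¹ := by
    intro a ha
    rw [apl_apply c ha, apl_apply c (X.inv_mem ha), ← Subgroup.coe_inv, ← map_inv]
    rfl
  let Fx : Subgroup Ω :=
    { carrier := {x | x ∈ R ⊔ U ∧ apl c x = x}
      one_mem' := ⟨one_mem _, by rw [apl_apply c X.one_mem]; exact congrArg Subtype.val (map_one c)⟩
      mul_mem' := fun {a b} ha hb => ⟨Subgroup.mul_mem _ ha.1 hb.1, by
        rw [hmul (sup_le hRX hUX ha.1) (sup_le hRX hUX hb.1), ha.2, hb.2]⟩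
      inv_mem' := fun {a} ha => ⟨Subgroup.inv_mem _ ha.1, by
        rw [hinv (sup_le hRX hUX ha.1), ha.2]⟩ }
  have hFU : U ≤ Fx := fun x hx => ⟨Subgroup.mem_sup_right hx, hfU x hx⟩
  have hle : Fx ≤ R ⊔ U := fun _ hx => hx.1
  suffices h : Fx = R ⊔ U by
    intro r hr
    exact (h.ge (Subgroup.mem_sup_left hr)).2
  by_contra hne
  haveI := finite_of_le (sup_le hRX hUX)
  obtain ⟨r, hr, hrF⟩ := SetLike.exists_of_lt
    (lt_normalizerIn (hX.to_le (sup_le hRX hUX)) (lt_of_le_of_ne hle hne))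
  obtain ⟨hrRU, hrn⟩ := hr
  have hrRU' : r ∈ (R : Set Ω) * (U : Set Ω) := by
    rw [← Subgroup.coe_mul_of_right_le_normalizer_left R U hUR]
    exact hrRU
  obtain ⟨r', hr', u, hu, rfl⟩ := hrRU'
  have huF : u ∈ Subgroup.normalizer (Fx : Set Ω) := Subgroup.le_normalizer (hFU hu)
  have hr'n : r' ∈ Subgroup.normalizer (Fx : Set Ω) := by
    have := Subgroup.mul_mem _ hrn (Subgroup.inv_mem _ huF)
    rwa [mul_inv_cancel_right] at this
  refine hrF (Subgroup.mul_mem _ ⟨Subgroup.mem_sup_left hr', ?_⟩ (hFU hu))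
  have hr'X := hRX hr'
  have hcr := hcR r' hr'
  refine eq_of_fixed_quot hX hc hr'X (hfN _ (R.mul_mem (R.inv_mem hr') hcr) ?_)
  refine Subgroup.centralizer_le_normalizer _ (Subgroup.mem_centralizer_iff.2 fun x hx => ?_)
  have hxX := hUX hx
  have h1 := ((Subgroup.mem_normalizer_iff.1 hr'n x).1 (hFU hx)).2
  rw [hmul (X.mul_mem hr'X hxX) (X.inv_mem hr'X), hmul hr'X hxX, hinv hr'X, hfU x hx] at h1
  calc x * (r'⁻¹ * apl c r') = r'⁻¹ * (r' * x * r'⁻¹) * apl c r' := by group
    _ = r'⁻¹ * (apl c r' * x * (apl c r')⁻¹) * apl c r' := by rw [h1]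
    _ = r'⁻¹ * apl c r' * x := by group

/-- An automorphism of order prime to `p` fixing a normal subgroup containing its centralizer is
trivial. -/
theorem eq_self_of_fixes_centric [Fact p.Prime] [Finite X] (hX : IsPGroup p X) {c : MulAut X}
    (hc : (orderOf c).Coprime p) (hRX : R ≤ X) (hnR : X ≤ Subgroup.normalizer (R : Set Ω))
    (hCR : centralizerIn X R ≤ R) (hfR : ∀ r ∈ R, apl c r = r) {x : Ω} (hx : x ∈ X) :
    apl c x = x := by
  refine eq_of_fixed_quot hX hc hx (hfR _ (hCR ⟨X.mul_mem (X.inv_mem hx) (apl_mem c hx),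
    Subgroup.mem_centralizer_iff.2 fun r hr => ?_⟩))
  have hm := (Subgroup.mem_normalizer_iff.1 (hnR hx) r).1 hr
  have h1 := hfR _ hm
  have hrX := hRX hr
  have e : apl c (x * r * x⁻¹) = apl c x * r * (apl c x)⁻¹ := by
    rw [apl_apply c (X.mul_mem (X.mul_mem hx hrX) (X.inv_mem hx)), apl_apply c hx]
    conv_rhs => rw [← hfR r hr, apl_apply c hrX]
    rw [← Subgroup.coe_inv, ← Subgroup.coe_mul, ← Subgroup.coe_mul, ← map_inv, ← map_mul, ← map_mul]
    rfl
  rw [e] at h1
  calc r * (x⁻¹ * apl c x) = x⁻¹ * (x * r * x⁻¹) * apl c x := by group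
    _ = x⁻¹ * (apl c x * r * (apl c x)⁻¹) * apl c x := by rw [h1]
    _ = x⁻¹ * apl c x * r := by group

/-- Normalizer systems in constrained systems are constrained. -/
theorem normalizer_constrained [Fact p.Prime] [Finite S] (hS : IsPGroup p S)
    (hc : F.IsConstrained p) (hU : F.IsFullyNormalized U)
    {N : FusionSystem (normalizerIn S U)} (hN : F.IsNormalizerSystem U N) : N.IsConstrained p := by
  have hF := hc.1
  have hUS := hU.1
  have hNS : normalizerIn S U ≤ S := inf_le_left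
  haveI := finite_of_le hNS
  haveI := finite_of_le hUS
  have hNp := hS.to_le hNS
  have hNsat := normalizerSystem_saturated hS hF hU hN
  have hR : F.IsNormal F.core := isNormal_core
  have hCR := core_centralizer_le hc
  obtain ⟨R, hRdef⟩ : ∃ R, R = F.core := ⟨_, rfl⟩
  rw [← hRdef] at hR hCR
  have hRS := hR.1
  have hRc := stronglyClosed_of_isNormal hR
  have hRn : ∀ s ∈ S, s ∈ Subgroup.normalizer (R : Set Ω) := fun s hs =>
    StronglyClosed.le_normalizer hRc hs
  obtain ⟨W, hW⟩ : ∃ W, U ⊔ (R ⊓ Subgroup.normalizer (U : Set Ω)) = W := ⟨_, rfl⟩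
  have hWN : W ≤ normalizerIn S U := hW ▸ sup_le (le_inf hUS Subgroup.le_normalizer)
    (le_inf (inf_le_left.trans hRS) inf_le_right)
  have hWS := hWN.trans hNS
  haveI := finite_of_le hWS
  have hUW : U ≤ W := hW ▸ le_sup_left
  have hWn : N.IsNormal W := by
    refine isNormal_iff.2 ⟨hWN, fun P f hf => ?_⟩
    obtain ⟨-, hPN, hfN, k, hk, hkf, hkU⟩ := (mor_normalizerSystem hN).1 hf
    obtain ⟨k', hk', hk'k, hk'R⟩ := (isNormal_iff.1 hR).2 _ _ hk
    have hle : P ⊔ W ≤ P ⊔ U ⊔ R := hW ▸ sup_le (le_sup_left.trans le_sup_left)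
      (sup_le (le_sup_right.trans le_sup_left) (inf_le_left.trans le_sup_right))
    have hWmap : ∀ x ∈ W, k' x ∈ W := fun x hx => by
      subst hW
      refine (hk'.mono ((le_sup_right (a := P)).trans hle)).mem_of_sup (fun u hu => ?_)
        (fun v hv => ?_) hx
      · rw [hk'k u (Subgroup.mem_sup_right hu)]
        exact Subgroup.mem_sup_left ((hkU _).2 ⟨u, hu, rfl⟩)
      · refine Subgroup.mem_sup_right ⟨(hk'R _).2 ⟨v, hv.1, rfl⟩, ?_⟩
        refine mem_normalizer_of_conj_mem fun y hy => ?_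
        obtain ⟨u, hu, rfl⟩ := (hkU y).1 hy
        have hu' : u ∈ P ⊔ U := Subgroup.mem_sup_right hu
        have hvu : v * u * v⁻¹ ∈ U := (Subgroup.mem_normalizer_iff.1 hv.2 u).1 hu
        rw [← hk'k u hu', ← hk'.map_conj (Subgroup.mem_sup_right hv.1) (Subgroup.mem_sup_left hu'),
          hk'k _ (Subgroup.mem_sup_right hvu)]
        exact (hkU _).2 ⟨_, hvu, rfl⟩
    have hm := hk'.mono hle
    refine ⟨k', (mor_normalizerSystem hN).2 ⟨hm, sup_le hPN hWN, fun x hx => ?_, k',
      hm.mono (sup_le le_rfl (hUW.trans le_sup_right)), fun _ _ => rfl, fun y => ?_⟩,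
      fun x hx => (hk'k x (Subgroup.mem_sup_left hx)).trans (hkf x hx), fun y => ?_⟩
    · exact hm.mem_of_sup (fun a ha => by
        rw [hk'k a (Subgroup.mem_sup_left ha), hkf a ha]; exact hfN a ha)
        (fun a ha => hWN (hWmap a ha)) hx
    · rw [hkU y]
      exact exists_congr fun u => and_congr_right fun hu => by
        rw [hk'k u (Subgroup.mem_sup_right hu)]
    · exact ⟨fun hy => (hm.mono le_sup_right).surj_of_card hWS hWmap le_rfl hy,
        fun ⟨x, hx, hxy⟩ => hxy ▸ hWmap x hx⟩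
  obtain ⟨K, hKdef⟩ : ∃ K, K = centralizerSys N hWn.1 := ⟨_, rfl⟩
  have hKn := centSys_normal hNp hNsat hWn
  rw [← hKdef] at hKn
  have hCN := centralizerIn_le (normalizerIn S U) W
  haveI := finite_of_le hCN
  have hCp := hNp.to_le hCN
  have hgroups : ∀ P, P ≤ centralizerIn (normalizerIn S U) W → IsPGroup p (K.autGroup P) := by
    intro P hP γ₀
    haveI := finite_of_le hP
    haveI : Finite (MulAut P) := Finite.of_injective _ MulEquiv.toEquiv_injective
    obtain ⟨a, b, hab, -, -, hb, ⟨k, hk⟩, hco⟩ :=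
      Cfsg.Agent.Fusion.exists_pPart_mul (p := p) (γ₀ : MulAut P) (isOfFinOrder_of_finite _)
    have hbK : b ∈ K.autGroup P := Subgroup.zpowers_le.2 γ₀.2 hb
    have hb1 : b = 1 := apl_ext fun x hx => by
      rw [apl_one hx]
      have hm := (iso_apl hP hbK).1
      rw [hKdef] at hm
      obtain ⟨-, -, -, g, hg, hgb, hgW⟩ :=
        (mor_centralizerSystem (isCentralizerSystem_centralizerSys (F := N) hWn.1)).1 hm
      obtain ⟨g', hg', hg'g, hg'R⟩ := (isNormal_iff.1 hR).2 _ _
        ((mor_normalizerSystem hN).1 hg).1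
      obtain ⟨X, hX⟩ : ∃ X, P ⊔ W ⊔ R = X := ⟨_, rfl⟩
      rw [hX] at hg'
      have hPX : P ≤ X := hX ▸ le_sup_left.trans le_sup_left
      have hWX : W ≤ X := hX ▸ le_sup_right.trans le_sup_left
      have hRX : R ≤ X := hX ▸ le_sup_right
      have hXS := hg'.le
      haveI := finite_of_le hXS
      have hgmem : ∀ y ∈ X, g' y ∈ X := fun y hy => by
        subst hX
        exact hg'.mem_of_sup (fun z hz => Subgroup.mem_sup_left (by
          rw [hg'g z hz]
          exact hg.mem_of_sup (fun w hw => Subgroup.mem_sup_left (by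
            rw [hgb w hw]; exact apl_mem b hw))
            (fun w hw => Subgroup.mem_sup_right (by rw [hgW w hw]; exact hw)) hz))
          (fun z hz => Subgroup.mem_sup_right ((hg'R _).2 ⟨z, hz, rfl⟩)) hy
      obtain ⟨γ, hγ, hγg⟩ := (show Iso F X X g' from ⟨hg', fun y =>
        ⟨fun hy => hg'.surj_of_card hXS hgmem le_rfl hy,
          fun ⟨z, hz, hzy⟩ => hzy ▸ hgmem z hz⟩⟩).exists_mem_autGroup
      have hgP : ∀ z ∈ P, apl γ z = apl b z := fun z hz => by
        rw [hγg z (hPX hz), hg'g z (Subgroup.mem_sup_left hz), hgb z hz]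
      have hgW' : ∀ z ∈ W, apl γ z = apl (1 : MulAut W) z := fun z hz => by
        rw [hγg z (hWX hz), hg'g z (Subgroup.mem_sup_right hz), hgW z hz, apl_one hz]
      obtain ⟨n, hnco, hnP⟩ := exists_pprime_power (p := p) hPX hgP hco
      have hfW : ∀ z ∈ W, apl (γ ^ n) z = z := fun z hz => by
        rw [apl_pow_restrict hWX hgW' n z hz, one_pow, apl_one hz]
      have hcm := (iso_apl hXS (Subgroup.pow_mem _ hγ n)).1
      have hcR : ∀ r ∈ R, apl (γ ^ n) r ∈ R := fun r hr =>
        StronglyClosed.mor_mem hRc hcm (hRX hr) hr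
      have hfR := fixes_of_fixes_normalizer (hS.to_le hXS) hnco (hUW.trans hWX) hRX
        (fun u hu => hRn u (hUS hu)) hcR (fun u hu => hfW u (hUW hu))
        fun r hr hrn => hfW r (hW ▸ Subgroup.mem_sup_right ⟨hr, hrn⟩)
      rw [← hnP x hx]
      exact eq_self_of_fixes_centric (hS.to_le hXS) hnco hRX (fun s hs => hRn s (hXS hs))
        (fun z hz => hCR ⟨hXS hz.1, hz.2⟩) hfR (hPX hx)
    refine ⟨k, Subtype.ext ?_⟩
    rw [SubmonoidClass.coe_pow, hab, hb1, mul_one]
    exact orderOf_dvd_iff_pow_eq_one.1 hk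
  have hKinner := eq_inner_of_pGroups hCp hKn.1.1 hgroups
  have hC : centralizerIn (normalizerIn S U) W ≤ N.core :=
    (le_core (top_normal_of_inner hKinner)).trans (core_le hNp hKn.1)
  exact constrained_of_core hNsat fun x hx =>
    hC ⟨hx.1, Subgroup.centralizer_le (le_core hWn) hx.2⟩

end Cfsg.Agent.FusSys.Component
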