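import Cfsg.Agent.FusSys.Component.Constrained
import Cfsg.Agent.FusSys.Component.NormalizerConstrained
import Cfsg.Agent.FusSys.ComponentMap
import Cfsg.Agent.Fusion.PGroup

/-!
A saturated system is of characteristic `p`-type or of component type.
-/

set_option autoImplicit false
set_option maxHeartbeats 800000

namespace Cfsg.Agent.FusSys.Component

open Cfsg Cfsg.FusionSystem Cfsg.Agent.FusSys

universe u

variable {Ω : Type u} [Group Ω] {S T U U' P : Subgroup Ω} {F : FusionSystem S} {p : ℕ}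
variable {g d : Ω → Ω}

theorem constrained_congr {T' : Subgroup Ω} {E : FusionSystem T} {E' : FusionSystem T'} (hT : T = T')
    (h : ∀ P f, Mor E P f ↔ Mor E' P f) (hc : E.IsConstrained p) : E'.IsConstrained p := by
  subst hT
  rwa [← eq_iff_mor.2 h]

theorem transport_normalizerMap [Finite S] {N : FusionSystem (normalizerIn S U)}
    {N' : FusionSystem (normalizerIn S U')} (hN : F.IsNormalizerSystem U N)
    (hN' : F.IsNormalizerSystem U' N') (hg : Iso F (normalizerIn S U) (normalizerIn S U') g)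
    (hd : Iso F (normalizerIn S U') (normalizerIn S U) d)
    (hdg : ∀ x ∈ normalizerIn S U, d (g x) = x) (hgU : Iso F U U' g) (hUS : U ≤ S) (hU'S : U' ≤ S)
    {f : Ω → Ω} (hf : Mor N P f) : Mor N' (tImg g P) (fun y => g (f (d y))) := by
  obtain ⟨-, hP, hfN, k, hk, hkf, hkU⟩ := (mor_normalizerSystem hN).1 hf
  have hUN : U ≤ normalizerIn S U := le_inf hUS Subgroup.le_normalizer
  have hU'N : U' ≤ normalizerIn S U' := le_inf hU'S Subgroup.le_normalizer
  have hP' : tImg g P ≤ normalizerIn S U' :=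
    (Subgroup.closure_le _).2 (by rintro _ ⟨x, hx, rfl⟩; exact hg.mem (hP hx))
  have hdU : ∀ y ∈ U', ∃ x ∈ U, g x = y ∧ d y = x := fun y hy => by
    obtain ⟨x, hx, rfl⟩ := hgU.exists_eq hy
    exact ⟨x, hx, rfl, hdg x (hUN hx)⟩
  have hdP : ∀ y ∈ tImg g P, d y ∈ P := fun y hy => by
    induction hy using Subgroup.closure_induction with
    | mem y hy => obtain ⟨x, hx, rfl⟩ := hy; exact (hdg x (hP hx)).symm ▸ hx
    | one => rw [hd.1.map_one]; exact P.one_mem
    | mul a b ha hb iha ihb => rw [hd.1.map_mul (hP' ha) (hP' hb)]; exact P.mul_mem iha ihb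
    | inv a ha iha => rw [hd.1.map_inv (hP' ha)]; exact P.inv_mem iha
  have hkN : ∀ x ∈ P ⊔ U, k x ∈ normalizerIn S U := fun x hx => hk.mem_of_sup
    (fun a ha => by rw [hkf a ha]; exact hfN a ha) (fun a ha => hUN ((hkU _).2 ⟨a, ha, rfl⟩)) hx
  have hdm : Mor F (tImg g P ⊔ U') d := hd.1.mono (sup_le hP' hU'N)
  have hdmem : ∀ y ∈ tImg g P ⊔ U', d y ∈ P ⊔ U := fun y hy => hdm.mem_of_sup
    (fun a ha => Subgroup.mem_sup_left (hdP a ha))
    (fun a ha => by
      obtain ⟨x, hx, -, e⟩ := hdU a ha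
      exact e.symm ▸ Subgroup.mem_sup_right hx) hy
  have hm : Mor F (tImg g P ⊔ U') (fun y => g (k (d y))) :=
    (hdm.comp hk hdmem).comp hg.1 fun y hy => hkN _ (hdmem y hy)
  have hval : ∀ y ∈ tImg g P, g (k (d y)) = g (f (d y)) := fun y hy => by
    rw [hkf _ (hdP y hy)]
  refine (mor_normalizerSystem hN').2 ⟨(hm.mono le_sup_left).congr fun y hy => (hval y hy).symm,
    hP', fun y hy => hg.mem (hfN _ (hdP y hy)), _, hm, hval, fun y => ⟨fun hy => ?_, ?_⟩⟩
  · obtain ⟨x, hx, rfl⟩ := hgU.exists_eq hy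
    obtain ⟨z, hz, rfl⟩ := (hkU x).1 hx
    refine ⟨g z, hgU.mem hz, ?_⟩
    show g (k (d (g z))) = _
    rw [hdg z (hUN hz)]
  · rintro ⟨w, hw, rfl⟩
    obtain ⟨x, hx, -, e⟩ := hdU w hw
    show g (k (d w)) ∈ U'
    rw [e]
    exact hgU.mem ((hkU _).2 ⟨x, hx, rfl⟩)

/-- A normal subgroup meets the centre: an element of order `p`. -/
theorem exists_central_orderOf [Fact p.Prime] [Finite S] (hS : IsPGroup p S) (hU : U ≤ S)
    (hne : U ≠ ⊥) :
    ∃ x ∈ U, orderOf x = p ∧ ∀ s ∈ normalizerIn S U, s * x = x * s := by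
  haveI := finite_of_le (show normalizerIn S U ≤ S from inf_le_left)
  have hN : U ≤ normalizerIn S U := le_inf hU Subgroup.le_normalizer
  haveI : (U.subgroupOf (normalizerIn S U)).Normal :=
    Subgroup.normal_subgroupOf_of_le_normalizer inf_le_right
  have hp' := hS.to_le (show normalizerIn S U ≤ S from inf_le_left)
  have hne' : U.subgroupOf (normalizerIn S U) ≠ ⊥ := fun h => hne ((Subgroup.eq_bot_iff_forall _).2
    fun x hx => by
      have h1 : (⟨x, hN hx⟩ : normalizerIn S U) ∈ U.subgroupOf (normalizerIn S U) := hx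
      rw [h, Subgroup.mem_bot] at h1
      exact congrArg Subtype.val h1)
  have hA := Cfsg.Agent.Fusion.pGroup_inf_center_ne_bot hp' _ hne'
  obtain ⟨z, hz, hz1⟩ := (Subgroup.bot_or_exists_ne_one _).resolve_left hA
  obtain ⟨k, hk⟩ := (IsPGroup.iff_orderOf.1 hp') z
  have hk0 : k ≠ 0 := fun h0 => hz1 (orderOf_eq_one_iff.1 (by rw [hk, h0, pow_zero]))
  obtain ⟨w, hw⟩ : ∃ w, w = z ^ p ^ (k - 1) := ⟨_, rfl⟩
  have hwA : w ∈ U.subgroupOf (normalizerIn S U) ⊓ Subgroup.center (normalizerIn S U) :=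
    hw ▸ Subgroup.pow_mem _ hz _
  have hwo : orderOf w = p := by
    rw [hw, orderOf_pow' _ (pow_ne_zero _ (Fact.out : p.Prime).ne_zero), hk,
      Nat.gcd_eq_right (pow_dvd_pow p (Nat.sub_le k 1)), Nat.pow_div (Nat.sub_le k 1)
      (Fact.out : p.Prime).pos, show k - (k - 1) = 1 by omega, pow_one]
  exact ⟨w, hwA.1, by rw [Subgroup.orderOf_coe]; exact hwo,
    fun s hs => congrArg Subtype.val (Subgroup.mem_center_iff.1 hwA.2 ⟨s, hs⟩)⟩

theorem charType_or_componentType [Fact p.Prime] [Finite S] (hS : IsPGroup p S)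
    (hF : F.IsSaturated p) : F.IsOfCharacteristicPType p ∨ F.IsOfComponentType p := by
  refine or_iff_not_imp_left.2 fun hnot => ?_
  obtain ⟨U, hne, hU, N, hN, hnc⟩ : ∃ U, U ≠ ⊥ ∧ F.IsFullyNormalized U ∧
      ∃ N : FusionSystem (normalizerIn S U), F.IsNormalizerSystem U N ∧ ¬ N.IsConstrained p := by
    by_contra h
    exact hnot fun U h1 h2 E h3 => by_contra fun h4 => h ⟨U, h1, h2, E, h3, h4⟩
  have hNsat := normalizerSystem_saturated hS hF hU hN
  obtain ⟨x, hxU, hxo, hxc⟩ := exists_central_orderOf hS hU.1 hne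
  have hXU : Subgroup.zpowers x ≤ U := Subgroup.zpowers_le.2 hxU
  obtain ⟨X', g, hX', hg, hgX, -⟩ := exists_fullyNormalized_mor hS hF (hXU.trans hU.1)
  have hNX : ∀ s ∈ normalizerIn S U, ∀ y ∈ Subgroup.zpowers x, s * y = y * s := fun s hs y hy => by
    obtain ⟨j, rfl⟩ := Subgroup.mem_zpowers_iff.1 hy
    exact ((show Commute s x from hxc s hs).zpow_right j).eq
  have hNle : normalizerIn S U ≤ normalizerIn S (Subgroup.zpowers x) := fun s hs =>
    ⟨hs.1, Subgroup.centralizer_le_normalizer _ (Subgroup.mem_centralizer_iff.2 fun y hy =>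
      (hNX s hs y hy).symm)⟩
  have hgN := hg.mono hNle
  have hUN : U ≤ normalizerIn S U := le_inf hU.1 Subgroup.le_normalizer
  obtain ⟨U', hgU⟩ := exists_iso_restrict hgN hUN
  have hU'S := hgU.right_le
  haveI := finite_of_le hU'S
  haveI := finite_of_le (show normalizerIn S U' ≤ S from inf_le_left)
  have hgim : ∀ s ∈ normalizerIn S U, g s ∈ normalizerIn S U' := fun s hs =>
    hgN.mem_normalizerIn_image hgU hUN hs hs.2
  have hcard : ∀ R, F.IsConj U R → Nat.card (normalizerIn S R) ≤ Nat.card (normalizerIn S U') :=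
    fun R hR => (hU.2 R hR).trans (hgN.card_image_le inf_le_left hgim)
  have hU' : F.IsFullyNormalized U' :=
    ⟨hU'S, fun R hR => hcard R (isConj_trans hgU.isConj hR)⟩
  have hgi : Iso F (normalizerIn S U) (normalizerIn S U') g := ⟨hgN, fun y =>
    ⟨fun hy => hgN.surj_of_card inf_le_left hgim (hU.2 U' hgU.isConj) hy,
      fun ⟨z, hz, hzy⟩ => hzy ▸ hgim z hz⟩⟩
  obtain ⟨d, hd, hdg, hgd⟩ := hgi.symm
  have hdU : Iso F U' U d := ⟨hd.1.mono (le_inf hU'S Subgroup.le_normalizer), fun y =>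
    ⟨fun hy => ⟨g y, hgU.mem hy, hdg y (hUN hy)⟩, fun ⟨z, hz, hzy⟩ => by
      obtain ⟨w, hw, rfl⟩ := hgU.exists_eq hz
      rw [hdg w (hUN hw)] at hzy
      exact hzy ▸ hw⟩⟩
  -- the normalizer system of `U'` is not constrained
  obtain ⟨N', hN'⟩ : ∃ N' : FusionSystem (normalizerIn S U'), F.IsNormalizerSystem U' N' :=
    ⟨_, isNormalizerSystem_normalizerSys hU'S⟩
  have hN'sat := normalizerSystem_saturated hS hF hU' hN'
  have hN'p := hS.to_le (show normalizerIn S U' ≤ S from inf_le_left)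
  haveI := finite_of_le (show normalizerIn S U ≤ S from inf_le_left)
  have hNp := hS.to_le (show normalizerIn S U ≤ S from inf_le_left)
  have htr : Transp N N' g d := ⟨fun _ h => hgi.mem h, fun _ h => hd.mem h, hdg, hgd,
    fun a ha b hb => hgN.map_mul ha hb,
    fun P f hf => transport_normalizerMap hN hN' hgi hd hdg hgU hU.1 hU'S hf,
    fun P f hf => transport_normalizerMap hN' hN hd hgi hgd hdU hU'S hU.1 hf⟩
  have hnc' : ¬ N'.IsConstrained p := by
    intro hc
    refine hnc ((constrained_iff_no_component hNp hNsat).2 ?_)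
    rintro ⟨T, C, hC⟩
    obtain ⟨-, T', C', -, hC'⟩ := htr.component hNp hC
    exact (constrained_iff_no_component hN'p hN'sat).1 hc ⟨T', C', hC'⟩
  -- the centralizer system of `X'`
  have hX'U : X' ≤ U' := fun y hy => by
    obtain ⟨z, hz, rfl⟩ := hgX.exists_eq hy
    exact hgU.mem (hXU hz)
  have hN'C : normalizerIn S U' ≤ centralizerIn S X' := fun s hs => by
    obtain ⟨a, ha, rfl⟩ := hgi.exists_eq hs
    refine ⟨hs.1, Subgroup.mem_centralizer_iff.2 fun y hy => ?_⟩
    obtain ⟨z, hz, rfl⟩ := hgX.exists_eq hy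
    rw [← hgN.map_mul (hUN (hXU hz)) ha, ← hgN.map_mul ha (hUN (hXU hz)), hNX a ha z hz]
  have hU'C : U' ≤ centralizerIn S X' := (le_inf hU'S Subgroup.le_normalizer).trans hN'C
  have hG := isCentralizerSystem_centralizerSys (F := F) hX'.1
  have hGsat := centralizerSystem_saturated hS hF
    (fullyCentralized_of_fullyNormalized hS hF hX') hG
  have hCS := centralizerIn_le S X'
  haveI := finite_of_le hCS
  have hGp := hS.to_le hCS
  refine ⟨X', ?_, hX', centralizerSys F hX'.1, hG,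
    exists_component hGp hGsat fun hGc => hnc' ?_⟩
  · rw [← hgX.card_eq, Nat.card_zpowers, hxo]
  have hNeq : normalizerIn (centralizerIn S X') U' = normalizerIn S U' :=
    le_antisymm (fun s hs => ⟨hCS hs.1, hs.2⟩) fun s hs => ⟨hN'C hs, hs.2⟩
  have hU'G : (centralizerSys F hX'.1).IsFullyNormalized U' := ⟨hU'C, fun R hR => by
    obtain ⟨φ, hφ⟩ := isConj_iff.1 hR
    have h1 : F.IsConj U' R := Iso.isConj (f := φ) ⟨((mor_centralizerSystem hG).1 hφ.1).1, hφ.2⟩
    rw [hNeq]
    haveI := finite_of_le (show normalizerIn S R ≤ S from inf_le_left)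
    exact le_trans (Subgroup.card_le_of_le (show normalizerIn (centralizerIn S X') R ≤ normalizerIn S R
      from fun s hs => ⟨hCS hs.1, hs.2⟩)) (hU'.2 R h1)⟩
  obtain ⟨M, hM⟩ : ∃ M : FusionSystem (normalizerIn (centralizerIn S X') U'),
      (centralizerSys F hX'.1).IsNormalizerSystem U' M :=
    ⟨_, isNormalizerSystem_normalizerSys hU'C⟩
  have hMc := normalizer_constrained hGp hGc hU'G hM
  haveI := finite_of_le (show normalizerIn (centralizerIn S X') U' ≤ centralizerIn S X' from inf_le_left)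
  have hU'M : U' ≤ normalizerIn (centralizerIn S X') U' := le_inf hU'C Subgroup.le_normalizer
  have hU'N : U' ≤ normalizerIn S U' := le_inf hU'S Subgroup.le_normalizer
  have hUnM : M.IsNormal U' := normalizerSystem_isNormal hM hU'C
  have hUnN : N'.IsNormal U' := normalizerSystem_isNormal hN' hU'S
  have hMp := hGp.to_le
    (show normalizerIn (centralizerIn S X') U' ≤ centralizerIn S X' from inf_le_left)
  have hCMc := constrained_of_weaklyNormal hMp hMc (centSys_normal hMp hMc.1 hUnM).1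
  have hKc : (centralizerSys N' hUnN.1).IsConstrained p := by
    refine constrained_congr (by rw [hNeq]) (fun P f => ?_) hCMc
    rw [mor_centralizerSystem (isCentralizerSystem_centralizerSys (F := M) hUnM.1),
      mor_centralizerSystem (isCentralizerSystem_centralizerSys (F := N') hUnN.1)]
    constructor
    · rintro ⟨-, hP, hfC, k, hk, hkf, hkU⟩
      obtain ⟨hkG, hkP, hkN, -⟩ := (mor_normalizerSystem hM).1 hk
      rw [hNeq] at hP hfC hkP hkN
      have hkN' : Mor N' (P ⊔ U') k := (mor_normalizerSystem hN').2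
        ⟨((mor_centralizerSystem hG).1 hkG).1, hkP, hkN, k,
          ((mor_centralizerSystem hG).1 hkG).1.mono (sup_le le_rfl le_sup_right), fun _ _ => rfl,
          fun y => ⟨fun hy => ⟨y, hy, hkU y hy⟩, fun ⟨z, hz, hzy⟩ => hzy ▸ (hkU z hz).symm ▸ hz⟩⟩
      exact ⟨(hkN'.mono le_sup_left).congr fun z hz => (hkf z hz).symm, hP, hfC, k, hkN', hkf, hkU⟩
    · rintro ⟨-, hP, hfC, k, hk, hkf, hkU⟩
      obtain ⟨hkF, hkP, hkN, -⟩ := (mor_normalizerSystem hN').1 hk
      have hkG : Mor (centralizerSys F hX'.1) (P ⊔ U') k := (mor_centralizerSystem hG).2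
        ⟨hkF, hkP.trans hN'C, fun z hz => hN'C (hkN z hz), k,
          hkF.mono (sup_le le_rfl (hX'U.trans le_sup_right)), fun _ _ => rfl,
          fun z hz => hkU z (hX'U hz)⟩
      rw [← hNeq] at hP hfC hkP hkN
      have hkM : Mor M (P ⊔ U') k := (mor_normalizerSystem hM).2
        ⟨hkG, hkP, hkN, k, hkG.mono (sup_le le_rfl le_sup_right), fun _ _ => rfl,
          fun y => ⟨fun hy => ⟨y, hy, hkU y hy⟩, fun ⟨z, hz, hzy⟩ => hzy ▸ (hkU z hz).symm ▸ hz⟩⟩
      exact ⟨(hkM.mono le_sup_left).congr fun z hz => (hkf z hz).symm, hP, hfC, k, hkM, hkf, hkU⟩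
  have hKn := centSys_normal hN'p hN'sat hUnN
  haveI := finite_of_le (centralizerIn_le (normalizerIn S U') U')
  have h1 := core_le hN'p hKn.1
  exact constrained_of_core hN'sat fun z hz => h1 (core_centralizer_le hKc
    ⟨⟨hz.1, Subgroup.centralizer_le (le_core hUnN) hz.2⟩, Subgroup.centralizer_le h1 hz.2⟩)

end Cfsg.Agent.FusSys.Component
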