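import Cfsg.Agent.FusSys.Component.Constrained
import Cfsg.Agent.FusSys.Product
import Cfsg.Prelude.Def_FusionFitting

/-!
Constrained systems are those whose generalized Fitting subsystem is the inner system of the core.
-/

set_option autoImplicit false

namespace Cfsg.Agent.FusSys.Component

open Cfsg Cfsg.FusionSystem Cfsg.Agent.FusSys

universe u

variable {Ω : Type u} [Group Ω] {S T Q : Subgroup Ω} {F : FusionSystem S} {p : ℕ}

theorem bot_isLayer [Fact p.Prime] [Finite S] (hS : IsPGroup p S) (hF : F.IsSaturated p)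
    (hno : ¬ ∃ (T : Subgroup Ω) (C : FusionSystem T), C.IsComponentIn F p) :
    (innerFusionSystem (⊥ : Subgroup Ω)).IsLayerOf F p := by
  have hb : F.IsNormal ⊥ := isNormal_bot
  have hab : ∀ x ∈ (⊥ : Subgroup Ω), ∀ y ∈ (⊥ : Subgroup Ω), x * y = y * x := fun x hx y _ => by
    rw [Subgroup.mem_bot.1 hx, one_mul, mul_one]
  refine ⟨inner_isNormalIn hS hF (stronglyClosed_of_isNormal hb) hab
    ((isNormal_iff_extends hS hF bot_le).1 hb), fun U C hC => absurd ⟨U, C, hC⟩ hno,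
    fun R D _ _ => isSubsystemOf_iff_mor.2 fun P f hf => ?_⟩
  obtain ⟨hP, g, hg, hfg⟩ := mor_inner.1 hf
  refine (mor_id (F := D) (hP.trans bot_le)).congr fun x hx => ?_
  rw [hfg x hx, Subgroup.mem_bot.1 hg, one_mul, inv_one, mul_one]
  rfl

theorem centralProduct_bot :
    IsCentralProductOf (innerFusionSystem Q) (innerFusionSystem (⊥ : Subgroup Ω))
      (innerFusionSystem Q) := by
  obtain ⟨D₀, hD₀⟩ := exists_productSystem (innerFusionSystem Q) (innerFusionSystem (⊥ : Subgroup Ω))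
  refine ⟨D₀, hD₀, ⊥, (MonoidHom.fst Ω Ω).comp (Q.prod (⊥ : Subgroup Ω)).subtype, bot_le,
    bot_inf_eq _, bot_inf_eq _, fun _ _ => rfl, fun y hy => ?_, bot_le, fun s => ?_, ?_,
    fun P' φ' => ⟨?_, ?_⟩⟩
  · exact (Subgroup.mem_bot.1 (Subgroup.mem_prod.1 hy).2).symm
  · rw [Subgroup.mem_bot]
    refine ⟨fun h => Prod.ext h (Subgroup.mem_bot.1 (Subgroup.mem_prod.1 s.2).2), fun h => ?_⟩
    show (s : Ω × Ω).1 = 1
    rw [h]
    rfl
  · refine le_antisymm ?_ fun x hx => ⟨⟨(x, 1), Subgroup.mem_prod.2 ⟨hx, one_mem _⟩⟩, rfl⟩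
    rintro _ ⟨s, rfl⟩
    exact (Subgroup.mem_prod.1 s.2).1
  · rintro ⟨hP', g, hg, hφ'⟩
    refine ⟨hP', conjHom _ ((g, 1) : Ω × Ω), D₀.conj_mem pre_le ⟨hg, one_mem _⟩,
      inducedAlong_iff.2 fun x => ⟨?_, fun h => ?_⟩⟩
    · exact Subgroup.mul_mem _ (Subgroup.mul_mem _
        (Subgroup.mem_prod.2 ⟨hg, one_mem _⟩) (pre_le x.2))
        (Subgroup.inv_mem _ (Subgroup.mem_prod.2 ⟨hg, one_mem _⟩))
    · have hx := pre_le x.2
      rw [hφ' ⟨_, h⟩]
      show g * thFn _ _ * g⁻¹ = _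
      rw [thFn_apply hx]
      refine Eq.trans ?_ (thFn_apply (Subgroup.mul_mem _ (Subgroup.mul_mem _
        (Subgroup.mem_prod.2 ⟨hg, one_mem _⟩) hx)
        (Subgroup.inv_mem _ (Subgroup.mem_prod.2 ⟨hg, one_mem _⟩)))).symm
      rfl
  · rintro ⟨hP', φ, hφ, hind⟩
    obtain ⟨-, f₁, f₂, hf₁, -, heq⟩ := (mor_product hD₀).1 (mor_extendFn hφ)
    obtain ⟨-, g, hg, hfg⟩ := mor_inner.1 hf₁
    refine ⟨hP', g, hg, fun z => ?_⟩
    have hzS : ((z : Ω), (1 : Ω)) ∈ Q.prod (⊥ : Subgroup Ω) :=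
      Subgroup.mem_prod.2 ⟨hP' z.2, one_mem _⟩
    have hth : thFn ((MonoidHom.fst Ω Ω).comp (Q.prod (⊥ : Subgroup Ω)).subtype)
        ((z : Ω), (1 : Ω)) = z := thFn_apply hzS
    have hx : ((z : Ω), (1 : Ω)) ∈ preimageAlong
        ((MonoidHom.fst Ω Ω).comp (Q.prod (⊥ : Subgroup Ω)).subtype) P' :=
      mem_pre.2 ⟨hzS, by rw [hth]; exact z.2⟩
    obtain ⟨hm, h1⟩ := inducedAlong_iff.1 hind ⟨_, hx⟩
    have h2 := h1 (by rw [hth]; exact z.2)
    rw [thFn_apply hm] at h2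
    have h3 := heq _ hx
    rw [extendFn_apply φ hx] at h3
    have h4 : φ' z = (φ ⟨_, hx⟩).1 := (congrArg φ' (Subtype.ext hth.symm)).trans h2
    rw [h4, h3]
    exact hfg _ (fst_mem hx)

theorem constrained_iff_fitting [Fact p.Prime] [Finite S] (hS : IsPGroup p S)
    (hF : F.IsSaturated p) :
    F.IsConstrained p ↔ (innerFusionSystem F.core).IsGeneralizedFittingOf F p := by
  rw [constrained_iff_no_component hS hF]
  refine ⟨fun hno => ⟨⊥, _, bot_isLayer hS hF hno, centralProduct_bot⟩, ?_⟩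
  rintro ⟨T, E, hE, D₀, -, Z, θ, -, -, -, -, hθ, -, -, hrange, -⟩ ⟨U, C, hC, hq⟩
  have hUT : U ≤ T := fun x hx =>
    (isSubsystemOf_iff_mor.1 (hE.2.1 U C ⟨hC, hq⟩) U id (mor_id le_rfl)).le hx
  have hTQ : T ≤ F.core := fun y hy => by
    have h : ((1, y) : Ω × Ω) ∈ F.core.prod T := Subgroup.mem_prod.2 ⟨one_mem _, hy⟩
    exact hθ y h ▸ hrange.le ⟨⟨_, h⟩, rfl⟩
  have hfix : ∀ P f, Mor C P f → ∀ x ∈ P, f x = x := fun P f hf x hx => by
    obtain ⟨-, -, -, k, -, hkf, hkQ⟩ := centralizes_normal hC hS hF hq _ isNormal_core P f hf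
    rw [← hkf x hx, hkQ x (hTQ (hUT (hf.le hx)))]
  have hU := hq.2.1
  rw [hyperfocal_eq_bot_of_fixed hfix] at hU
  subst hU
  haveI := finite_of_le (bot_le : (⊥ : Subgroup Ω) ≤ S)
  exact quasisimple_not_constrained (hS.to_le bot_le) hq
    (constrained_of_core hq.1 fun x hx => Subgroup.mem_bot.1 hx.1 ▸ one_mem _)

end Cfsg.Agent.FusSys.Component
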