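import Cfsg.Agent.FusSys.Component.LayerNormal
import Cfsg.Agent.FusSys.Component.Fitting

/-!
The generalized Fitting subsystem exists, is normal, and components are normal in it.
-/

set_option autoImplicit false
set_option linter.unusedSectionVars false
set_option linter.style.haveILetI false
set_option maxHeartbeats 800000

namespace Cfsg.Agent.FusSys.Component

open Cfsg Cfsg.FusionSystem Cfsg.Agent.FusSys

universe u

variable {Ω : Type u} [Group Ω] {S T U Q : Subgroup Ω} {F : FusionSystem S} {p : ℕ}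

/-- The inner system of a normal subgroup is normal. -/
theorem inner_normal [Fact p.Prime] [Finite S] (hS : IsPGroup p S) (hF : F.IsSaturated p)
    (hQ : F.IsNormal Q) : (innerFusionSystem Q).IsNormalIn F p := by
  have hQS := hQ.1
  haveI := finite_of_le hQS
  have hQc := stronglyClosed_of_isNormal hQ
  have hext := (isNormal_iff_extends hS hF hQS).1 hQ
  have hsub : (innerFusionSystem Q).IsSubsystemOf F := isSubsystemOf_iff_mor.2 fun P f hf => by
    obtain ⟨hP, g, hg, hfg⟩ := mor_inner.1 hf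
    exact (mor_conj (hP.trans hQS) (hQS hg)).congr fun x hx => hfg x hx
  refine ⟨⟨inner_saturated' (hS.to_le hQS), hF, invariant_of_mor hsub hQc (fun P f hf β hβ => ?_)
    fun P f hP hf => ?_⟩, fun α hα => ?_⟩
  · obtain ⟨hP, g, hg, hfg⟩ := mor_inner.1 hf
    refine ⟨fun y => apl β g * y * (apl β g)⁻¹, mor_inner.2 ⟨?_, apl β g, apl_mem β hg,
      fun y _ => rfl⟩, fun x hx => ?_⟩
    · rintro _ ⟨z, -, rfl⟩
      exact (β z).2
    · show apl β g * apl β x * (apl β g)⁻¹ = apl β (f x)
      rw [hfg x hx, (iso_apl hQS hβ).1.map_conj hg (hP hx)]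
  · obtain ⟨α, hα, hαx⟩ := hext P f hP hf
    exact ⟨α, hα, id, mor_id hP, fun x hx => (hαx x hx).symm⟩
  · obtain ⟨-, g, hg, hαg⟩ := mor_inner.1 (iso_apl le_rfl hα).1
    have hW : Q ⊔ centralizerIn S Q ≤ S := sup_le hQS (centralizerIn_le _ _)
    haveI := finite_of_le hW
    have hn : g ∈ Subgroup.normalizer ((Q ⊔ centralizerIn S Q : Subgroup Ω) : Set Ω) :=
      Subgroup.le_normalizer (Subgroup.mem_sup_left hg)
    obtain ⟨β, hβ, hβx⟩ := (iso_conj_self (F := F) hW (hQS hg) hn).exists_mem_autGroup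
    refine ⟨β, hβ, fun x => ?_, fun c hc => ?_⟩
    · exact (apl_apply β (Subgroup.mem_sup_left x.2)).symm.trans
        ((hβx _ (Subgroup.mem_sup_left x.2)).trans ((hαg _ x.2).symm.trans (apl_apply α x.2)))
    · rw [← apl_apply β c.2, hβx _ c.2, Subgroup.mem_centralizer_iff.1 hc.2 g hg,
        mul_inv_cancel_right, inv_mul_cancel]
      exact one_mem _

theorem fitting_duo [Fact p.Prime] [Finite S] (hS : IsPGroup p S) (hF : F.IsSaturated p)
    {E : FusionSystem T} (hE : E.IsLayerOf F p) :
    Commuting.Duo p F (innerFusionSystem F.core) E := by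
  have hQ : F.IsNormal F.core := isNormal_core
  have hsys := isCentralizerSystem_centralizerSys (F := F) hQ.1
  have hEC := isSubsystemOf_iff_mor.1 (layer_le_centSys hS hF hQ hE)
  have hTC : T ≤ centralizerIn S F.core := (hEC T id (mor_id le_rfl)).le
  have hcomm : ∀ x ∈ F.core, ∀ y ∈ T, x * y = y * x := fun x hx y hy =>
    Subgroup.mem_centralizer_iff.1 (hTC hy).2 x hx
  refine ⟨hS, hF, inner_normal hS hF hQ, hE.1, hcomm, ?_, ?_⟩
  · refine le_center (isCentral_iff.2 ⟨inf_le_left, fun P f hf => ?_⟩)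
    obtain ⟨hP, g, hg, hfg⟩ := mor_inner.1 hf
    exact ⟨fun y => g * y * g⁻¹, mor_inner.2 ⟨sup_le hP inf_le_left, g, hg, fun _ _ => rfl⟩,
      fun x hx => (hfg x hx).symm, fun z hz => by dsimp only; rw [hcomm g hg z hz.2, mul_inv_cancel_right]⟩
  · have hT := hE.1.1.2.2.2.1
    refine le_center (isCentral_iff.2 ⟨inf_le_right, fun P f hf => ?_⟩)
    haveI := finite_of_le hT.1
    -- extend inside the layer through the centre of `T`
    have hz : ∀ z ∈ F.core ⊓ T, ∀ t ∈ T, t * z = z * t := fun z hz t ht =>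
      (hcomm z hz.1 t ht).symm
    have hA := scInter (stronglyClosed_of_isNormal hQ) hT
    have hn := isNormal_of_stronglyClosed_comm (F := E) (hS.to_le hT.1) hE.1.1.1
      (stronglyClosed_iff.2 ⟨inf_le_right, fun R k hR hk x hx =>
        StronglyClosed.mor_mem hA (mor_of_invariant hE.1.1.2.2 hk) hx (hR hx)⟩)
      fun x hx y hy => hz y hy x hx.2
    obtain ⟨g, hg, hgf, -⟩ := (isNormal_iff.1 hn).2 P f hf
    refine ⟨g, hg, hgf, fun z hz' => ?_⟩
    obtain ⟨-, -, -, k, -, hkg, hkQ⟩ := (mor_centralizerSystem hsys).1 (hEC _ _ hg)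
    rw [← hkg z (Subgroup.mem_sup_right hz'), hkQ z hz'.1]

theorem fitting_exists_normal [Fact p.Prime] [Finite S] (hS : IsPGroup p S) (hF : F.IsSaturated p) :
    (∃ (U : Subgroup Ω) (D : FusionSystem U), D.IsGeneralizedFittingOf F p) ∧
      ∀ (U : Subgroup Ω) (D : FusionSystem U), D.IsGeneralizedFittingOf F p → D.IsNormalIn F p := by
  constructor
  · obtain ⟨T, E, hE⟩ := exists_layer hS hF
    obtain ⟨D, -, hD⟩ := (fitting_duo hS hF hE).exists_normal
    exact ⟨_, D, T, E, hE, hD⟩
  · rintro U D ⟨T, E, hE, hD⟩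
    have hduo := fitting_duo hS hF hE
    haveI := finite_of_le hduo.T₁_le
    haveI := finite_of_le hduo.T₂_le
    obtain ⟨D', hD', hc'⟩ := hduo.exists_normal
    have h := cp_of_centralProduct hD
    have h' := cp_of_centralProduct hc'
    obtain rfl : U = F.core ⊔ T := h.sup.symm
    have heq : D = D' := sys_eq fun P => Set.ext fun φ => by
      constructor <;> intro hφ
      · exact ((h'.mor _ _).2 ((h.mor _ _).1 (mor_extendFn hφ))).hom_eq fun x => (extendFn_coe φ x).symm
      · exact ((h.mor _ _).2 ((h'.mor _ _).1 (mor_extendFn hφ))).hom_eq fun x => (extendFn_coe φ x).symm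
    rw [heq]
    exact hD'

theorem component_normal_fitting [Fact p.Prime] [Finite S] (hS : IsPGroup p S) (hF : F.IsSaturated p)
    {C : FusionSystem U} (hC : C.IsComponentIn F p) {V : Subgroup Ω} {D : FusionSystem V}
    (hD : D.IsGeneralizedFittingOf F p) : C.IsNormalIn D p := by
  have hDn := (fitting_exists_normal hS hF).2 _ D hD
  obtain ⟨T, E, hE, hDc⟩ := hD
  have hduo := fitting_duo hS hF hE
  haveI := finite_of_le hduo.T₁_le
  haveI := finite_of_le hduo.T₂_le
  haveI := finite_of_le hDn.1.2.2.2.1.1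
  exact (cp_of_centralProduct hDc).swap.normal_of_normal hDn.1.1
    (component_normal_layer hC.1 hS hF hC.2 T E hE)

end Cfsg.Agent.FusSys.Component
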