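import Cfsg.Agent.FusSys.Component.Contain
import Cfsg.Agent.FusSys.Component.Exists

/-!
Existence of the layer.
-/

set_option autoImplicit false
set_option linter.unusedSectionVars false
set_option maxHeartbeats 400000

namespace Cfsg.Agent.FusSys.Component

open Cfsg Cfsg.FusionSystem Cfsg.Agent.FusSys

universe u

variable {Ω : Type u} [Group Ω] {S T U P Q : Subgroup Ω} {F : FusionSystem S} {p : ℕ}
variable {f : Ω → Ω}

/-- A system contains every component of `F` whose group it contains. -/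
theorem component_sub [Fact p.Prime] [Finite S] (hS : IsPGroup p S) {C : FusionSystem U}
    (hC : C.IsComponentIn F p) {E : FusionSystem T} (hE : E.IsNormalIn F p) (hUT : U ≤ T) :
    C.IsSubsystemOf E :=
  isSubsystemOf_iff_mor.2 (subnormal_mor (component_of_le hC.1 hS hC.2 T E hE hUT).1)

/-- The graphs of the maps of a system. -/
def mapGraphs (E : FusionSystem T) : Set (Set (Ω × Ω)) :=
  {s | ∃ (P : Subgroup Ω) (f : Ω → Ω), Mor E P f ∧ s = (fun x => (x, f x)) '' (P : Set Ω)}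

theorem mapGraphs_mono {R : Subgroup Ω} {E : FusionSystem T} {D : FusionSystem R}
    (h : ∀ P f, Mor E P f → Mor D P f) : mapGraphs E ⊆ mapGraphs D := by
  rintro s ⟨P, f, hf, rfl⟩
  exact ⟨P, f, h P f hf, rfl⟩

theorem mor_of_mapGraphs {R : Subgroup Ω} {E : FusionSystem T} {D : FusionSystem R}
    (h : mapGraphs E ⊆ mapGraphs D) (hf : Mor E P f) : Mor D P f := by
  obtain ⟨P', f', hf', he⟩ := h ⟨P, f, hf, rfl⟩
  have h1 : ∀ x ∈ P, x ∈ P' ∧ f' x = f x := fun x hx => by
    obtain ⟨y, hy, hyx⟩ := he.subset ⟨x, hx, rfl⟩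
    obtain ⟨rfl, h2⟩ := Prod.ext_iff.1 hyx
    exact ⟨hy, h2⟩
  exact (hf'.mono fun x hx => (h1 x hx).1).congr fun x hx => ((h1 x hx).2).symm

/-- Every saturated system has a layer. -/
theorem exists_layer [Fact p.Prime] [Finite S] (hS : IsPGroup p S) (hF : F.IsSaturated p) :
    ∃ (T : Subgroup Ω) (E : FusionSystem T), E.IsLayerOf F p := by
  let Fam : Set (Set (Set (Ω × Ω))) := {g | ∃ (T : Subgroup Ω) (E : FusionSystem T),
    E.IsNormalIn F p ∧ (∀ (U : Subgroup Ω) (C : FusionSystem U), C.IsComponentIn F p → U ≤ T) ∧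
      g = mapGraphs E}
  have hfin : Fam.Finite := by
    have hSS : ((S : Set Ω) ×ˢ (S : Set Ω)).Finite :=
      (Set.toFinite (S : Set Ω)).prod (Set.toFinite (S : Set Ω))
    refine hSS.powerset.powerset.subset ?_
    rintro g ⟨T, E, hE, -, rfl⟩ s ⟨P, f, hf, rfl⟩ z ⟨x, hx, rfl⟩
    exact ⟨hE.1.2.2.2.1.1 (hf.le hx), hE.1.2.2.2.1.1 (hf.mem_S hx)⟩
  have hFn : F.IsNormalIn F p := by
    refine ⟨weaklyNormal_self hF, fun α hα => ?_⟩
    have hW : S ⊔ centralizerIn S S = S := sup_eq_left.2 (centralizerIn_le _ _)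
    have hi : Iso F (S ⊔ centralizerIn S S) (S ⊔ centralizerIn S S) (apl α) := by
      rw [hW]; exact iso_apl le_rfl hα
    obtain ⟨β, hβ, hβx⟩ := hi.exists_mem_autGroup
    refine ⟨β, hβ, fun x => ?_, fun c hc => ?_⟩
    · exact (apl_apply β (Subgroup.mem_sup_left x.2)).symm.trans
        ((hβx _ (Subgroup.mem_sup_left x.2)).trans (apl_apply α x.2))
    · rw [← apl_apply β c.2, hβx _ c.2]
      have hcS := hc.1
      refine Subgroup.mem_inf.2 ⟨S.mul_mem (S.inv_mem hcS) (apl_mem α hcS),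
        Subgroup.mem_centralizer_iff.2 fun y hy => ?_⟩
      have hcy := Subgroup.mem_centralizer_iff.1 hc.2
      have hm := (iso_apl le_rfl hα).1
      have h2 : apl α c * y = y * apl α c := by
        obtain ⟨w, hw, rfl⟩ := (iso_apl le_rfl hα).exists_eq hy
        rw [← hm.map_mul hcS hw, ← hm.map_mul hw hcS, hcy w hw]
      rw [mul_assoc, h2, ← mul_assoc, ← mul_assoc]
      congr 1
      exact (Commute.inv_right (show Commute y c from hcy y hy)).eq
  have hne : Fam.Nonempty :=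
    ⟨_, S, F, hFn, fun U C hC => subnormal_le hC.1, rfl⟩
  obtain ⟨g, hg⟩ := hfin.exists_minimal hne
  obtain ⟨T, E, hE, hall, rfl⟩ := hg.1
  refine ⟨T, E, hE, fun U C hC => component_sub hS hC hE (hall U C hC), fun R D hD hDall => ?_⟩
  have hDle : ∀ (U : Subgroup Ω) (C : FusionSystem U), C.IsComponentIn F p → U ≤ R :=
    fun U C hC => by
      obtain ⟨φ, hφ, -⟩ := mor_id (F := C) (le_refl U)
      exact (D.le_of_mem (hDall U C hC U hφ)).1
  have hsc : F.StronglyClosed (T ⊓ R) := stronglyClosed_iff.2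
    ⟨inf_le_left.trans hE.1.2.2.2.1.1, fun X f hX hf x hx =>
      ⟨StronglyClosed.mor_mem hE.1.2.2.2.1 hf hx (hX hx).1,
        StronglyClosed.mor_mem hD.1.2.2.2.1 hf hx (hX hx).2⟩⟩
  have h : AM.Pair p F (T ⊓ R) E D :=
    ⟨hS, hF, hsc, hE.1, hD.1, inf_le_left, inf_le_right, le_rfl⟩
  have h1 : ∀ P f, Mor h.meetSys P f → Mor E P f :=
    fun P f hf => mor_of_invariant h.meet_normal₁.1.2.2 hf
  have h2 : ∀ P f, Mor h.meetSys P f → Mor D P f :=
    fun P f hf => mor_of_invariant h.meet_normal₂.1.2.2 hf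
  have hmem : mapGraphs h.meetSys ∈ Fam :=
    ⟨_, _, h.meet_normal, fun U C hC => le_inf (hall U C hC) (hDle U C hC), rfl⟩
  have hle := hg.2 hmem (mapGraphs_mono h1)
  exact isSubsystemOf_iff_mor.2 fun P f hf => h2 P f (mor_of_mapGraphs hle hf)

end Cfsg.Agent.FusSys.Component
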