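import Cfsg.Agent.FusSys.Component.Layer
import Cfsg.Agent.FusSys.Component.Commute
import Cfsg.Agent.FusSys.Component.CentralProduct
import Cfsg.Agent.FusSys.Commuting.Normal
import Cfsg.Agent.FusSys.ComponentMap
import Cfsg.Agent.FusSys.ResidualLimit

/-!
Components are normal in the layer; the layer of a normal subsystem is normal.
-/

set_option autoImplicit false
set_option linter.unusedSectionVars false
set_option linter.style.haveILetI false
set_option maxHeartbeats 800000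

namespace Cfsg.Agent.FusSys.Component

open Cfsg Cfsg.FusionSystem Cfsg.Agent.FusSys Cfsg.Agent.FusSys.CentE

universe u

variable {Ω : Type u} [Group Ω] {S T U V : Subgroup Ω} {F : FusionSystem S} {p : ℕ}

/-- A saturated system is normal in itself. -/
theorem normal_self [Fact p.Prime] [Finite S] (hF : F.IsSaturated p) : F.IsNormalIn F p := by
  refine ⟨weaklyNormal_self hF, fun α hα => ?_⟩
  have hW : S ⊔ centralizerIn S S = S := sup_eq_left.2 (centralizerIn_le _ _)
  have hi : Iso F (S ⊔ centralizerIn S S) (S ⊔ centralizerIn S S) (apl α) := by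
    rw [hW]; exact iso_apl le_rfl hα
  obtain ⟨β, hβ, hβx⟩ := hi.exists_mem_autGroup
  refine ⟨β, hβ, fun x => ?_, fun c hc => ?_⟩
  · exact (apl_apply β (Subgroup.mem_sup_left x.2)).symm.trans
      ((hβx _ (Subgroup.mem_sup_left x.2)).trans (apl_apply α x.2))
  · rw [← apl_apply β c.2, hβx _ c.2]
    have hcS := hc.1
    refine Subgroup.mem_inf.2 ⟨S.mul_mem (S.inv_mem hcS) (apl_mem α hcS),
      Subgroup.mem_centralizer_iff.2 fun y hy => ?_⟩
    have hcy := Subgroup.mem_centralizer_iff.1 hc.2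
    have hm := (iso_apl le_rfl hα).1
    have h2 : apl α c * y = y * apl α c := by
      obtain ⟨w, hw, rfl⟩ := (iso_apl le_rfl hα).exists_eq hy
      rw [← hm.map_mul hcS hw, ← hm.map_mul hw hcS, hcy w hw]
    rw [mul_assoc, h2, ← mul_assoc, ← mul_assoc]
    congr 1
    exact (Commute.inv_right (show Commute y c from hcy y hy)).eq

/-- The layer of a normal subsystem is normal. -/
theorem layer_normal_trans [Fact p.Prime] [Finite S] (hS : IsPGroup p S)
    {D : FusionSystem V} (hD : D.IsNormalIn F p) {E : FusionSystem T} (hE : E.IsLayerOf D p) :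
    E.IsNormalIn F p := by
  have hVc := hD.1.2.2.2.1
  have hVS := hVc.1
  haveI := finite_of_le hVS
  have hVp := hS.to_le hVS
  have hF := hD.1.2.1
  have hinvD := hD.1.2.2
  have hinvE := hE.1.1.2.2
  have hTV := hinvE.2.1.1
  have hTS := hTV.trans hVS
  haveI := finite_of_le hTS
  have hmorD : ∀ P f, Mor E P f → Mor D P f := fun P f h => mor_of_invariant hinvE h
  have himgV : ∀ {β : MulAut V}, β ∈ F.autGroup V → ∀ P f, Mor E P f →
      Mor E (tImg (apl β) P) (apl β ∘ f ∘ apl β⁻¹) ∧ tImg (apl β) T = T := by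
    intro β hβ P f hf
    have hα := transp_of_invariant hinvD hβ
    obtain ⟨hT, hmap⟩ := layer_transp hVp hα hE
    exact ⟨hmap.mor P f hf, hT⟩
  have hβT : ∀ {β : MulAut V}, β ∈ F.autGroup V → ∀ x ∈ T, apl β x ∈ T := by
    intro β hβ x hx
    exact (himgV hβ T id (mor_id le_rfl)).2 ▸ mem_tImg_of_mem hx
  have hsc : F.StronglyClosed T := stronglyClosed_iff.2 ⟨hTS, fun P f hP hf x hx => by
    obtain ⟨β, hβ, g, hg, hfg⟩ := exists_frattini hinvD (hP.trans hTV) hf
    rw [hfg x hx]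
    exact hβT hβ _ (StronglyClosed.mor_mem hinvE.2.1 hg hx (hP hx))⟩
  have hfr : ∀ P f, P ≤ T → Mor F P f →
      ∃ β ∈ F.autGroup T, ∃ g, Mor E P g ∧ ∀ x ∈ P, f x = apl β (g x) := by
    intro P f hP hf
    obtain ⟨β, hβ, d, hd, hfd⟩ := exists_frattini hinvD (hP.trans hTV) hf
    obtain ⟨β', hβ', e, he, hde⟩ := exists_frattini hinvE hP hd
    have hm : Mor F T (apl β) := (iso_apl hVS hβ).1.mono hTV
    obtain ⟨β₁, hβ₁, hβ₁x⟩ := (AM.iso_of_stable hm (hβT hβ)).exists_mem_autGroup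
    refine ⟨β₁ * β', mul_mem hβ₁ (autGroup_le_of_sub hinvD.1 hβ'), e, he, fun x hx => ?_⟩
    rw [apl_mul _ _ (he.mem_S hx), hβ₁x _ (apl_mem β' (he.mem_S hx)), hfd x hx, hde x hx]
  have hinv : E.IsInvariantIn F := by
    refine invariant_of_mor (isSubsystemOf_iff_mor.2 fun P f h => mor_of_invariant hinvD (hmorD P f h))
      hsc (fun P f hf β hβ => ?_) hfr
    obtain ⟨b, hb, d, hd, hβd⟩ := exists_frattini hinvD hTV (iso_apl hTS hβ).1
    have hdT : ∀ x ∈ T, d x ∈ T := fun x hx => StronglyClosed.mor_mem hinvE.2.1 hd hx hx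
    obtain ⟨δ, hδ, hδx⟩ := (AM.iso_of_stable hd hdT).exists_mem_autGroup
    obtain ⟨h, hh, hhx⟩ := exists_transport hinvE hf hδ
    rw [map_subgroupOf_apl hf.le δ] at hh
    obtain ⟨h2, -⟩ := himgV hb _ _ hh
    refine ⟨apl b ∘ h ∘ apl b⁻¹, h2.mono ?_, fun x hx => ?_⟩
    · rintro _ ⟨⟨x, hxT⟩, hxP, rfl⟩
      show ((β ⟨x, hxT⟩ : T) : Ω) ∈ _
      rw [← apl_apply β hxT, hβd x hxT, ← hδx x hxT]
      exact mem_tImg_of_mem (mem_tImg_of_mem hxP)
    · show apl b (h (apl b⁻¹ (apl β x))) = apl β (f x)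
      rw [hβd x (hf.le hx), apl_inv_apl b (hTV (hdT _ (hf.le hx))), hβd _ (hf.mem_S hx),
        ← hδx x (hf.le hx), hhx x hx, hδx _ (hf.mem_S hx)]
  have hw : E.IsWeaklyNormalIn F p := ⟨hE.1.1.1, hF, hinv⟩
  have hR : (clsSys (goodGam_gamMin (F := E) (p := p))).IsNormalIn F p := pPrimeResidual_normal hS hw
  have hRD : (clsSys (goodGam_gamMin (F := E) (p := p))).IsNormalIn D p :=
    pPrimeResidual_normal hVp hE.1.1
  have heq : E = clsSys (goodGam_gamMin (F := E) (p := p)) := by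
    refine sys_eq fun P => Set.Subset.antisymm ?_ (clsSys_le goodGam_gamMin P)
    refine hE.2.2 _ _ hRD (fun W C hC => component_sub hVp hC hRD ?_) P
    exact (isSubsystemOf_iff_mor.1 (hE.2.1 W C hC) W id (mor_id le_rfl)).le
  rw [heq]
  exact hR

/-- A component lying in a normal subsystem is normal there if it is normal. -/
theorem normal_in_normal [Fact p.Prime] [Finite S] (hS : IsPGroup p S) {C : FusionSystem U}
    (hC : C.IsNormalIn F p) (hq : C.Quasisimple p) {E : FusionSystem T} (hE : E.IsNormalIn F p)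
    (hUT : U ≤ T) : C.IsNormalIn E p := by
  have h : AM.Pair p F U C E :=
    ⟨hS, hC.1.2.1, hC.1.2.2.2.1, hC.1, hE.1, le_rfl, hUT, inf_le_left⟩
  have hc := component_of_le (C := C) (.step (.refl _ _) hC) hS hq _ _ h.meet_normal le_rfl
  have heq : C = h.meetSys := sys_eq fun P => Set.Subset.antisymm
    (isSubsystemOf_iff_mor.2 (subnormal_mor hc.1) P) (h.meet_normal₁.1.2.2.1 P)
  rw [heq]
  exact h.meet_normal₂

/-- A normal subsystem of a factor is normal in the central product. -/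
theorem CP.normal_of_normal {T₁ T₂ : Subgroup Ω} {E₁ : FusionSystem T₁} {E₂ : FusionSystem T₂}
    {D : FusionSystem T} (h : CP E₁ E₂ D) [Fact p.Prime] [Finite T] (hD : D.IsSaturated p)
    {C : FusionSystem U} (hC : C.IsNormalIn E₁ p) : C.IsNormalIn D p := by
  have hinv := hC.1.2.2
  have hUT₁ := hinv.2.1.1
  have hUT := hUT₁.trans h.le₁
  haveI := finite_of_le hUT
  haveI := finite_of_le h.le₁
  have hsub := isSubsystemOf_iff_mor.1 h.sub₁
  have haut : ∀ β ∈ D.autGroup U, β ∈ E₁.autGroup U := fun β hβ =>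
    (mem_autGroup_iff hUT₁).2 ⟨h.mor_left hUT₁ (iso_apl hUT hβ).1, (iso_apl hUT hβ).2⟩
  refine ⟨⟨hC.1.1, hD, invariant_of_mor
    (isSubsystemOf_iff_mor.2 fun P f hf => hsub _ _ (mor_of_invariant hinv hf))
    (stronglyClosed_iff.2 ⟨hUT, fun P f hP hf x hx =>
      StronglyClosed.mor_mem hinv.2.1 (h.mor_left (hP.trans hUT₁) hf) hx (hP hx)⟩)
    (fun P f hf β hβ => exists_transport hinv hf (haut β hβ)) (fun P f hP hf => ?_)⟩, fun α hα => ?_⟩
  · obtain ⟨β, hβ, g, hg, hfg⟩ := exists_frattini hinv hP (h.mor_left (hP.trans hUT₁) hf)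
    exact ⟨β, (mem_autGroup_iff hUT).2 ⟨hsub _ _ (iso_apl hUT₁ hβ).1, (iso_apl hUT₁ hβ).2⟩,
      g, hg, hfg⟩
  · obtain ⟨β, hβ, hβα, hβc⟩ := hC.2 α hα
    have hW₁ : U ⊔ centralizerIn T₁ U ≤ T₁ := sup_le hUT₁ (centralizerIn_le _ _)
    haveI := finite_of_le hW₁
    obtain ⟨g, hg, hgβ, hgi⟩ := h.ext₁ _ _ (iso_apl hW₁ hβ).1
    have hn : T₁ ⊔ T₂ ≤ Subgroup.normalizer (T₂ : Set Ω) := sup_le
      (fun a ha => Subgroup.centralizer_le_normalizer _
        (Subgroup.mem_centralizer_iff.2 fun b hb => (h.comm a ha b hb).symm)) Subgroup.le_normalizer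
    have hdec : ∀ c ∈ centralizerIn T U, ∃ x ∈ centralizerIn T₁ U, ∃ y ∈ T₂, x * y = c := by
      intro c hc
      have h' : c ∈ ((T₁ ⊔ T₂ : Subgroup Ω) : Set Ω) := h.sup.ge hc.1
      rw [Subgroup.coe_mul_of_left_le_normalizer_right _ _ (le_sup_left.trans hn)] at h'
      obtain ⟨x, hx, y, hy, rfl⟩ := h'
      refine ⟨x, ⟨hx, Subgroup.mem_centralizer_iff.2 fun u hu => ?_⟩, y, hy, rfl⟩
      have h1 := Subgroup.mem_centralizer_iff.1 hc.2 u hu
      rw [← mul_assoc, mul_assoc x y u, ← h.comm u (hUT₁ hu) y hy, ← mul_assoc] at h1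
      exact mul_right_cancel h1
    have hW : U ⊔ centralizerIn T U = U ⊔ centralizerIn T₁ U ⊔ T₂ := by
      refine le_antisymm (sup_le (le_sup_left.trans le_sup_left) fun c hc => ?_) ?_
      · obtain ⟨x, hx, y, hy, rfl⟩ := hdec c hc
        exact mul_mem (Subgroup.mem_sup_left (Subgroup.mem_sup_right hx)) (Subgroup.mem_sup_right hy)
      · exact sup_le (sup_le le_sup_left (fun x hx => Subgroup.mem_sup_right ⟨h.le₁ hx.1, hx.2⟩))
          fun y hy => Subgroup.mem_sup_right ⟨h.le₂ hy,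
            Subgroup.mem_centralizer_iff.2 fun u hu => h.comm u (hUT₁ hu) y hy⟩
    have hst : ∀ x ∈ U ⊔ centralizerIn T₁ U ⊔ T₂, g x ∈ U ⊔ centralizerIn T₁ U ⊔ T₂ := fun x hx =>
      hg.mem_of_sup (fun a ha => Subgroup.mem_sup_left (by rw [hgβ a ha]; exact apl_mem β ha))
        (fun a ha => Subgroup.mem_sup_right (by rw [hgi a ha]; exact ha)) hx
    have hi : Iso D (U ⊔ centralizerIn T U) (U ⊔ centralizerIn T U) g := by
      haveI := finite_of_le hg.le
      rw [hW]; exact AM.iso_of_stable hg hst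
    obtain ⟨γ, hγ, hγx⟩ := hi.exists_mem_autGroup
    refine ⟨γ, hγ, fun u => ?_, fun c hc => ?_⟩
    · refine (apl_apply γ (Subgroup.mem_sup_left u.2)).symm.trans ?_
      rw [hγx _ (Subgroup.mem_sup_left u.2), hgβ _ (Subgroup.mem_sup_left u.2),
        apl_apply β (Subgroup.mem_sup_left u.2)]
      exact hβα u
    · rw [← apl_apply γ c.2, hγx _ c.2]
      obtain ⟨c, hcW⟩ := c
      change c ∈ centralizerIn T U at hc
      obtain ⟨x, hx, y, hy, rfl⟩ := hdec c hc
      show (x * y)⁻¹ * g (x * y) ∈ _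
      have hxW : x ∈ U ⊔ centralizerIn T₁ U := Subgroup.mem_sup_right hx
      rw [hg.map_mul (Subgroup.mem_sup_left hxW) (Subgroup.mem_sup_right hy), hgβ x hxW, hgi y hy]
      have h1 := hβc ⟨x, hxW⟩ hx
      rw [← apl_apply β hxW] at h1
      have e : (x * y)⁻¹ * (apl β x * y) = x⁻¹ * apl β x := by
        rw [mul_inv_rev, mul_assoc, ← mul_assoc x⁻¹,
          h.comm _ (T₁.mul_mem (T₁.inv_mem hx.1) (hW₁ (apl_mem β hxW))) y hy, inv_mul_cancel_left]
      rw [e]
      exact h1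

/-- Components are normal in the layer. -/
theorem component_normal_layer {C : FusionSystem U} {S : Subgroup Ω} {F : FusionSystem S}
    (hC : C.IsSubnormalIn F p) : ∀ [Fact p.Prime] [Finite S], IsPGroup p S → F.IsSaturated p →
    C.Quasisimple p → ∀ (T : Subgroup Ω) (E : FusionSystem T), E.IsLayerOf F p →
      C.IsNormalIn E p := by
  induction hC with
  | @refl F p =>
    intro _ _ hS hF hq T E hE
    refine normal_in_normal hS (normal_self hF) hq hE.1 ?_
    exact (isSubsystemOf_iff_mor.1 (hE.2.1 U F ⟨.refl _ _, hq⟩) U id (mor_id le_rfl)).le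
  | @step V S C D F p hCD hDF ih =>
    intro _ _ hS hF hq T E hE
    have hCF : C.IsComponentIn F p := ⟨.step hCD hDF, hq⟩
    have hVS := hDF.1.2.2.2.1.1
    haveI := finite_of_le hVS
    obtain ⟨T₁, E₁, hE₁⟩ := exists_layer (hS.to_le hVS) hDF.1.1
    have hC₁ := ih (hS.to_le hVS) hDF.1.1 hq _ _ hE₁
    have hn₁ := layer_normal_trans hS hDF hE₁
    have hc₁ := hn₁.1.2.2.2.1
    obtain ⟨K, hK, -⟩ := exists_centralizer_subsystem hS hF hn₁ hc₁
    have hYS := hK.1.2.2.2.1.1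
    haveI := finite_of_le hYS
    obtain ⟨T₂, E₂, hE₂⟩ := exists_layer (hS.to_le hYS) hK.1.1
    have hn₂ := layer_normal_trans hS hK hE₂
    have hc₂ := hn₂.1.2.2.2.1
    have hT₂Y : T₂ ≤ cE E₁ F p hc₁.1 := hE₂.1.1.2.2.2.1.1
    have hcomm : ∀ x ∈ T₁, ∀ y ∈ T₂, x * y = y * x := fun x hx y hy =>
      Subgroup.mem_centralizer_iff.1 (cE_le _ (hT₂Y hy)).2 x hx
    have hall : ∀ (W : Subgroup Ω) (C' : FusionSystem W), C'.IsComponentIn F p → W ≤ T₁ ⊔ T₂ := by
      intro W C' hC'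
      rcases le_or_le_cE hC'.1 hS hC'.2 _ _ hn₁ with h | h
      · exact h.trans le_sup_left
      · exact ((isSubsystemOf_iff_mor.1 (hE₂.2.1 W C' (component_of_le hC'.1 hS hC'.2 _ _ hK h)) W id
          (mor_id le_rfl)).le).trans le_sup_right
    have hZ : F.StronglyClosed (T₁ ⊓ T₂) := scInter hc₁ hc₂
    haveI := finite_of_le hc₁.1
    haveI := finite_of_le hc₂.1
    have hR₁ : E₁ = clsSys (goodGam_gamMin (F := E₁) (p := p)) := by
      refine sys_eq fun P => Set.Subset.antisymm ?_ (clsSys_le goodGam_gamMin P)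
      have hR := pPrimeResidual_normal (hS.to_le hVS) hE₁.1.1
      refine hE₁.2.2 _ _ hR (fun W C' hC' => component_sub (hS.to_le hVS) hC' hR ?_) P
      exact (isSubsystemOf_iff_mor.1 (hE₁.2.1 W C' hC') W id (mor_id le_rfl)).le
    have hR₂ : E₂ = clsSys (goodGam_gamMin (F := E₂) (p := p)) := by
      refine sys_eq fun P => Set.Subset.antisymm ?_ (clsSys_le goodGam_gamMin P)
      have hR := pPrimeResidual_normal (hS.to_le hYS) hE₂.1.1
      refine hE₂.2.2 _ _ hR (fun W C' hC' => component_sub (hS.to_le hYS) hC' hR ?_) P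
      exact (isSubsystemOf_iff_mor.1 (hE₂.2.1 W C' hC') W id (mor_id le_rfl)).le
    have hz₁ : T₁ ⊓ T₂ ≤ E₁.center := by
      rw [hR₁]
      exact le_center (Commuting.isCentral_residual hS hn₁ inf_le_left hZ
        fun z hz t ht => hcomm t ht z hz.2)
    have hz₂ : T₁ ⊓ T₂ ≤ E₂.center := by
      rw [hR₂]
      exact le_center (Commuting.isCentral_residual hS hn₂ inf_le_right hZ
        fun z hz t ht => (hcomm z hz.1 t ht).symm)
    obtain ⟨P₀, hP₀, hP₀c⟩ := (show Commuting.Duo p F E₁ E₂ from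
      ⟨hS, hF, hn₁, hn₂, hcomm, hz₁, hz₂⟩).exists_normal
    have hcp := cp_of_centralProduct hP₀c
    haveI := finite_of_le hP₀.1.2.2.2.1.1
    have hCP := hcp.normal_of_normal hP₀.1.1 hC₁
    -- the layer is normal in the product
    have hallE : ∀ (W : Subgroup Ω) (C' : FusionSystem W), C'.IsComponentIn F p → W ≤ T :=
      fun W C' hC' => (isSubsystemOf_iff_mor.1 (hE.2.1 W C' hC') W id (mor_id le_rfl)).le
    have hEP := hE.2.2 _ _ hP₀ fun W C' hC' => component_sub hS hC' hP₀ (hall W C' hC')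
    have hTP : T ≤ T₁ ⊔ T₂ := (isSubsystemOf_iff_mor.1 hEP T id (mor_id le_rfl)).le
    have h : AM.Pair p F T E P₀ :=
      ⟨hS, hF, hE.1.1.2.2.2.1, hE.1.1, hP₀.1, le_rfl, hTP, inf_le_left⟩
    have heq : E = h.meetSys := sys_eq fun Q => Set.Subset.antisymm
      (hE.2.2 _ _ h.meet_normal (fun W C' hC' => component_sub hS hC' h.meet_normal
        (hallE W C' hC')) Q) (h.meet_normal₁.1.2.2.1 Q)
    have hEn : E.IsNormalIn P₀ p := heq ▸ h.meet_normal₂
    exact normal_in_normal (hS.to_le hP₀.1.2.2.2.1.1) hCP hq hEn (hallE U C hCF)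

end Cfsg.Agent.FusSys.Component
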