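import Cfsg.Agent.FusSys.Component.Commute
import Cfsg.Agent.FusSys.Component.CentralProduct
import Cfsg.Agent.S5148

/-!
Components of a central product lie in a factor.
-/

set_option autoImplicit false
set_option linter.unusedSectionVars false

namespace Cfsg.Agent.FusSys.Component

open Cfsg Cfsg.FusionSystem Cfsg.Agent.FusSys Cfsg.Agent.FusSys.CentE

universe u

variable {Ω : Type u} [Group Ω] {S S₁ S₂ U : Subgroup Ω} {F : FusionSystem S} {p : ℕ}

theorem component_of_product [Fact p.Prime] [Finite S] (hS : IsPGroup p S) (hF : F.IsSaturated p)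
    {F₁ : FusionSystem S₁} {F₂ : FusionSystem S₂} (h₁ : F₁.IsSaturated p) (h₂ : F₂.IsSaturated p)
    (hs₁ : S₁ ≤ S) (hs₂ : S₂ ≤ S) (hc : IsCentralProductOf F₁ F₂ F) {C : FusionSystem U}
    (hC : C.IsComponentIn F p) : C.IsComponentIn F₁ p ∨ C.IsComponentIn F₂ p := by
  haveI := finite_of_le hs₁
  haveI := finite_of_le hs₂
  have h := cp_of_centralProduct hc
  have n₁ := h.normal₁ h₁ hF
  have n₂ := h.swap.normal₁ h₂ hF
  rcases le_or_le_cE hC.1 hS hC.2 _ _ n₁ with hU₁ | hU₁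
  · exact Or.inl (component_of_le hC.1 hS hC.2 _ _ n₁ hU₁)
  rcases le_or_le_cE hC.1 hS hC.2 _ _ n₂ with hU₂ | hU₂
  · exact Or.inr (component_of_le hC.1 hS hC.2 _ _ n₂ hU₂)
  exfalso
  have hUS := subnormal_le hC.1
  haveI := finite_of_le hUS
  refine S5148.result p (hS.to_le hUS) C hC.2 ⟨⟨fun x y => Subtype.ext ?_⟩⟩
  have hc₁ := (cE_le _ (hU₁ x.2)).2
  have hc₂ := (cE_le _ (hU₂ x.2)).2
  have hle : S₁ ⊔ S₂ ≤ Subgroup.centralizer ({(x : Ω)} : Set Ω) := sup_le
    (fun a ha => Subgroup.mem_centralizer_singleton_iff.2 (Subgroup.mem_centralizer_iff.1 hc₁ a ha))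
    (fun a ha => Subgroup.mem_centralizer_singleton_iff.2 (Subgroup.mem_centralizer_iff.1 hc₂ a ha))
  exact (Subgroup.mem_centralizer_singleton_iff.1 (hle (h.sup.ge (hUS y.2)))).symm

end Cfsg.Agent.FusSys.Component
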