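import Cfsg.Agent.FusSys.AMap.Meet.Largest
import Cfsg.Agent.FusSys.CentSys
import Cfsg.Agent.FusSys.Component.Centralize

/-!
A normal subsystem fixing its intersection with a strongly closed subgroup fixes that subgroup.
-/

set_option autoImplicit false
set_option linter.unusedSectionVars false
set_option linter.style.haveILetI false
set_option maxHeartbeats 800000

namespace Cfsg.Agent.FusSys.Component

open Cfsg Cfsg.FusionSystem Cfsg.Agent.FusSys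

universe u

variable {Ω : Type u} [Group Ω] {S T V P R : Subgroup Ω} {F : FusionSystem S} {D : FusionSystem V}
variable {p : ℕ} {f : Ω → Ω}

/-- `D` is normal in `F` and its maps fix the elements of the strongly closed subgroup `T`. -/
structure Sep (p : ℕ) (F : FusionSystem S) (D : FusionSystem V) (T : Subgroup Ω) : Prop where
  pS : IsPGroup p S
  nD : D.IsNormalIn F p
  scT : F.StronglyClosed T
  fix : ∀ P f, Mor D P f → ∀ x ∈ P, x ∈ T → f x = x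

namespace Sep

variable (h : Sep p F D T)
include h

theorem scV : F.StronglyClosed V := h.nD.1.2.2.2.1

theorem conj_V {s v : Ω} (hs : s ∈ S) (hv : v ∈ V) : s * v * s⁻¹ ∈ V :=
  isStronglyClosed_normal h.scV hs hv

theorem conj_T {s t : Ω} (hs : s ∈ S) (ht : t ∈ T) : s * t * s⁻¹ ∈ T :=
  isStronglyClosed_normal h.scT hs ht

theorem comm {v a : Ω} (hv : v ∈ V) (ha : a ∈ V ⊓ T) : v * a * v⁻¹ = a :=
  h.fix V _ (mor_conj le_rfl hv) a ha.1 ha.2

theorem inter_le {R : Subgroup Ω} (hR : AM.TC F V R) : V ⊓ T ≤ R := fun a ha =>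
  hR.self h.scV (AM.mem_centralizerIn ha.1 fun x hx => by
    have h1 := h.comm (hR.1 hx) ha
    have h2 : x * a = a * x := mul_inv_eq_iff_eq_mul.1 h1
    rw [← h2, mul_inv_cancel_right])

theorem comm_mem {v t : Ω} (hv : v ∈ V) (ht : t ∈ T) : v⁻¹ * (t * v * t⁻¹) ∈ V ⊓ T := by
  refine ⟨V.mul_mem (V.inv_mem hv) (h.conj_V (h.scT.1 ht) hv), ?_⟩
  have h1 := T.mul_mem (h.conj_T (S.inv_mem (h.scV.1 hv)) ht) (T.inv_mem ht)
  simpa [mul_assoc] using h1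

theorem T_normalizer {R : Subgroup Ω} [Finite S] (hR : AM.TC F V R) {t : Ω} (ht : t ∈ T) :
    t ∈ normalizerIn S R := by
  haveI := finite_of_le (hR.1.trans h.scV.1)
  refine ⟨h.scT.1 ht, mem_normalizer_of_conj_mem fun x hx => ?_⟩
  have h1 := R.mul_mem hx (h.inter_le hR (h.comm_mem (hR.1 hx) ht))
  rwa [mul_inv_cancel_left] at h1

variable [Fact p.Prime] [Finite S]

/-- An extension to `R C_S(R)` moves conjugation by an element of `T` by one from `V`. -/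
theorem comm_ext (hR : AM.TC F V R) (hn : F.IsFullyNormalized R) {η σ : MulAut (AM.cc S R)}
    (hη : η ∈ AM.OO p F D D R) {s : Ω} (hs : s ∈ T)
    (hσx : ∀ x ∈ AM.cc S R, apl σ x = s * x * s⁻¹) (hσ : σ ∈ F.autGroup (AM.cc S R)) :
    η * σ * η⁻¹ * σ⁻¹ ∈ autInducedBy V (AM.cc S R) := by
  have hp := AM.pair_self h.pS h.nD.1
  have hXS := hp.cc_le_S hR
  have hRX : R ≤ AM.cc S R := AM.le_cc
  have hVS := h.scV.1
  haveI := finite_of_le hXS
  haveI : Finite (MulAut (AM.cc S R)) := Finite.of_injective _ MulEquiv.toEquiv_injective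
  have hηX := hp.OO_le_XX hη
  have hηP := (hp.mem_XX hR).1 hηX
  have hηi := (hp.mem_XX hR).1 (Subgroup.inv_mem _ hηX)
  have hσi : ∀ x ∈ AM.cc S R, apl σ⁻¹ x = s⁻¹ * x * s := fun x hx => by
    have h1 := hσx _ (apl_mem σ⁻¹ hx)
    rw [apl_apl_inv σ hx] at h1
    conv_rhs => rw [h1]
    group
  obtain ⟨d, hd⟩ : ∃ d, d = η * σ * η⁻¹ * σ⁻¹ := ⟨_, rfl⟩
  rw [← hd]
  have hdval : ∀ x ∈ AM.cc S R, apl d x = apl η (apl σ (apl η⁻¹ (apl σ⁻¹ x))) := fun x hx => by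
    rw [hd, apl_mul _ _ hx, apl_mul _ _ (apl_mem _ hx), apl_mul _ _ (apl_mem _ (apl_mem _ hx))]
  have hdF : d ∈ F.autGroup (AM.cc S R) :=
    hd ▸ mul_mem (mul_mem (mul_mem hηP.1 hσ) (Subgroup.inv_mem _ hηP.1)) (Subgroup.inv_mem _ hσ)
  let L : Subgroup (MulAut (AM.cc S R)) :=
    { carrier := {a | a ∈ F.autGroup (AM.cc S R) ∧ (∀ x ∈ AM.cc S R, x⁻¹ * apl a x ∈ R) ∧
        (∀ x ∈ R, x⁻¹ * apl a x ∈ V ⊓ T) ∧ ∀ x ∈ V ⊓ T, apl a x = x}
      one_mem' := ⟨one_mem _, fun x hx => by rw [apl_one hx, inv_mul_cancel]; exact R.one_mem,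
        fun x hx => by rw [apl_one (hRX hx), inv_mul_cancel]; exact one_mem _,
        fun x hx => apl_one (hRX (h.inter_le hR hx))⟩
      mul_mem' := fun {a b} ha hb => ⟨mul_mem ha.1 hb.1,
        (kerMod R (AM.cc S R)).mul_mem (x := a) (y := b) ha.2.1 hb.2.1, fun x hx => by
          have h1 := mul_mem (hb.2.2.1 x hx) (ha.2.2.1 _ (hp.apl_mem_R hR hb.1 hx))
          rw [apl_mul _ _ (hRX hx)]
          rwa [mul_assoc, mul_inv_cancel_left] at h1,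
        fun x hx => by
          rw [apl_mul _ _ (hRX (h.inter_le hR hx)), hb.2.2.2 x hx, ha.2.2.2 x hx]⟩
      inv_mem' := fun {a} ha => ⟨inv_mem ha.1, (kerMod R (AM.cc S R)).inv_mem (x := a) ha.2.1,
        fun x hx => by
          have hy := hp.apl_mem_R hR (inv_mem ha.1) hx
          have h1 := inv_mem (ha.2.2.1 _ hy)
          rw [apl_apl_inv a (hRX hx)] at h1
          rwa [mul_inv_rev, inv_inv] at h1,
        fun x hx => by
          conv_lhs => rw [← ha.2.2.2 x hx]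
          exact apl_inv_apl a (hRX (h.inter_le hR hx))⟩ }
  -- the maps on `V ∩ T`
  have hfixη : ∀ {a : MulAut (AM.cc S R)}, AM.XP F D D R a → ∀ x ∈ V ⊓ T, apl a x = x :=
    fun {a} ha x hx => h.fix _ _ ha.2.2.1 x (AM.le_cc (h.inter_le hR hx)) hx.2
  have hAσ : ∀ x ∈ V ⊓ T, apl σ x ∈ V ⊓ T ∧ apl σ⁻¹ x ∈ V ⊓ T := fun x hx => by
    have hxX := hRX (h.inter_le hR hx)
    rw [hσx x hxX, hσi x hxX]
    refine ⟨⟨h.conj_V (h.scT.1 hs) hx.1, h.conj_T (h.scT.1 hs) hx.2⟩, ?_⟩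
    have h1 := h.conj_V (S.inv_mem (h.scT.1 hs)) hx.1
    have h2 := h.conj_T (S.inv_mem (h.scT.1 hs)) hx.2
    rw [inv_inv] at h1 h2
    exact ⟨h1, h2⟩
  have hσR : ∀ x ∈ R, x⁻¹ * apl σ x ∈ V ⊓ T ∧ x⁻¹ * apl σ⁻¹ x ∈ V ⊓ T := fun x hx => by
    rw [hσx x (hRX hx), hσi x (hRX hx)]
    refine ⟨h.comm_mem (hR.1 hx) hs, ?_⟩
    have h1 := h.comm_mem (hR.1 hx) (T.inv_mem hs)
    rwa [inv_inv] at h1
  have hmul : ∀ {a : MulAut (AM.cc S R)}, a ∈ F.autGroup (AM.cc S R) → ∀ x ∈ AM.cc S R,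
      ∀ y ∈ AM.cc S R, apl a (x * y) = apl a x * apl a y :=
    fun {a} ha x hx y hy => (iso_apl hXS ha).1.map_mul hx hy
  have hRmem : ∀ {a : MulAut (AM.cc S R)}, a ∈ F.autGroup (AM.cc S R) → ∀ x ∈ R, apl a x ∈ R :=
    fun {a} ha x hx => hp.apl_mem_R hR ha hx
  have hdL : d ∈ L := by
    refine ⟨hdF, fun x hx => ?_, fun x hx => ?_, fun x hx => ?_⟩
    · obtain ⟨u, hu⟩ : ∃ u, u = apl σ⁻¹ x := ⟨_, rfl⟩
      have huX : u ∈ AM.cc S R := hu ▸ apl_mem _ hx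
      obtain ⟨r, hr⟩ : ∃ r, r = u⁻¹ * apl η⁻¹ u := ⟨_, rfl⟩
      have hrR : r ∈ R := hr ▸ hηi.2.1 u huX
      have e1 : apl η⁻¹ u = u * r := by rw [hr, mul_inv_cancel_left]
      have e2 : apl d x = apl η x * apl η (apl σ r) := by
        rw [hdval x hx, ← hu, e1, hmul hσ u huX r (hRX hrR), hu, apl_apl_inv σ hx,
          hmul hηP.1 x hx _ (hRX (hRmem hσ r hrR))]
      rw [e2, ← mul_assoc]
      exact R.mul_mem (hηP.2.1 x hx) (hRmem hηP.1 _ (hRmem hσ r hrR))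
    · obtain ⟨a, ha⟩ : ∃ a, a = x⁻¹ * apl σ⁻¹ x := ⟨_, rfl⟩
      have haA : a ∈ V ⊓ T := ha ▸ (hσR x hx).2
      have e1 : apl σ⁻¹ x = x * a := by rw [ha, mul_inv_cancel_left]
      obtain ⟨w, hw⟩ : ∃ w, w = apl η⁻¹ x * a := ⟨_, rfl⟩
      have hwR : w ∈ R := hw ▸ R.mul_mem (hRmem hηi.1 x hx) (h.inter_le hR haA)
      have e2 : apl η⁻¹ (x * a) = w := by
        rw [hmul hηi.1 x (hRX hx) a (hRX (h.inter_le hR haA)), hfixη hηi a haA, hw]
      obtain ⟨b, hb⟩ : ∃ b, b = w⁻¹ * apl σ w := ⟨_, rfl⟩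
      have hbA : b ∈ V ⊓ T := hb ▸ (hσR w hwR).1
      have e3 : apl σ w = w * b := by rw [hb, mul_inv_cancel_left]
      have e4 : apl η w = x * a := by
        rw [← e2, apl_apl_inv η ((AM.cc S R).mul_mem (hRX hx) (hRX (h.inter_le hR haA)))]
      rw [hdval x (hRX hx), e1, e2, e3, hmul hηP.1 w (hRX hwR) b (hRX (h.inter_le hR hbA)),
        e4, hfixη hηP b hbA, mul_assoc, inv_mul_cancel_left]
      exact mul_mem haA hbA
    · have hxX := hRX (h.inter_le hR hx)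
      rw [hdval x hxX, hfixη hηi _ (hAσ x hx).2, apl_apl_inv σ hxX, hfixη hηP x hx]
  have hLn : (L.subgroupOf (F.autGroup (AM.cc S R))).Normal := by
    refine ⟨fun b hb a => ?_⟩
    obtain ⟨⟨b, hbF⟩, rfl⟩ : ∃ b' : F.autGroup (AM.cc S R), b' = b := ⟨b, rfl⟩
    obtain ⟨-, hb1, hb2, hb3⟩ : b ∈ L := hb
    show (a : MulAut (AM.cc S R)) * b * (a : MulAut (AM.cc S R))⁻¹ ∈ L
    have hai := Subgroup.inv_mem _ a.2
    have hconj : ∀ (U : Subgroup Ω), (∀ u ∈ U, u ∈ AM.cc S R → apl (a : MulAut (AM.cc S R)) u ∈ U) →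
        ∀ x ∈ AM.cc S R, (apl (a : MulAut (AM.cc S R))⁻¹ x)⁻¹ * apl b (apl (a : MulAut (AM.cc S R))⁻¹ x) ∈ U →
        x⁻¹ * apl ((a : MulAut (AM.cc S R)) * b * (a : MulAut (AM.cc S R))⁻¹) x ∈ U := by
      intro U hU x hx hy
      have hyX := apl_mem (a : MulAut (AM.cc S R))⁻¹ hx
      have h1 := hU _ hy ((AM.cc S R).mul_mem ((AM.cc S R).inv_mem hyX) (apl_mem _ hyX))
      have hm := (iso_apl hXS a.2).1
      rw [hm.map_mul ((AM.cc S R).inv_mem hyX) (apl_mem _ hyX), hm.map_inv hyX,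
        apl_apl_inv _ hx] at h1
      rwa [apl_mul _ _ hx, apl_mul _ _ hyX]
    have hA : ∀ u ∈ V ⊓ T, ∀ c ∈ F.autGroup (AM.cc S R), u ∈ AM.cc S R → apl c u ∈ V ⊓ T :=
      fun u hu c hc hux => ⟨StronglyClosed.mor_mem h.scV (iso_apl hXS hc).1 hux hu.1,
        StronglyClosed.mor_mem h.scT (iso_apl hXS hc).1 hux hu.2⟩
    refine ⟨mul_mem (mul_mem a.2 hbF) hai, fun x hx => hconj R (fun u hu _ => hRmem a.2 u hu) x hx
      (hb1 _ (apl_mem _ hx)), fun x hx => hconj _ (fun u hu hux => hA u hu a a.2 hux) x (hRX hx)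
      (hb2 _ (hRmem hai x hx)), fun x hx => ?_⟩
    have hxX := hRX (h.inter_le hR hx)
    rw [apl_mul _ _ hxX, apl_mul _ _ (apl_mem _ hxX), hb3 _ (hA x hx _ hai hxX), apl_apl_inv _ hxX]
  have hLp : IsPGroup p (L.subgroupOf (F.autGroup (AM.cc S R))) := fun a => by
    obtain ⟨-, h1, h2, h3⟩ : ((a : F.autGroup (AM.cc S R)) : MulAut (AM.cc S R)) ∈ L := a.2
    obtain ⟨k, hk⟩ := AM.pow_eq_one_of_fix₂ (F := F) h.pS (h.inter_le hR) hRX hXS a.1.2 h3 h2 h1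
    exact ⟨k, Subtype.ext (Subtype.ext hk)⟩
  have hdS : d ∈ autInducedBy S (AM.cc S R) := by
    obtain ⟨-, U, hU⟩ := fullyAutomized_of_fullyNormalized h.pS h.nD.1.2.1
      (hp.fullyNormalized_cc hR hn)
    haveI := hLn
    have h1 : (⟨d, hdF⟩ : F.autGroup (AM.cc S R)) ∈ (U : Subgroup (F.autGroup (AM.cc S R))) :=
      (U.3 (hLp.to_sup_of_normal_left U.2) le_sup_right).le (Subgroup.mem_sup_left hdL)
    rw [hU] at h1
    exact h1
  have hηH : η ∈ AM.HH p F D D V R := Subgroup.mem_sup_left hη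
  have hdH : d ∈ AM.HH p F D D V R := by
    rw [hd, mul_assoc η σ η⁻¹, mul_assoc η (σ * η⁻¹) σ⁻¹]
    exact mul_mem hηH (hp.HH_normal hR hn hσ (inv_mem hηH))
  exact hp.HH_inter hR hn hdH hdS

/-- An automorphism of order prime to `p` of `D` extends to fix `T`. -/
theorem ext_fix (hR : AM.TC F V R) (hn : F.IsFullyNormalized R) {γ : MulAut R}
    (hγ : γ ∈ D.autGroup R) (hco : (orderOf γ).Coprime p) :
    ∃ k, Mor F (R ⊔ T) k ∧ (∀ x ∈ R, k x = apl γ x) ∧ ∀ t ∈ T, k t = t := by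
  have hp := AM.pair_self h.pS h.nD.1
  have hVS := h.scV.1
  have hXS := hp.cc_le_S hR
  obtain ⟨η, hηX, hηco, hηx⟩ := AM.res0_of_normal h.pS h.nD hR hn hγ hco
  have hηO : η ∈ AM.OO p F D D R := Subgroup.subset_closure ⟨hηX, hηco⟩
  have hηP := (hp.mem_XX hR).1 hηX
  have hTn : T ≤ normalizerIn S (AM.cc S R) := fun t ht => by
    rw [hp.normalizer_cc_eq hR]
    exact h.T_normalizer hR ht
  have hWS : AM.cc S R ⊔ T ≤ S := sup_le hXS h.scT.1
  haveI := finite_of_le hWS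
  haveI := finite_of_le hXS
  haveI : Finite (MulAut ↥(AM.cc S R ⊔ T)) := Finite.of_injective _ MulEquiv.toEquiv_injective
  have key : ∀ t ∈ T, ∃ v ∈ V, v ∈ Subgroup.normalizer (AM.cc S R : Set Ω) ∧
      ∀ x ∈ AM.cc S R, apl η (t * x * t⁻¹) = v * t * apl η x * (v * t)⁻¹ := by
    intro t ht
    obtain ⟨σ, hσ, hσx⟩ := (iso_conj_self (F := F) hXS (h.scT.1 ht) (hTn ht).2).exists_mem_autGroup
    obtain ⟨v, hv, hvn, hvx⟩ := mem_autInducedBy_iff.1 (h.comm_ext hR hn hηO ht hσx hσ)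
    refine ⟨v, hv, hvn, fun x hx => ?_⟩
    have hu : t * apl η x * t⁻¹ ∈ AM.cc S R :=
      (Subgroup.mem_normalizer_iff.1 (hTn ht).2 _).1 (apl_mem η hx)
    have h1 := hvx _ hu
    have e : apl (η * σ * η⁻¹ * σ⁻¹) (t * apl η x * t⁻¹) = apl η (t * x * t⁻¹) := by
      rw [apl_mul _ _ hu, ← hσx _ (apl_mem η hx), apl_inv_apl σ (apl_mem η hx),
        apl_mul _ _ (apl_mem η hx), apl_inv_apl η hx, apl_mul _ _ hx, hσx x hx]
    rw [e] at h1
    rw [h1]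
    group
  obtain ⟨k, hk, hkx⟩ := (isReceptive_iff.1 (hp.receptive_cc hR hn)).2 _ _ (iso_apl hXS hηP.1)
  have hW : AM.cc S R ⊔ T ≤ nPhi S (AM.cc S R) (apl η) :=
    sup_le (iso_apl hXS hηP.1).1.le_nPhi fun t ht => by
      obtain ⟨v, hv, -, hvx⟩ := key t ht
      exact mem_nPhi.2 ⟨h.scT.1 ht, (hTn ht).2, v * t, S.mul_mem (hVS hv) (h.scT.1 ht), hvx⟩
  have hkW := hk.mono hW
  have hstab : ∀ x ∈ AM.cc S R ⊔ T, k x ∈ AM.cc S R ⊔ T := fun x hx =>
    AM.maps_sup hkW le_sup_left le_sup_right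
      (fun a ha => Subgroup.mem_sup_left (by rw [hkx a ha]; exact apl_mem η ha))
      (fun a ha => Subgroup.mem_sup_right
        (StronglyClosed.mor_mem h.scT hkW (Subgroup.mem_sup_right ha) ha)) hx
  obtain ⟨β, hβ, hβk⟩ := (AM.iso_of_stable hkW hstab).exists_mem_autGroup
  obtain ⟨β', hβ', -, hβ'co, hβ'x⟩ := AM.exists_coprime_ext (P := AM.cc S R) le_sup_left hβ
    (fun x hx => by rw [hβk x (Subgroup.mem_sup_left hx), hkx x hx]) hηco
  have hWi := (iso_apl hWS hβ').1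
  have hRW : R ≤ AM.cc S R ⊔ T := AM.le_cc.trans le_sup_left
  let Y : Subgroup Ω := V ⊓ (AM.cc S R ⊔ T)
  have hYW : Y ≤ AM.cc S R ⊔ T := inf_le_right
  have hRY : R ≤ Y := le_inf hR.1 hRW
  have hYn : AM.cc S R ⊔ T ≤ Subgroup.normalizer (Y : Set Ω) := by
    intro w hw
    haveI := finite_of_le (hYW.trans hWS)
    exact mem_normalizer_of_conj_mem fun y hy =>
      ⟨h.conj_V (hWS hw) hy.1, mul_mem (mul_mem hw hy.2) (Subgroup.inv_mem _ hw)⟩
  have hQn : AM.cc S R ⊔ T ≤ Subgroup.normalizer ((Y ⊔ AM.cc S R : Subgroup Ω) : Set Ω) := by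
    intro w hw
    have hn1 : AM.cc S R ⊔ T ≤ Subgroup.normalizer (AM.cc S R : Set Ω) :=
      sup_le Subgroup.le_normalizer fun t ht => (hTn ht).2
    haveI := finite_of_le ((sup_le hYW le_sup_left : Y ⊔ AM.cc S R ≤ AM.cc S R ⊔ T).trans hWS)
    refine mem_normalizer_of_conj_mem fun y hy => ?_
    rw [Subgroup.sup_eq_closure] at hy
    induction hy using Subgroup.closure_induction with
    | mem z hz =>
      exact hz.elim
        (fun h' => Subgroup.mem_sup_left ((Subgroup.mem_normalizer_iff.1 (hYn hw) z).1 h'))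
        fun h' => Subgroup.mem_sup_right ((Subgroup.mem_normalizer_iff.1 (hn1 hw) z).1 h')
    | one => simp
    | mul a b _ _ iha ihb =>
      have := mul_mem iha ihb
      simpa [mul_assoc] using this
    | inv a _ iha =>
      have := inv_mem iha
      simpa [mul_assoc] using this
  have hQW : Y ⊔ AM.cc S R ≤ AM.cc S R ⊔ T := sup_le hYW le_sup_left
  have hXmod : ∀ x ∈ AM.cc S R, x⁻¹ * apl β' x ∈ Y := fun x hx => by
    rw [hβ'x x hx]
    exact hRY (hηP.2.1 x hx)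
  have hQmod : ∀ x ∈ Y ⊔ AM.cc S R, x⁻¹ * apl β' x ∈ Y := fun x hx =>
    AM.mod_sup hYW le_sup_left hYW hYn
      (fun y hy => mul_mem (inv_mem hy)
        ⟨StronglyClosed.mor_mem h.scV hWi (hYW hy) hy.1, apl_mem β' (hYW hy)⟩) hXmod hx
  have hTQ : ∀ t ∈ T, t⁻¹ * apl β' t ∈ Y ⊔ AM.cc S R := by
    intro t ht
    have htW : t ∈ AM.cc S R ⊔ T := Subgroup.mem_sup_right ht
    obtain ⟨v, hv, hvn, hvx⟩ := key t ht
    have hz : (v * t)⁻¹ * apl β' t ∈ AM.cc S R := by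
      refine AM.centralizer_le_cc (AM.mem_centralizerIn (S.mul_mem (S.inv_mem (S.mul_mem (hVS hv)
        (h.scT.1 ht))) (hWi.mem_S htW)) fun y hy => ?_)
      obtain ⟨x, hx, hxy⟩ := (hp.iso_R hR hηP.1).exists_eq hy
      have hxX := AM.le_cc (U := S) hx
      have htx := (Subgroup.mem_normalizer_iff.1 (hTn ht).2 x).1 hxX
      have h1 := hWi.map_conj htW (Subgroup.mem_sup_left hxX)
      rw [hβ'x _ htx, hβ'x x hxX, hvx x hxX, hxy] at h1
      calc (v * t)⁻¹ * apl β' t * y * ((v * t)⁻¹ * apl β' t)⁻¹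
          = (v * t)⁻¹ * (apl β' t * y * (apl β' t)⁻¹) * (v * t) := by group
        _ = (v * t)⁻¹ * (v * t * y * (v * t)⁻¹) * (v * t) := by rw [h1]
        _ = y := by group
    obtain ⟨z, hzdef⟩ : ∃ z, z = (v * t)⁻¹ * apl β' t := ⟨_, rfl⟩
    rw [← hzdef] at hz
    have hvY : t⁻¹ * v * t ∈ Y := by
      have e : t⁻¹ * v * t = t⁻¹ * apl β' t * z⁻¹ := by rw [hzdef]; group
      refine ⟨?_, e ▸ mul_mem (mul_mem (Subgroup.inv_mem _ htW) (apl_mem β' htW))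
        (Subgroup.inv_mem _ (Subgroup.mem_sup_left hz))⟩
      have := h.conj_V (S.inv_mem (h.scT.1 ht)) hv
      rwa [inv_inv] at this
    have e : t⁻¹ * apl β' t = t⁻¹ * v * t * z := by rw [hzdef]; group
    rw [e]
    exact mul_mem (Subgroup.mem_sup_left hvY) (Subgroup.mem_sup_right hz)
  have hWmod : ∀ x ∈ AM.cc S R ⊔ T, x⁻¹ * apl β' x ∈ Y ⊔ AM.cc S R := fun x hx =>
    AM.mod_sup le_sup_left le_sup_right hQW hQn
      (fun y hy => Subgroup.mem_sup_left (hXmod y hy)) hTQ hx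
  refine ⟨apl β', hWi.mono (sup_le_sup_right AM.le_cc T), fun x hx => by
    rw [hβ'x x (AM.le_cc hx), hηx x hx], fun t ht => ?_⟩
  have htW : t ∈ AM.cc S R ⊔ T := Subgroup.mem_sup_right ht
  have h1 := AM.mod_of_chain (α := β') h.pS le_sup_left hQW hWS hYn hβ'co hQmod hWmod htW
  have hA : t⁻¹ * apl β' t ∈ V ⊓ T :=
    ⟨h1.1, T.mul_mem (T.inv_mem ht) (StronglyClosed.mor_mem h.scT hWi htW ht)⟩
  refine eq_of_fixed_quot (h.pS.to_le hWS) hβ'co htW ?_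
  rw [hβ'x _ (AM.le_cc (h.inter_le hR hA))]
  exact h.fix _ _ hηP.2.2.1 _ (AM.le_cc (h.inter_le hR hA)) hA.2

end Sep

end Cfsg.Agent.FusSys.Component
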